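import Mathlib
import Cfsg.Agent.S0003
import Cfsg.Agent.S0205
import Cfsg.Agent.H03.Frobenius

/-! Small tools for Hall numbers: normal `p`-subgroups of solvable normal subgroups, groups with small Sylow 2-subgroups. -/

set_option autoImplicit false
open Cfsg Subgroup

namespace H20.Hn
universe u
variable {G : Type u} [Group G] [Finite G]

theorem solv_of_npc (h : HasNormalPComplement 2 G) : Group.IsSolvable G := by
  have := Fact.mk Nat.prime_two
  obtain ⟨N, _, h1, h3⟩ := H03.hasNPC_iff_exists.1 h
  have : Group.IsSolvable N := Cfsg.Agent.S0205.result (Nat.coprime_two_right.1 h1)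
  have := h3.isNilpotent
  exact Group.isSolvable_of_ker_le_range N.subtype (QuotientGroup.mk' N) (by simp)

theorem solv_of_not_four (h : ¬ 4 ∣ Nat.card G) : Group.IsSolvable G := by
  have := Fact.mk Nat.prime_two
  refine solv_of_npc (H03.hasNPC_of_coprime_pow_sub_one fun q hq _ j h1 h2 h3 => ?_)
  have : j ≤ 1 := by
    by_contra hc
    exact h ((pow_dvd_pow 2 (by omega : 2 ≤ j)).trans h2)
  obtain rfl : j = 1 := by omega
  exact hq.one_lt.ne' (by simpa using h3)

theorem exists_pnormal (N : Subgroup G) : N.Normal → Group.IsSolvable N → N ≠ ⊥ →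
    ∃ p : ℕ, p.Prime ∧ ∃ A : Subgroup G, A.Normal ∧ A ≠ ⊥ ∧ IsPGroup p A ∧ A ≤ N := by
  induction N using WellFoundedLT.induction with
  | _ N ih =>
  intro hN hs h1
  by_cases hc : ⁅N, N⁆ = ⊥
  · have hcm : ∀ a b : N, a * b = b * a := fun a b => by
      apply Subtype.ext
      have := commutator_mem_commutator a.2 b.2
      rw [hc, mem_bot, commutatorElement_eq_one_iff_mul_comm] at this
      exact this
    have : IsMulCommutative N := ⟨⟨hcm⟩⟩
    obtain ⟨p, hp, hd⟩ := Nat.exists_prime_and_dvd (n := Nat.card N) (by rwa [Ne, card_eq_one])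
    have := Fact.mk hp
    obtain ⟨P⟩ : Nonempty (Sylow p N) := inferInstance
    have : (P : Subgroup N).Normal := inferInstance
    have := P.characteristic_of_normal this
    refine ⟨p, hp, (P : Subgroup N).map N.subtype, inferInstance, ?_, P.isPGroup'.map _, map_subtype_le _⟩
    rw [Ne, map_eq_bot_iff_of_injective _ N.subtype_injective]
    exact P.ne_bot_of_dvd_card hd
  · have : Nontrivial N := (nontrivial_iff_ne_bot N).2 h1
    have hlt : ⁅N, N⁆ < N := by
      have h2 := Group.IsSolvable.commutator_lt_top_of_nontrivial N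
      have h3 := map_subtype_commutator N
      refine lt_of_le_of_ne (commutator_le_right N N) fun e => h2.ne ?_
      apply map_injective N.subtype_injective
      rw [h3, e, ← MonoidHom.range_eq_map, range_subtype]
    have hs' : Group.IsSolvable ↥(⁅N, N⁆) :=
      Group.isSolvable_of_isSolvable_injective (f := inclusion hlt.le) (inclusion_injective _)
    obtain ⟨p, hp, A, h4, h5, h6, h7⟩ := ih _ hlt inferInstance hs' hc
    exact ⟨p, hp, A, h4, h5, h6, h7.trans hlt.le⟩

/-- a non-solvable group with Sylow 2-subgroups of order at most 4: `3` divides the order of the Sylow normalizer -/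
theorem three_dvd_norm (hs : ¬ Group.IsSolvable G) (h8 : ¬ 8 ∣ Nat.card G) (T : Sylow 2 G) :
    3 ∣ Nat.card (normalizer ((T : Subgroup G) : Set G)) := by
  have := Fact.mk Nat.prime_two
  by_contra h3
  obtain ⟨D, hD, h1, -, q, hq, hq2, g, hg, ⟨k, hk⟩, hn⟩ :=
    H03.exists_not_commute_of_not_hasNPC T (fun h => hs (solv_of_npc h))
  obtain ⟨j, h2, h4, h5⟩ := H03.dvd_pow_sub_one_of_normalizes (T.2.to_le hD) hq hq2 hg ⟨k, hk⟩ hn
  have h6 : j ≤ 2 := by
    by_contra hc
    exact h8 (((pow_dvd_pow 2 (by omega : 3 ≤ j)).trans h4).trans (card_subgroup_dvd_card D))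
  have hDT : j = 2 → D = T := by
    rintro rfl
    refine eq_of_le_of_card_ge hD ?_
    obtain ⟨n, hn⟩ := IsPGroup.iff_card.1 T.isPGroup'
    have : n ≤ 2 := by
      by_contra hc
      exact h8 ((pow_dvd_pow 2 (by omega : 3 ≤ n)).trans (hn ▸ card_subgroup_dvd_card _))
    rw [hn]
    exact (Nat.pow_le_pow_right (by norm_num) this).trans (Nat.le_of_dvd Nat.card_pos h4)
  interval_cases j
  · exact hq.one_lt.ne' (by simpa using h5)
  · obtain rfl : q = 3 := (Nat.prime_dvd_prime_iff_eq hq Nat.prime_three).1 h5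
    rw [hDT rfl] at hg hn
    have hk0 : k ≠ 0 := by
      rintro rfl
      rw [pow_zero, orderOf_eq_one_iff] at hk
      exact hn (hk ▸ one_mem _)
    exact h3 ((dvd_pow_self 3 hk0).trans (hk ▸ (normalizer _).orderOf_dvd_natCard hg))

theorem of_sub (K : Subgroup G) {m : ℕ} (h : ∃ H : Subgroup K, Nat.card H = m) : ∃ H : Subgroup G, Nat.card H = m := by
  obtain ⟨H, hH⟩ := h
  exact ⟨H.map K.subtype, by rw [card_map_of_injective K.subtype_injective, hH]⟩

omit [Finite G] in
theorem of_equiv {X : Type*} [Group X] (e : G ≃* X) {m : ℕ} (h : ∃ H : Subgroup X, Nat.card H = m) :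
    ∃ H : Subgroup G, Nat.card H = m := by
  obtain ⟨H, hH⟩ := h
  exact ⟨H.map e.symm.toMonoidHom, by rw [card_map_of_injective e.symm.injective, hH]⟩

/-- The general induction: `M` is 24 or 60, the simple case is a hypothesis. -/
theorem hall_ind (M : ℕ) (hM : M = 24 ∨ M = 60)
    (hsim : ∀ (X : Type u) [Group X] [Finite X] [IsSimpleGroup X], ¬ Group.IsSolvable X → ∀ k, Nat.card X = M * k →
      k.Coprime M → ∃ H : Subgroup X, Nat.card H = M) (n : ℕ) :
    ∀ (G : Type u) [Group G] [Finite G], Nat.card G = n → ∀ m k, Nat.card G = m * k → m ∣ M → k.Coprime M →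
      ∃ H : Subgroup G, Nat.card H = m := by
  induction n using Nat.strong_induction_on with
  | _ n ih =>
  intro G _ _ hn m k hG hm hk
  have := Fact.mk Nat.prime_two
  have hmk : m.Coprime k := (hk.symm).coprime_dvd_left hm
  have hpos : 0 < Nat.card G := Nat.card_pos
  by_cases hs : Group.IsSolvable G
  · exact Cfsg.Agent.S0003.result m k hG hmk
  -- passing to a proper subgroup whose order is divisible by `m`
  have sub : ∀ K : Subgroup G, K ≠ ⊤ → m ∣ Nat.card K → ∃ H : Subgroup G, Nat.card H = m := by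
    intro K hK ⟨k', hk'⟩
    refine of_sub K (ih _ ?_ K rfl m k' hk' hm (hk.coprime_dvd_left ?_))
    · rw [← hn]
      refine lt_of_le_of_ne (Nat.le_of_dvd hpos (card_subgroup_dvd_card K)) fun e => hK ?_
      exact eq_top_of_card_eq _ e
    · have h1 := card_subgroup_dvd_card K
      rw [hk', hG] at h1
      exact Nat.dvd_of_mul_dvd_mul_left (Nat.pos_of_mul_pos_right (hG ▸ hpos)) h1
  by_cases hp : ∃ p : ℕ, p.Prime ∧ ∃ A : Subgroup G, A.Normal ∧ A ≠ ⊥ ∧ IsPGroup p A
  · obtain ⟨p, hp, A, hA, h1, h2⟩ := hp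
    have := Fact.mk hp
    obtain ⟨j, hj⟩ := IsPGroup.iff_card.1 h2
    have h3 := A.card_eq_card_quotient_mul_card_subgroup
    have h4 : 1 < Nat.card A := one_lt_card_iff_ne_bot A |>.2 h1
    have hlt : Nat.card (G ⧸ A) < n := by
      rw [← hn, h3]
      exact lt_mul_of_one_lt_right Nat.card_pos h4
    have hpre : ∀ H : Subgroup (G ⧸ A), Nat.card (H.comap (QuotientGroup.mk' A)) = Nat.card H * Nat.card A := by
      intro H
      have h5 := (H.comap (QuotientGroup.mk' A)).card_mul_index
      rw [index_comap_of_surjective _ (QuotientGroup.mk'_surjective A), h3, ← H.card_mul_index] at h5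
      apply Nat.eq_of_mul_eq_mul_right (Nat.pos_of_ne_zero (H.index_ne_zero_of_finite))
      rw [h5]; ring
    have hdvd : Nat.card A ∣ m * k := hG ▸ card_subgroup_dvd_card A
    by_cases hpm : p ∣ m
    · have h5 : (Nat.card A).Coprime k := by
        rw [hj]
        exact Nat.Coprime.pow_left _ (hmk.coprime_dvd_left hpm)
      obtain ⟨m', hm'⟩ := h5.dvd_of_dvd_mul_right hdvd
      obtain ⟨H, hH⟩ := ih _ hlt (G ⧸ A) rfl m' k (by
        apply Nat.eq_of_mul_eq_mul_right (by omega : 0 < Nat.card A)
        rw [← h3, hG, hm']; ring) ((Dvd.intro_left _ hm'.symm).trans hm) hk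
      exact ⟨_, by rw [hpre H, hH, hm', mul_comm]⟩
    · have h5 : (Nat.card A).Coprime m := by
        rw [hj]
        exact Nat.Coprime.pow_left _ ((Nat.Prime.coprime_iff_not_dvd hp).2 hpm)
      obtain ⟨k', hk'⟩ := h5.dvd_of_dvd_mul_left hdvd
      obtain ⟨H, hH⟩ := ih _ hlt (G ⧸ A) rfl m k' (by
        apply Nat.eq_of_mul_eq_mul_right (by omega : 0 < Nat.card A)
        rw [← h3, hG, hk']; ring) hm (hk.coprime_dvd_left (Dvd.intro_left _ hk'.symm))
      set K := H.comap (QuotientGroup.mk' A) with hK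
      have hAK : A ≤ K := fun a ha => by
        rw [hK, mem_comap, QuotientGroup.mk'_apply, (QuotientGroup.eq_one_iff a).2 ha]
        exact one_mem _
      have h6 : Nat.card (A.subgroupOf K) = Nat.card A := Nat.card_congr (subgroupOfEquivOfLe hAK).toEquiv
      have h7 : (A.subgroupOf K).index = m := by
        have := (A.subgroupOf K).card_mul_index
        rw [h6, hpre H, hH, mul_comm m] at this
        exact Nat.eq_of_mul_eq_mul_left (by omega) this
      obtain ⟨L, hL⟩ := exists_right_complement'_of_coprime (N := A.subgroupOf K) (by rwa [h6, h7])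
      exact of_sub K ⟨L, by rw [← hL.symm.index_eq_card, h7]⟩
  have hns : ∀ N : Subgroup G, N.Normal → N ≠ ⊥ → ¬ Group.IsSolvable N := fun N hN h1 h2 => by
    obtain ⟨p, h3, A, h4, h5, h6, -⟩ := exists_pnormal N hN h2 h1
    exact hp ⟨p, h3, A, h4, h5, h6⟩
  have h9 : ¬ 9 ∣ Nat.card G := by
    intro h
    have h1 : Nat.Coprime 9 k := by
      have : Nat.Coprime k 3 := hk.coprime_dvd_right (by rcases hM with rfl | rfl <;> norm_num)
      exact (Nat.Coprime.pow_right 2 this).symm
    have h2 := (h1.dvd_of_dvd_mul_right (hG ▸ h)).trans hm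
    rcases hM with rfl | rfl <;> omega
  -- the Frattini step
  have key : ∀ N : Subgroup G, N.Normal → N ≠ ⊥ → M ∣ Nat.card N ∨ ∃ H : Subgroup G, Nat.card H = m := by
    intro N hN h1
    have h2 := hns N hN h1
    obtain ⟨T⟩ : Nonempty (Sylow 2 N) := inferInstance
    set K := normalizer (((T : Subgroup N).map N.subtype : Subgroup G) : Set G) with hK
    have h4 : 4 ∣ Nat.card N := by
      by_contra hc
      exact h2 (solv_of_not_four hc)
    have hKt : K ≠ ⊤ := by
      intro e
      refine hp ⟨2, Nat.prime_two, (T : Subgroup N).map N.subtype, normalizer_eq_top_iff.1 e, ?_, T.isPGroup'.map _⟩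
      rw [Ne, map_eq_bot_iff_of_injective _ N.subtype_injective]
      exact T.ne_bot_of_dvd_card ((by norm_num : 2 ∣ 4).trans h4)
    have hsup : K ⊔ N = ⊤ := T.normalizer_sup_eq_top
    have hsub : K.subgroupOf N = normalizer ((T : Subgroup N) : Set N) := by
      rw [hK, subgroupOf_normalizer_eq (map_subtype_le _)]
      congr 2
      exact comap_map_eq_self_of_injective N.subtype_injective _
    have hi : K.index = (normalizer ((T : Subgroup N) : Set N)).index := by
      rw [← hsub]
      change _ = K.relIndex N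
      have h5 := relIndex_mul_index (inf_le_left : K ⊓ N ≤ K)
      have h6 := relIndex_mul_index (inf_le_right : K ⊓ N ≤ N)
      rw [inf_relIndex_right] at h6
      rw [inf_relIndex_left, ← relIndex_sup_right, hsup, relIndex_top_right, ← h6, mul_comm] at h5
      exact Nat.eq_of_mul_eq_mul_right (Nat.pos_of_ne_zero index_ne_zero_of_finite) h5
    have hi2 : ¬ 2 ∣ K.index := by
      rw [hi]
      exact fun h => T.not_dvd_index (h.trans (index_dvd_of_le le_normalizer))
    have hiN : K.index ∣ Nat.card N := hi ▸ index_dvd_card _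
    have hi3 : ¬ 8 ∣ Nat.card N → ¬ 3 ∣ K.index := fun h8 h3 => by
      have h5 := three_dvd_norm h2 h8 T
      have h6 := mul_dvd_mul h5 (hi ▸ h3)
      rw [card_mul_index] at h6
      exact h9 (h6.trans (card_subgroup_dvd_card N))
    by_cases hc : K.index.Coprime M
    · refine Or.inr (sub K hKt ?_)
      refine (hc.coprime_dvd_right hm).symm.dvd_of_dvd_mul_right ?_
      rw [card_mul_index, hG]
      exact dvd_mul_right _ _
    left
    obtain ⟨r, hr, h5, h6⟩ := Nat.Prime.not_coprime_iff_dvd.1 hc
    have hr2 : r ≠ 2 := by rintro rfl; exact hi2 h5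
    rcases hM with rfl | rfl
    · obtain rfl : r = 3 := by
        rcases (Nat.Prime.dvd_mul hr).1 (show r ∣ 2 ^ 3 * 3 from h6) with h | h
        · exact absurd ((Nat.prime_dvd_prime_iff_eq hr Nat.prime_two).1 (hr.dvd_of_dvd_pow h)) hr2
        · exact (Nat.prime_dvd_prime_iff_eq hr Nat.prime_three).1 h
      have h8 : 8 ∣ Nat.card N := by
        by_contra h8
        exact hi3 h8 h5
      exact Nat.Coprime.mul_dvd_of_dvd_of_dvd (by norm_num : Nat.Coprime 8 3) h8 (h5.trans hiN)
    · have h8 : ¬ 8 ∣ Nat.card N := by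
        intro h
        have h1 : Nat.Coprime 8 k := by
          have : Nat.Coprime k 2 := hk.coprime_dvd_right (by norm_num)
          exact (Nat.Coprime.pow_right 3 this).symm
        have h2 := (h1.dvd_of_dvd_mul_right (hG ▸ h.trans (card_subgroup_dvd_card N))).trans hm
        omega
      have h3 : 3 ∣ Nat.card N := (three_dvd_norm h2 h8 T).trans (card_subgroup_dvd_card _)
      obtain rfl : r = 5 := by
        rcases (Nat.Prime.dvd_mul hr).1 (show r ∣ 2 ^ 2 * 3 * 5 from h6) with h | h
        · rcases (Nat.Prime.dvd_mul hr).1 h with h | h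
          · exact absurd ((Nat.prime_dvd_prime_iff_eq hr Nat.prime_two).1 (hr.dvd_of_dvd_pow h)) hr2
          · exact absurd ((Nat.prime_dvd_prime_iff_eq hr Nat.prime_three).1 h ▸ h5) (hi3 h8)
        · exact (Nat.prime_dvd_prime_iff_eq hr Nat.prime_five).1 h
      exact Nat.Coprime.mul_dvd_of_dvd_of_dvd (by norm_num : Nat.Coprime 12 5)
        (Nat.Coprime.mul_dvd_of_dvd_of_dvd (by norm_num : Nat.Coprime 4 3) h4 h3) (h5.trans hiN)
  have : Nontrivial G := by
    by_contra hc
    rw [not_nontrivial_iff_subsingleton] at hc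
    exact hs inferInstance
  by_cases hsi : IsSimpleGroup G
  · rcases key ⊤ inferInstance top_ne_bot with h | h
    · rw [card_top, hG] at h
      obtain rfl : m = M := Nat.dvd_antisymm hm (hk.symm.dvd_of_dvd_mul_right h)
      exact hsim G hs k hG hk
    · exact h
  · obtain ⟨N, hN, h1, h2⟩ : ∃ N : Subgroup G, N.Normal ∧ N ≠ ⊥ ∧ N ≠ ⊤ := by
      by_contra hc
      push Not at hc
      exact hsi ⟨fun N hN => or_iff_not_imp_left.2 (hc N hN)⟩
    rcases key N hN h1 with h | h
    · exact sub N h2 (hm.trans h)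
    · exact h

end H20.Hn
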