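import Mathlib
import Cfsg.Agent.H07.Glb6
import Cfsg.Agent.H07.Cnt

/-!
H20.McK1: Gallagher's count of the irreducible characters over an invariant character.
* `H20.Ov h φ`: irreducible characters over `φ`; `H20.Ext θ U`: `θ` extends to `U`.
* `H20.card_ov_mul`: the number of characters over `θ` in terms of good commuting pairs.
* `H20.card_ov_eq`: comparison of two triples with the same extendible abelian sections.
-/

set_option autoImplicit false

open Cfsg H05 H06 H07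
open scoped ComplexConjugate commutatorElement

namespace H20

universe u

section Basic

variable {Γ : Type*} [Group Γ] {L X S U Y : Subgroup Γ}

/-- irreducible characters of `X` over `φ` -/
def Ov [Finite Γ] (h : L ≤ X) (φ : L → ℂ) : Set (X → ℂ) :=
  {χ | IsIrrCharacter X χ ∧ mult (Subgroup.inclusion h) χ φ ≠ 0}

theorem irrOver_eq_ov [Finite Γ] (h : L ≤ X) (hS : S ≤ X) (φ : L → ℂ) : IrrOver S h φ = Ov h φ := by
  ext χ
  exact ⟨fun h => ⟨h.1.1, h.2⟩, fun h => ⟨⟨h.1, hS.trans (le_stab_self h.1.isClassFunction)⟩, h.2⟩⟩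

instance finite_ov [Finite Γ] (h : L ≤ X) (φ : L → ℂ) : Finite (Ov h φ) :=
  Finite.of_injective (fun χ : Ov h φ => (⟨χ.1, χ.2.1⟩ : IrrCharacter X))
    fun _ _ e => Subtype.ext (congrArg (fun x : IrrCharacter X => x.1) e)

/-- `θ` extends to `U` -/
def Ext (θ : L → ℂ) (U : Subgroup Γ) : Prop :=
  ∃ χ : U → ℂ, IsCharacter U χ ∧ ∀ (n : L) (hn : (n : Γ) ∈ U), χ ⟨n, hn⟩ = θ n

theorem Ext.mono {θ : L → ℂ} (h : Ext θ U) (hX : X ≤ U) : Ext θ X := by
  obtain ⟨χ, h1, h2⟩ := h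
  exact ⟨fun x => χ (Subgroup.inclusion hX x), h1.comp _, fun n hn => h2 n (hX hn)⟩

theorem isIrr_of_res [Finite Γ] (h : L ≤ U) {θ : L → ℂ} (hθ : IsIrrCharacter L θ) {χ : U → ℂ}
    (hχ : IsCharacter U χ) (e : ∀ n, χ (Subgroup.inclusion h n) = θ n) : IsIrrCharacter U χ :=
  H05.Cfsg.IsIrrCharacter.of_comp hχ (Subgroup.inclusion h) (by rw [funext e]; exact hθ)

theorem res_eq_mult [Finite Γ] (h : L ≤ X) {θ : L → ℂ} (hθ : IsIrrCharacter L θ) (hX : X ≤ stab θ) {χ : X → ℂ}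
    (hχ : χ ∈ Ov h θ) (n : L) : χ (Subgroup.inclusion h n) = mult (Subgroup.inclusion h) χ θ * θ n := by
  have h1 := congrFun (comp_eq_sum_mult (Subgroup.inclusion h) hχ.1.isCharacter) n
  rw [h1, Finset.sum_apply, Finset.sum_eq_single (⟨θ, hθ⟩ : IrrCharacter L)]
  · rfl
  · intro η _ hne
    by_cases h2 : mult (Subgroup.inclusion h) χ η = 0
    · simp [h2]
    obtain ⟨g, hg, e⟩ := exists_cjA_of_under h (hX.trans (stab_le_normalizer θ)) hχ.1 hθ η.2 hχ.2 h2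
    exact absurd (Subtype.ext (e.trans (funext fun l => (mem_stab _).1 (hX hg) l))) hne
  · simp

theorem ext_iff [Finite Γ] (h : L ≤ U) {θ : L → ℂ} (hθ : IsIrrCharacter L θ) (hU : U ≤ stab θ) :
    Ext θ U ↔ ∃ χ ∈ Ov h θ, χ 1 = θ 1 := by
  refine ⟨fun ⟨χ, h1, h2⟩ => ⟨χ, ⟨isIrr_of_res h hθ h1 fun n => h2 n _, ?_⟩, h2 1 U.one_mem⟩, fun ⟨χ, h1, h2⟩ => ?_⟩
  · rw [mult_of_comp_eq hθ fun n => h2 n _]; exact one_ne_zero
  refine ⟨χ, h1.1.isCharacter, fun n hn => ?_⟩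
  have h3 := res_eq_mult h hθ hU h1 1
  rw [map_one, h2] at h3
  have h4 : (mult (Subgroup.inclusion h) χ θ : ℂ) = 1 :=
    mul_right_cancel₀ hθ.apply_one_ne_zero (by rw [one_mul]; exact h3.symm)
  have := res_eq_mult h hθ hU h1 n
  rwa [h4, one_mul] at this

end Basic

section Good

variable {Γ : Type*} [Group Γ] {Q : Type*} [Group Q] {X Y Z : Subgroup Γ}

/-- preimage of `A ≤ Q` in `X` -/
def pre (q : X →* Q) (A : Subgroup Q) : Subgroup Γ := (A.comap q).map X.subtype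

theorem mem_pre {q : X →* Q} {A : Subgroup Q} {x : Γ} : x ∈ pre q A ↔ ∃ hx : x ∈ X, q ⟨x, hx⟩ ∈ A :=
  ⟨fun ⟨y, h1, h2⟩ => h2 ▸ ⟨y.2, h1⟩, fun ⟨h1, h2⟩ => ⟨⟨x, h1⟩, h2, rfl⟩⟩

theorem pre_le (q : X →* Q) (A : Subgroup Q) : pre q A ≤ X := Subgroup.map_subtype_le _

/-- good commuting pairs -/
def GP (q : X →* Q) (θ : Y → ℂ) : Set (Q × Q) :=
  {ab | ab.1 * ab.2 = ab.2 * ab.1 ∧ ∀ b, ab.1 * b = b * ab.1 → Ext θ (pre q (Subgroup.closure {ab.1, b}))}

theorem card_preimage_hom {A B : Type*} [Group A] [Group B] [Finite A] (f : A →* B) (hf : Function.Surjective f)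
    (s : Set B) : Nat.card (f ⁻¹' s) = Nat.card f.ker * Nat.card s := by
  have e := QuotientGroup.quotientKerEquivOfSurjective f hf
  have h1 : f ⁻¹' s = QuotientGroup.mk ⁻¹' ((QuotientGroup.quotientKerEquivOfSurjective f hf) ⁻¹' s) := rfl
  rw [h1, QuotientGroup.card_preimage_mk]
  congr 1
  exact Nat.card_congr ((QuotientGroup.quotientKerEquivOfSurjective f hf).toEquiv.subtypeEquiv fun _ => Iff.rfl)

theorem comap_closure_le {A : Type*} [Group A] (q : A →* Q) {H : Subgroup A} (hk : q.ker ≤ H) {x y : A}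
    (hx : x ∈ H) (hy : y ∈ H) : (Subgroup.closure {q x, q y}).comap q ≤ H := by
  have : Subgroup.closure {q x, q y} ≤ H.map q := by
    rw [Subgroup.closure_le]
    rintro _ (rfl | rfl)
    exacts [⟨x, hx, rfl⟩, ⟨y, hy, rfl⟩]
  exact (Subgroup.comap_mono this).trans (Subgroup.comap_map_eq_self hk).le

theorem ext_central_iff [Finite Γ] (hZ : Z ≤ Subgroup.center Γ) (hZX : Z ≤ X) {lam : Z →* ℂˣ}
    (hl : Function.Injective lam) {q : X →* Q} (hq : ∀ x, q x = 1 ↔ (x : Γ) ∈ Z) {x y : X}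
    (h : q x * q y = q y * q x) :
    Ext (fun z => (lam z : ℂ)) (pre q (Subgroup.closure {q x, q y})) ↔ x * y = y * x := by
  have hx : (x : Γ) ∈ pre q (Subgroup.closure {q x, q y}) := mem_pre.2 ⟨x.2, Subgroup.subset_closure (by simp)⟩
  have hy : (y : Γ) ∈ pre q (Subgroup.closure {q x, q y}) := mem_pre.2 ⟨y.2, Subgroup.subset_closure (by simp)⟩
  constructor
  · rintro ⟨χ, h1, h2⟩
    obtain ⟨φ, rfl⟩ := h1.exists_monoidHom ((h2 1 (Subgroup.one_mem _)).trans (by simp))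
    have h3 : ((x * y * x⁻¹ * y⁻¹ : X) : Γ) ∈ Z := (hq _).1 (by simp [h])
    have h4 := h2 ⟨_, h3⟩ (mul_mem (mul_mem (mul_mem hx hy) (inv_mem hx)) (inv_mem hy))
    have h5 : φ (⟨x, hx⟩ * ⟨y, hy⟩ * ⟨x, hx⟩⁻¹ * ⟨y, hy⟩⁻¹) = 1 := by
      simp only [map_mul, map_inv]; rw [mul_comm (φ ⟨x, hx⟩)]; simp
    have h6 : lam ⟨_, h3⟩ = lam 1 := by
      rw [map_one]; exact Units.val_injective (h4.symm.trans (congrArg Units.val h5))
    have h7 := congrArg Subtype.val (hl h6)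
    have h8 : x * y * x⁻¹ * y⁻¹ = 1 := Subtype.ext h7
    rwa [mul_inv_eq_one, mul_inv_eq_iff_eq_mul] at h8
  · intro hc
    have hk : ∀ u : X, q.ker ≤ Subgroup.centralizer {u} := fun u z hz => by
      rw [Subgroup.mem_centralizer_singleton_iff]
      exact Subtype.ext (Subgroup.mem_center_iff.1 (hZ ((hq z).1 hz)) u).symm
    have h1 := comap_closure_le q (hk x) (x := x) (y := y) (Subgroup.mem_centralizer_singleton_iff.2 rfl)
      (Subgroup.mem_centralizer_singleton_iff.2 hc.symm)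
    have h2 := comap_closure_le q (hk y) (x := x) (y := y) (Subgroup.mem_centralizer_singleton_iff.2 hc)
      (Subgroup.mem_centralizer_singleton_iff.2 rfl)
    have : IsMulCommutative (pre q (Subgroup.closure {q x, q y})) := ⟨⟨by
      rintro ⟨_, u, hu, rfl⟩ ⟨_, v, hv, rfl⟩
      have h3 := comap_closure_le q (hk u) (x := x) (y := y)
        (Subgroup.mem_centralizer_singleton_iff.2 (Subgroup.mem_centralizer_singleton_iff.1 (h1 hu)).symm)
        (Subgroup.mem_centralizer_singleton_iff.2 (Subgroup.mem_centralizer_singleton_iff.1 (h2 hu)).symm) hv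
      exact Subtype.ext (congrArg X.subtype (Subgroup.mem_centralizer_singleton_iff.1 h3).symm)⟩⟩
    have hle : Z ≤ pre q (Subgroup.closure {q x, q y}) := fun z hz =>
      mem_pre.2 ⟨hZX hz, by rw [(hq ⟨z, hZX hz⟩).2 hz]; exact one_mem _⟩
    obtain ⟨μ, hμ⟩ := exists_ext_hom_of_comm (Z.subgroupOf (pre q (Subgroup.closure {q x, q y})))
      (lam.comp (Subgroup.subgroupOfEquivOfLe hle).toMonoidHom)
    exact ⟨fun g => μ g, isCharacter_monoidHom μ, fun n hn => congrArg Units.val (hμ ⟨⟨n, hn⟩, n.2⟩)⟩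

theorem card_ov_central [Finite Γ] (hZ : Z ≤ Subgroup.center Γ) (hZX : Z ≤ X) {lam : Z →* ℂˣ}
    (hl : Function.Injective lam) {q : X →* Q} (hs : Function.Surjective q) (hq : ∀ x, q x = 1 ↔ (x : Γ) ∈ Z) :
    Nat.card (Ov hZX fun z => (lam z : ℂ)) * Nat.card Q = Nat.card (GP q fun z => (lam z : ℂ)) := by
  classical
  have := Fintype.ofFinite X
  have := Fintype.ofFinite Z
  let F : X → ℂ := fun g => if h : (g : Γ) ∈ Z then lam ⟨g, h⟩ else 0
  have hlc := isIrrCharacter_monoidHom lam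
  have hst : X ≤ stab fun z => (lam z : ℂ) := fun g _ =>
    centralizer_le_stab _ fun z hz => (Subgroup.mem_center_iff.1 (hZ hz) g).symm
  -- first evaluation
  have h1 : ∀ g : X, (Nat.card X : ℂ) * F g =
      ∑ z : Z, lam z * ∑ χ : IrrCharacter X, χ.1 1 * χ.1 (g * (Subgroup.inclusion hZX z)⁻¹) := fun g => by
    simp only [sum_degree_mul_apply, regChar, mul_inv_eq_one, mul_ite, mul_zero]
    by_cases h : (g : Γ) ∈ Z
    · rw [Finset.sum_eq_single (⟨g, h⟩ : Z), if_pos (show g = Subgroup.inclusion hZX ⟨g, h⟩ from rfl)]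
      rotate_left
      · exact fun z _ hz => if_neg fun e => hz (Subtype.ext (by simp [e]))
      · simp
      simp [F, h, mul_comm]
    · rw [Finset.sum_eq_zero fun z _ => if_neg fun e => h (by rw [e]; exact z.2)]
      simp [F, h]
  have h2 : ∀ χ : IrrCharacter X, ∑ z : Z, (lam z : ℂ) * χ.1 (Subgroup.inclusion hZX z)⁻¹ =
      if χ.1 ∈ Ov hZX (fun z => (lam z : ℂ)) then Nat.card Z * χ.1 1 else 0 := fun χ => by
    have h3 := mult_eq (Subgroup.inclusion hZX) χ.2.isCharacter hlc.isCharacter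
    rw [(χ.2.isCharacter.comp _).classInner_comm hlc.isCharacter, (χ.2.isCharacter.comp _).classInner_eq_inv,
      eq_inv_mul_iff_mul_eq₀ (natCard_ne_zero Z)] at h3
    simp only [map_inv] at h3
    rw [← h3]
    split_ifs with h
    · have := res_eq_mult hZX hlc hst h 1
      simp only [map_one, Units.val_one, mul_one] at this
      rw [this]
    · have : mult (Subgroup.inclusion hZX) χ.1 (fun z => (lam z : ℂ)) = 0 := by
        by_contra h4; exact h ⟨χ.2, h4⟩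
      rw [this]; simp
  have h3 : ∑ x : X, ∑ y : X, F (x * y * x⁻¹ * y⁻¹) =
      Nat.card X * Nat.card Z * Nat.card (Ov hZX fun z => (lam z : ℂ)) := by
    apply mul_left_cancel₀ (natCard_ne_zero X)
    simp only [Finset.mul_sum, h1]
    have h4 : ∀ z : Z, ∀ χ : IrrCharacter X, ∑ x : X, ∑ y : X, (lam z : ℂ) *
        (χ.1 1 * χ.1 (x * y * x⁻¹ * y⁻¹ * (Subgroup.inclusion hZX z)⁻¹)) =
        (Nat.card X : ℂ) ^ 2 / χ.1 1 * (lam z * χ.1 (Subgroup.inclusion hZX z)⁻¹) := fun z χ => by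
      simp only [← Finset.mul_sum, sum_comm_mul χ.2]
      have := χ.2.apply_one_ne_zero
      field_simp
    calc _ = ∑ χ : IrrCharacter X, ∑ z : Z, ∑ x : X, ∑ y : X, (lam z : ℂ) *
        (χ.1 1 * χ.1 (x * y * x⁻¹ * y⁻¹ * (Subgroup.inclusion hZX z)⁻¹)) := by
          simp only [← Fintype.sum_prod_type']
          exact Fintype.sum_equiv ⟨fun a => (a.2.2.2, a.2.2.1, a.1, a.2.1), fun a => (a.2.2.1, a.2.2.2, a.2.1, a.1),
            fun _ => rfl, fun _ => rfl⟩ _ _ fun _ => rfl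
      _ = ∑ χ : IrrCharacter X, if χ.1 ∈ Ov hZX (fun z => (lam z : ℂ)) then
          (Nat.card X : ℂ) ^ 2 * Nat.card Z else 0 := by
          refine Finset.sum_congr rfl fun χ _ => ?_
          rw [Finset.sum_congr rfl fun z _ => h4 z χ, ← Finset.mul_sum, h2]
          have := χ.2.apply_one_ne_zero
          split_ifs
          · field_simp
          · simp
      _ = _ := by
          rw [← Finset.sum_filter, Finset.sum_const, nsmul_eq_mul, ← Fintype.card_subtype, ← Nat.card_eq_fintype_card,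
            Nat.card_congr (β := Ov hZX fun z => (lam z : ℂ))
              ⟨fun a => ⟨a.1.1, a.2⟩, fun a => ⟨⟨a.1, a.2.1⟩, a.2⟩, fun _ => rfl, fun _ => rfl⟩]
          ring
  -- second evaluation
  have h4 : ∀ x : X, ∑ y : X, F (x * y * x⁻¹ * y⁻¹) =
      ∑ y : X, if (q x, q y) ∈ GP q (fun z => (lam z : ℂ)) then 1 else 0 := fun x => by
    let C := (Subgroup.centralizer {q x}).comap q
    have hC : ∀ y, y ∈ C ↔ q x * q y = q y * q x := fun y => by
      rw [Subgroup.mem_comap, Subgroup.mem_centralizer_singleton_iff, eq_comm]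
    have hm : ∀ y, ((x * y * x⁻¹ * y⁻¹ : X) : Γ) ∈ Z ↔ y ∈ C := fun y => by
      rw [← hq, hC]; simp [mul_inv_eq_iff_eq_mul]
    let φ : C →* ℂ := (Units.coeHom ℂ).comp <| MonoidHom.mk' (fun y : C => lam ⟨_, (hm y).2 y.2⟩) fun a b => by
      rw [← map_mul]
      congr 1
      have := Subgroup.mem_center_iff.1 (hZ ((hm b).2 b.2)) ((a : X) : Γ)⁻¹
      apply Subtype.ext
      simp only [Subgroup.coe_mul, Subgroup.coe_inv] at this ⊢
      calc _ = ((x : Γ) * a * x⁻¹ * (a : X)⁻¹) * (a : X) * (x * b * x⁻¹ * (b : X)⁻¹ * (a : X)⁻¹) := by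
            simp only [Subgroup.coe_inv]; group
        _ = _ := by simp only [Subgroup.coe_inv]; rw [← this]; group
    have h5 : ∑ y : X, F (x * y * x⁻¹ * y⁻¹) = ∑ y : C, φ y := by
      rw [← Finset.sum_subset (Finset.subset_univ (Finset.univ.filter (· ∈ C))) fun y _ hy =>
        dif_neg fun h => hy (by simpa using (hm y).1 h), Finset.sum_subtype (p := (· ∈ C)) _ (by simp)]
      exact Finset.sum_congr rfl fun y _ => dif_pos ((hm y).2 y.2)
    have h6 : φ = 1 ↔ ∀ b, q x * b = b * q x →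
        Ext (fun z => (lam z : ℂ)) (pre q (Subgroup.closure {q x, b})) := by
      constructor
      · intro h b hb
        obtain ⟨y, rfl⟩ := hs b
        have h7 : lam ⟨_, (hm y).2 ((hC y).2 hb)⟩ = lam 1 := by
          rw [map_one]; exact Units.val_injective (DFunLike.congr_fun h ⟨y, (hC y).2 hb⟩ :)
        have h8 : x * y * x⁻¹ * y⁻¹ = 1 := Subtype.ext (congrArg (fun z : Z => (z : Γ)) (hl h7))
        rw [ext_central_iff hZ hZX hl hq hb]
        rwa [mul_inv_eq_one, mul_inv_eq_iff_eq_mul] at h8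
      · intro h
        ext y
        have h7 := (ext_central_iff hZ hZX hl hq ((hC y).1 y.2)).1 (h _ ((hC y).1 y.2))
        have h8 : (⟨_, (hm y).2 y.2⟩ : Z) = 1 := Subtype.ext (by simp [← Subgroup.coe_mul, h7])
        change ((lam _ : ℂˣ) : ℂ) = 1
        rw [h8]; simp
    rw [h5, sum_hom_units]
    split_ifs with h
    · simp only [GP, Set.mem_ofPred_eq, ← h6, h, and_true, ← hC]
      rw [Finset.sum_boole, Fintype.card_subtype]
    · simp only [GP, Set.mem_ofPred_eq, ← h6, h, and_false]; simp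
  have h5 : ∑ x : X, ∑ y : X, F (x * y * x⁻¹ * y⁻¹) =
      Nat.card Z * Nat.card Z * Nat.card (GP q fun z => (lam z : ℂ)) := by
    simp only [h4, ← Fintype.sum_prod_type']
    have h6 := card_preimage_hom (q.prodMap q) (hs.prodMap hs) (GP q fun z => (lam z : ℂ))
    have h7 : Nat.card q.ker = Nat.card Z := Nat.card_congr
      ⟨fun a => ⟨a.1, (hq _).1 a.2⟩, fun a => ⟨⟨a.1, hZX a.2⟩, (hq _).2 a.2⟩, fun _ => rfl, fun _ => rfl⟩
    rw [MonoidHom.ker_prodMap, Nat.card_congr (Subgroup.prodEquiv _ _).toEquiv, Nat.card_prod, h7] at h6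
    rw [Finset.sum_boole, ← Nat.cast_mul, ← Nat.cast_mul, ← h6, ← Fintype.card_subtype, Nat.card_eq_fintype_card]
    rfl
  have h6 : Nat.card X = Nat.card Z * Nat.card Q := by
    have h7 : Nat.card q.ker = Nat.card Z := Nat.card_congr
      ⟨fun a => ⟨a.1, (hq _).1 a.2⟩, fun a => ⟨⟨a.1, hZX a.2⟩, (hq _).2 a.2⟩, fun _ => rfl, fun _ => rfl⟩
    rw [← h7, ← Subgroup.card_top (G := Q), ← MonoidHom.range_eq_top.2 hs, ← Subgroup.index_ker, q.ker.card_mul_index]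
  rw [h3, h6] at h5
  have h7 := natCard_ne_zero Z
  apply Nat.cast_injective (R := ℂ)
  push_cast at h5 ⊢
  apply mul_left_cancel₀ (mul_ne_zero h7 h7)
  rw [← h5]; ring

theorem Span.ext_iff {Γ' Γ'' : Type*} [Group Γ'] [Group Γ''] [Finite Γ] [Finite Γ'] [Finite Γ''] {π : Γ' →* Γ}
    {ρ : Γ' →* Γ''} {h : Y ≤ X} {Z : Subgroup Γ''} {θ : Y → ℂ} {lam : Z → ℂ} {α : X.comap π → ℂ}
    (hS : Span π ρ X h Z θ lam α) (hX : X ≤ stab θ) {U : Subgroup Γ} (hU : Y ≤ U) (hUX : U ≤ X) :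
    Ext θ U ↔ Ext lam (sp π ρ U) := by
  have hb := hS.bij hU hUX hUX Subgroup.le_normalizer
  rw [irrOver_eq_ov _ le_rfl, irrOver_eq_ov _ le_rfl] at hb
  rw [H20.ext_iff hU hS.hθ (hUX.trans hX), H20.ext_iff (hS.le_sp hU) hS.hlam.1 (le_top.trans hS.hlam.2)]
  constructor
  · rintro ⟨χ, h1, h2⟩
    obtain ⟨ψ, h3, h4⟩ := hb.ex χ h1
    have h5 := h4.apply_one
    rw [h2, mul_comm] at h5
    exact ⟨ψ, h3, (mul_right_cancel₀ hS.hθ.apply_one_ne_zero h5).symm⟩
  · rintro ⟨ψ, h1, h2⟩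
    obtain ⟨χ, h3, h4⟩ := hb.ex' ψ h1
    have h5 := h4.apply_one
    rw [h2, mul_comm (lam 1)] at h5
    exact ⟨χ, h3, mul_right_cancel₀ hS.hlam.1.apply_one_ne_zero h5⟩

end Good

theorem card_ov_mul {Γ : Type u} [Group Γ] [Finite Γ] {Q : Type*} [Group Q] {X Y : Subgroup Γ} (h : Y ≤ X)
    {θ : Y → ℂ} (hθ : IsIrrCharacter Y θ) (hX : X ≤ stab θ) {q : X →* Q} (hs : Function.Surjective q)
    (hq : ∀ x, q x = 1 ↔ (x : Γ) ∈ Y) : Nat.card (Ov h θ) * Nat.card Q = Nat.card (GP q θ) := by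
  obtain ⟨Γ', Γ'', _, _, _, _, π, ρ, Z, lam, α, hS, hZ, hl, -⟩ :=
    exists_span h le_rfl Subgroup.le_normalizer (θ := θ) ⟨hθ, hX⟩
  have hπ : ∀ x, π x ∈ X := fun x => hS.range.le ⟨x, rfl⟩
  let q' : Γ'' →* Q := ρ.liftOfSurjective hS.surj ⟨q.comp (π.codRestrict X hπ), fun x hx =>
    (hq _).2 (hS.mem_Z.1 (by rw [hx]; exact one_mem _))⟩
  have hq' : ∀ x, q' (ρ x) = q ⟨π x, hπ x⟩ := fun x => MonoidHom.liftOfRightInverse_comp_apply _ _ _ _ x
  have hb := hS.bij h le_rfl le_rfl Subgroup.le_normalizer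
  rw [irrOver_eq_ov _ le_rfl, irrOver_eq_ov _ le_rfl] at hb
  have h1 : ∀ A, sp π ρ (pre q A) = pre (q'.comp (sp π ρ X).subtype) A := fun A => by
    ext x
    obtain ⟨x, rfl⟩ := hS.surj x
    rw [hS.mem_sp fun y hy => mem_pre.2 ⟨h hy, by rw [(hq ⟨y, h hy⟩).2 hy]; exact one_mem _⟩, mem_pre, mem_pre]
    exact ⟨fun ⟨_, h2⟩ => ⟨(hS.mem_sp h).2 (hπ x), (hq' x).symm ▸ h2⟩, fun ⟨_, h2⟩ => ⟨hπ x, hq' x ▸ h2⟩⟩
  rw [hb.card_eq, card_ov_central hZ (hS.le_sp h) hl (q := q'.comp (sp π ρ X).subtype)]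
  · congr 1
    refine congrArg _ (Set.ext fun ab => and_congr_right fun _ => forall₂_congr fun b _ => ?_)
    rw [← h1, Span.ext_iff hS hX (fun y hy => mem_pre.2 ⟨h hy, by rw [(hq ⟨y, h hy⟩).2 hy]; exact one_mem _⟩)
      (pre_le _ _)]
  · intro a
    obtain ⟨⟨x, hx⟩, rfl⟩ := hs a
    obtain ⟨x, rfl⟩ := hS.range.ge hx
    exact ⟨⟨ρ x, (hS.mem_sp h).2 hx⟩, hq' x⟩
  · rintro ⟨x, hx⟩
    obtain ⟨x, rfl⟩ := hS.surj x
    exact ((hq' x).congr_left.trans (hq _)).trans hS.mem_Z.symm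

theorem card_ov_eq {Γ : Type u} [Group Γ] [Finite Γ] {T Y N D : Subgroup Γ} (hY : Y ≤ T) (hN : N ≤ T)
    (hT : T ≤ Y ⊔ N) (hD : D = Y ⊓ N) (hDN : D ≤ N) {ξ : Y → ℂ} (hξ : IsIrrCharacter Y ξ) (h1 : T ≤ stab ξ)
    {η : D → ℂ} (hη : IsIrrCharacter D η) (h2 : N ≤ stab η)
    (H : ∀ U, Y ≤ U → U ≤ T → ⁅U, U⁆ ≤ Y → (Ext ξ U ↔ Ext η (U ⊓ N))) :
    Nat.card (Ov hY ξ) = Nat.card (Ov hDN η) := by
  have hn := normal_subgroupOf (h1.trans (stab_le_normalizer ξ))
  let q := QuotientGroup.mk' (Y.subgroupOf T)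
  have hq : ∀ x, q x = 1 ↔ (x : Γ) ∈ Y := fun x => QuotientGroup.eq_one_iff x
  have a1 := card_ov_mul hY hξ h1 (q := q) (QuotientGroup.mk'_surjective _) hq
  have a2 := card_ov_mul hDN hη h2 (q := q.comp (Subgroup.inclusion hN)) (fun a => ?_) fun x => ?_
  · apply Nat.eq_of_mul_eq_mul_right (Nat.card_pos (α := T ⧸ Y.subgroupOf T))
    rw [a1, a2]
    congr 1
    refine congrArg _ (Set.ext fun ab => and_congr_right fun _ => forall₂_congr fun b hb => ?_)
    rw [H _ (fun y hy => mem_pre.2 ⟨hY hy, by rw [(hq ⟨y, hY hy⟩).2 hy]; exact one_mem _⟩) (pre_le _ _)]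
    · refine iff_of_eq (congrArg _ (Subgroup.ext fun x => ?_))
      rw [Subgroup.mem_inf, mem_pre, mem_pre]
      exact ⟨fun ⟨⟨_, h3⟩, h4⟩ => ⟨h4, h3⟩, fun ⟨h4, h3⟩ => ⟨⟨hN h4, h3⟩, h4⟩⟩
    · refine Subgroup.commutator_le.2 fun x hx y hy => ?_
      obtain ⟨hx, hx'⟩ := mem_pre.1 hx
      obtain ⟨hy, hy'⟩ := mem_pre.1 hy
      have h3 : Commute (q ⟨x, hx⟩) (q ⟨y, hy⟩) := by
        refine Subgroup.closure_induction₂ (p := fun a b _ _ => Commute a b) ?_ (fun _ _ => Commute.one_left _)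
          (fun _ _ => Commute.one_right _) (fun _ _ _ _ _ _ => Commute.mul_left) (fun _ _ _ _ _ _ => Commute.mul_right)
          (fun _ _ _ _ => Commute.inv_left) (fun _ _ _ _ => Commute.inv_right) hx' hy'
        rintro _ _ (rfl | rfl) (rfl | rfl)
        exacts [rfl, hb, hb.symm, rfl]
      exact (hq ⁅(⟨x, hx⟩ : T), ⟨y, hy⟩⁆).1 (by rw [map_commutatorElement]; exact h3.commutator_eq)
  · obtain ⟨⟨x, hx⟩, rfl⟩ := QuotientGroup.mk'_surjective _ a
    have h3 : (⊤ : Subgroup T) ≤ Y.subgroupOf T ⊔ N.subgroupOf T := by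
      rw [← Subgroup.subgroupOf_sup hY hN]; exact fun x _ => hT x.2
    obtain ⟨y, hy, n, hn, e⟩ := Subgroup.mem_sup_of_normal_left.1 (h3 (Subgroup.mem_top ⟨x, hx⟩))
    refine ⟨⟨n, hn⟩, ?_⟩
    rw [← e, map_mul, show QuotientGroup.mk' _ y = 1 from (hq y).2 hy, one_mul]
    rfl
  · rw [hD, Subgroup.mem_inf, and_iff_left x.2]
    exact hq _

end H20
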