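import Mathlib
import Cfsg.Agent.H20.McK1
import Cfsg.Agent.H17.AutGen
import Cfsg.Agent.H01.Coprime2

/-!
H20.McK2: the Okuyama–Wajima argument.
* `H20.ow_ext`: an invariant character extends over an abelian section iff its Glauberman correspondent does.
-/

set_option autoImplicit false

open Cfsg H05 H06 H07
open scoped ComplexConjugate commutatorElement

namespace H20

local notation "𝐍" X:max => Subgroup.normalizer (SetLike.coe X)
local notation "𝐂" X:max => Subgroup.centralizer (SetLike.coe X)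
local notation "inc" => Subgroup.inclusion

variable {Γ : Type*} [Group Γ] {p : ℕ}

theorem relIndex_sup_nrm {H N : Subgroup Γ} (h : H ≤ 𝐍 N) : N.relIndex (N ⊔ H) = N.relIndex H := by
  rw [sup_comm]
  have hn : (N.subgroupOf (H ⊔ N)).Normal := Subgroup.normal_subgroupOf_sup_of_le_normalizer h
  have h2 := Subgroup.relIndex_sup_right (H.subgroupOf (H ⊔ N)) (N.subgroupOf (H ⊔ N))
  rw [← Subgroup.subgroupOf_sup le_sup_left le_sup_right, Subgroup.subgroupOf_self,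
    Subgroup.relIndex_top_right, Subgroup.relIndex_subgroupOf le_sup_left] at h2
  exact h2

theorem le_normalizer_of_comm_le {A B : Subgroup Γ} (h : ⁅A, B⁆ ≤ B) : A ≤ 𝐍 B :=
  H01.le_normalizer_of_conj_mem fun a ha b hb => by
    simpa [commutatorElement_def] using mul_mem (h (Subgroup.commutator_mem_commutator ha hb)) hb

theorem Ext.trans {K M X : Subgroup Γ} (h : K ≤ M) (hX : M ≤ X) {η : K → ℂ} {χ : M → ℂ} (e : ∀ k, χ (inc h k) = η k)
    (h1 : Ext χ X) : Ext η X := by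
  obtain ⟨ψ, h2, h3⟩ := h1
  exact ⟨ψ, h2, fun n _ => (h3 (inc h n) (hX (h n.2))).trans (e n)⟩

variable [Finite Γ]

theorem ext_of_cyclic {L X : Subgroup Γ} {a : Γ} (hX : X = L ⊔ Subgroup.zpowers a) {φ : L → ℂ}
    (hφ : IsIrrCharacter L φ) (ha : a ∈ stab φ) : Ext φ X := by
  have h : L ≤ X := hX ▸ le_sup_left
  have h1 : X ≤ stab φ := hX ▸ sup_le (le_stab_self hφ.isClassFunction) (Subgroup.zpowers_le.2 ha)
  have := normal_subgroupOf (h1.trans (stab_le_normalizer φ))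
  have ha' : a ∈ X := hX ▸ Subgroup.mem_sup_right (Subgroup.mem_zpowers a)
  have hc : IsCyclic (X ⧸ L.subgroupOf X) := by
    refine ⟨⟨((⟨a, ha'⟩ : X) : X ⧸ L.subgroupOf X), fun y => ?_⟩⟩
    obtain ⟨⟨y, hy⟩, rfl⟩ := QuotientGroup.mk_surjective y
    obtain ⟨l, hl, _, ⟨k, rfl⟩, rfl⟩ := (H01.mem_sup_of_le_normalizer'
      (Subgroup.zpowers_le.2 (stab_le_normalizer φ ha))).1 (hX ▸ hy)
    refine ⟨k, ?_⟩
    have : (⟨l * a ^ k, hy⟩ : X) = ⟨l, h hl⟩ * ⟨a, ha'⟩ ^ k := rfl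
    rw [this, QuotientGroup.mk_mul, (QuotientGroup.eq_one_iff _).2 (show (⟨l, h hl⟩ : X) ∈ L.subgroupOf X from hl),
      one_mul, QuotientGroup.mk_zpow]
  obtain ⟨χ, h2, h3⟩ := exists_ext_of_cyclic (L.subgroupOf X) hc ((isIrr_subgroupOf_iff L X h φ).2 hφ)
    fun g => funext fun _ => stab_apply (h1 g.2) rfl
  exact ⟨χ, h2.isCharacter, fun n hn => h3 ⟨⟨n, hn⟩, n.2⟩⟩

theorem card_ov_mul_sq {L X : Subgroup Γ} (h : L ≤ X) (hab : ⁅X, X⁆ ≤ L) {θ : L → ℂ} (hθ : IsIrrCharacter L θ)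
    (hX : X ≤ stab θ) {χ : X → ℂ} (hχ : χ ∈ Ov h θ) : Nat.card (Ov h θ) * mult (inc h) χ θ ^ 2 = L.relIndex X := by
  classical
  have := Fintype.ofFinite X
  have := Fintype.ofFinite (L.subgroupOf X)
  have := normal_subgroupOf (hX.trans (stab_le_normalizer θ))
  have hθ' := (isIrr_subgroupOf_iff L X h θ).2 hθ
  have h1 := sum_sq_inner_eq_index (L.subgroupOf X) hθ' fun g => funext fun _ => stab_apply (hX g.2) rfl
  have h2 : ∀ ψ : IrrCharacter X, classInner (fun n : L.subgroupOf X => ψ.1 n)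
      (fun n => θ (Subgroup.subgroupOfEquivOfLe h n)) ^ 2 =
      if ψ.1 ∈ Ov h θ then (mult (inc h) χ θ : ℂ) ^ 2 else 0 := fun ψ => by
    rw [← mult_sub_eq _ ψ.2.isCharacter hθ'.isCharacter, mult_subgroupOf]
    split_ifs with h3
    · obtain ⟨lam, h4, h5⟩ := exists_hom_mul_of_over (L.subgroupOf X) (by
        rw [commutator_def, Subgroup.commutator_le]
        exact fun a _ b _ => hab (Subgroup.commutator_mem_commutator a.2 b.2)) hχ.1 ψ.2 hθ'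
        (by rw [mult_subgroupOf]; exact hχ.2) (by rw [mult_subgroupOf]; exact h3.2)
      rw [h5, mult_congr_left (χ := χ) fun c => by rw [h4 _ c.2]; simp]
    · have : mult (inc h) ψ.1 θ = 0 := by by_contra h4; exact h3 ⟨ψ.2, h4⟩
      simp [this]
  simp only [h2] at h1
  rw [← Finset.sum_filter, Finset.sum_const, nsmul_eq_mul, ← Fintype.card_subtype, ← Nat.card_eq_fintype_card,
    Nat.card_congr (β := Ov h θ) ⟨fun a => ⟨a.1.1, a.2⟩, fun a => ⟨⟨a.1, a.2.1⟩, a.2⟩, fun _ => rfl, fun _ => rfl⟩] at h1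
  exact_mod_cast h1

theorem ext_sup_iff {K M : Subgroup Γ} (h : K ≤ M) {η : K → ℂ} (hη : IsIrrCharacter K η) (hM : M ≤ stab η) {a : Γ}
    (ha : a ∈ 𝐍 M) : Ext η (M ⊔ Subgroup.zpowers a) ↔ ∃ χ ∈ Ov h η, mult (inc h) χ η = 1 ∧ a ∈ stab χ := by
  constructor
  · rintro ⟨ψ, h1, h2⟩
    have h3 : ∀ k, ψ (inc le_sup_left (inc h k)) = η k := fun k => h2 k _
    have h4 := mult_of_comp_eq (ι := inc h) (χ := fun m => ψ (inc le_sup_left m)) hη h3
    exact ⟨_, ⟨isIrr_of_res h hη (h1.comp _) h3, h4 ▸ one_ne_zero⟩, h4, mem_stab_res _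
      (le_stab_self h1.isClassFunction (Subgroup.mem_sup_right (Subgroup.mem_zpowers a))) ha⟩
  · rintro ⟨χ, h1, h2, h3⟩
    exact (ext_of_cyclic rfl h1.1 h3).trans h le_sup_left fun k => by
      rw [res_eq_mult h hη hM h1, h2]; simp

theorem ow_step [hp : Fact p.Prime] {K T K₁ B : Subgroup Γ} {a : Γ} (hT : IsPGroup p T) (hTK : T ≤ 𝐍 K)
    (hK₁ : K₁ = K ⊓ 𝐂 T) (h1 : K₁ ≤ K) (hB : B ≤ 𝐂 T) (hKB : K₁ ≤ B) (hBK : B ≤ 𝐍 K)
    (hc : ¬ p ∣ Nat.card (K ⊔ B : Subgroup Γ)) (hab : ⁅B, B⁆ ≤ K₁) (haT : a ∈ 𝐍 T) (haB : a ∈ 𝐍 B) {η : K → ℂ}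
    (hη : η ∈ IrrInv T K) (hBη : B ≤ stab η) (haη : a ∈ stab η) {η₁ : K₁ → ℂ} (hη₁ : IsIrrCharacter K₁ η₁)
    (hm : ¬ p ∣ mult (inc h1) η η₁) :
    Ext η (K ⊔ B ⊔ Subgroup.zpowers a) ↔ Ext η₁ (B ⊔ Subgroup.zpowers a) := by
  have hK : ¬ p ∣ Nat.card K := fun h => hc (h.trans (Subgroup.card_dvd_of_le le_sup_left))
  have hTB : T ≤ 𝐍 B := (Subgroup.le_centralizer_iff.1 hB).trans (Subgroup.centralizer_le_normalizer _)
  have hTM := H01.le_normalizer_sup hTK hTB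
  have hE : B = (K ⊔ B) ⊓ 𝐂 T := by
    rw [inf_comm, sup_comm, H01.dedekind_of_le_normalizer' hB hBK, inf_comm, ← hK₁, sup_eq_left.2 hKB]
  have hMK : K ⊔ B ≤ 𝐍 K := sup_le Subgroup.le_normalizer hBK
  have hMη : K ⊔ B ≤ stab η := sup_le (le_stab_self hη.1.isClassFunction) hBη
  have c1 := corr_pgroup hT hTK hK hK₁ h1
  have c2 := corr_pgroup hT hTM hc hE le_sup_right
  have hb : ∀ X : Subgroup Γ, {β | IsIrrCharacter X β} = IrrInv ⊥ X := fun X =>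
    (irrInv_of_le_centralizer bot_le).symm
  have hst : ∀ x, x ∈ 𝐍 T → x ∈ stab η → x ∈ stab η₁ := fun x hx hx' => by
    rw [hb] at c1
    refine (c1.mem_stab_iff (stab_le_normalizer η hx') ?_ hx (Subgroup.le_normalizer_of_normal (K := ⊤) trivial) hη
      ⟨hη₁, bot_le⟩ hm).1 hx'
    rw [hK₁]
    exact Subgroup.zpowers_le.1 (H01.le_normalizer_inf (Subgroup.zpowers_le.2 (stab_le_normalizer η hx'))
      (H01.le_normalizer_centralizer (Subgroup.zpowers_le.2 hx)))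
  have hBη₁ : B ≤ stab η₁ := fun b hb => hst b (Subgroup.centralizer_le_normalizer _ (hB hb)) (hBη hb)
  have hinv : ∀ χ ∈ Ov (le_sup_left : K ≤ K ⊔ B) η, χ ∈ IrrInv T (K ⊔ B) := fun χ hχ => by
    refine inv_of_over le_sup_left hMK hTM ?_ (fun s hs g hg => ?_) hη hχ.1 hχ.2
    · exact (H01.coprime_card_of_isPGroup hT (((Nat.Prime.coprime_iff_not_dvd hp.out).2 hc).symm.coprime_dvd_left
        (Subgroup.relIndex_dvd_card _ _))).symm
    · obtain ⟨k, hk, b, hb, rfl⟩ := (H01.mem_sup_of_le_normalizer' hBK).1 hg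
      have e : s * b * s⁻¹ = b := by rw [hB hb s hs]; simp
      have : s * (k * b) * s⁻¹ * (k * b)⁻¹ = s * k * s⁻¹ * ((s * b * s⁻¹) * b⁻¹) * k⁻¹ := by group
      rw [this, e, mul_inv_cancel, mul_one]
      exact mul_mem (H01.conj_mem_of_le_normalizer hTK hs hk) (inv_mem hk)
  have c3 : Corr p (mult (inc (le_sup_right : B ≤ K ⊔ B))) (Ov (le_sup_left : K ≤ K ⊔ B) η) (Ov hKB η₁) :=
    c2.restrict hinv (fun _ h => h.1) fun χ hχ β hβ h => by
      have := over_iff_of_corr hT hTM hTK le_sup_left hMK hc hE hK₁ le_sup_right h1 hKB hχ hβ h hη hη₁ hm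
      exact ⟨fun h => ⟨hβ, this.1 h.2⟩, fun h => ⟨hχ.1, this.2 h.2⟩⟩
  have hab' : ⁅K ⊔ B, K ⊔ B⁆ ≤ K := Subgroup.commutator_le.2 fun x hx y hy => by
    obtain ⟨k, hk, b, hb, rfl⟩ := (H01.mem_sup_of_le_normalizer' hBK).1 hx
    obtain ⟨l, hl, c, hc, rfl⟩ := (H01.mem_sup_of_le_normalizer' hBK).1 hy
    have : ⁅k * b, l * c⁆ = k * (b * l * b⁻¹) * ⁅b, c⁆ * (c * k⁻¹ * c⁻¹) * l⁻¹ := by
      simp only [commutatorElement_def]; group
    rw [this]
    exact mul_mem (mul_mem (mul_mem (mul_mem hk (H01.conj_mem_of_le_normalizer hBK hb hl))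
      (h1 (hab (Subgroup.commutator_mem_commutator hb hc)))) (H01.conj_mem_of_le_normalizer hBK hc (inv_mem hk)))
      (inv_mem hl)
  have hi : K.relIndex (K ⊔ B) = K₁.relIndex B := by
    rw [relIndex_sup_nrm hBK, ← Subgroup.inf_relIndex_right K, ← Subgroup.inf_relIndex_right K₁, hK₁, inf_assoc,
      inf_eq_right.2 hB]
  have haM : a ∈ 𝐍 (K ⊔ B) := Subgroup.zpowers_le.1 (H01.le_normalizer_sup
    (Subgroup.zpowers_le.2 (stab_le_normalizer η haη)) (Subgroup.zpowers_le.2 haB))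
  have key : ∀ χ ∈ Ov (le_sup_left : K ≤ K ⊔ B) η, ∀ β ∈ Ov hKB η₁, ¬ p ∣ mult (inc le_sup_right) χ β →
      (mult (inc le_sup_left) χ η = 1 ∧ a ∈ stab χ ↔ mult (inc hKB) β η₁ = 1 ∧ a ∈ stab β) := fun χ hχ β hβ h => by
    have a1 := card_ov_mul_sq le_sup_left hab' hη.1 hMη hχ
    have a2 := card_ov_mul_sq hKB hab hη₁ hBη₁ hβ
    rw [hi, ← a2, c3.card_eq] at a1
    have : Nonempty (Ov hKB η₁) := ⟨⟨β, hβ⟩⟩
    have a3 := Nat.pow_left_injective two_ne_zero (Nat.eq_of_mul_eq_mul_left Nat.card_pos a1)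
    rw [hb] at c2
    rw [a3, c2.mem_stab_iff haM haB haT (Subgroup.le_normalizer_of_normal (K := ⊤) trivial) (hinv χ hχ)
      ⟨hβ.1, bot_le⟩ h]
  rw [ext_sup_iff le_sup_left hη.1 hMη haM, ext_sup_iff hKB hη₁ hBη₁ haB]
  constructor
  · rintro ⟨χ, h2, h3⟩
    obtain ⟨β, h4, h5⟩ := c3.ex' h2
    exact ⟨β, h4, (key χ h2 β h4 h5).1 h3⟩
  · rintro ⟨β, h2, h3⟩
    obtain ⟨χ, h4, h5⟩ := c3.surj β h2
    exact ⟨χ, h4, (key χ h4 β h2 h5).2 h3⟩

theorem exists_cocyclic {A M C L : Subgroup Γ} (hA : A ≤ 𝐍 M) (hcop : (Nat.card A).Coprime (Nat.card M))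
    (hC : C ≤ 𝐂 M) (hCA : C ≤ A) (hab : ⁅A, A⁆ ≤ C) (h : ¬ M ≤ L) :
    ∃ B, C ≤ B ∧ B ≤ A ∧ (∃ a ∈ A, B ⊔ Subgroup.zpowers a = A) ∧ ¬ M ⊓ (𝐂 B) ≤ L := by
  by_contra hn
  push Not at hn
  let f := H01.conjHom hA
  have hk : ∀ c : A, (c : Γ) ∈ C → f c = 1 := fun c hc => by
    rw [← MonoidHom.mem_ker, H01.conjHom_ker]; exact hC hc
  have h1 := H17.aut_le_of_cocyclic (J := f.range) (K := ⊤) (L := L.subgroupOf M) ⟨⟨by
    rintro ⟨_, a, rfl⟩ ⟨_, b, rfl⟩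
    have := hk ⁅a, b⁆ (hab (Subgroup.commutator_mem_commutator a.2 b.2))
    rw [map_commutatorElement, commutatorElement_eq_one_iff_mul_comm] at this
    exact Subtype.ext this⟩⟩ (fun _ _ _ _ => trivial)
    (by rw [Subgroup.card_top]; exact hcop.coprime_dvd_left (Subgroup.card_range_dvd f)) ?_
  · exact h fun x hx => h1 (Subgroup.mem_top ⟨x, hx⟩)
  rintro B hB ⟨_, ⟨a, rfl⟩, ha⟩ x - hx
  refine hn ((B.comap f).map A.subtype) (fun c hc => ⟨⟨c, hCA hc⟩, ?_, rfl⟩) (Subgroup.map_subtype_le _)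
    ⟨a, a.2, ?_⟩ ⟨x.2, ?_⟩
  · change f _ ∈ B
    rw [hk _ hc]; exact one_mem _
  · have h2 : B.comap f ⊔ Subgroup.zpowers a = ⊤ := by
      rw [eq_top_iff]
      intro y _
      have h3 : f y ∈ (B.comap f ⊔ Subgroup.zpowers a).map f := by
        rw [Subgroup.map_sup, Subgroup.map_comap_eq_self hB, MonoidHom.map_zpowers, ha]; exact ⟨y, rfl⟩
      exact (Subgroup.comap_map_eq_self ((Subgroup.ker_le_comap f B).trans le_sup_left)).le h3
    have h3 := congrArg (Subgroup.map A.subtype) h2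
    rwa [Subgroup.map_sup, MonoidHom.map_zpowers, ← MonoidHom.range_eq_map, A.range_subtype] at h3
  · rintro _ ⟨b, hb, rfl⟩
    have := congrArg Subtype.val (hx _ hb)
    rw [H01.coe_conjHom_apply, mul_inv_eq_iff_eq_mul] at this
    exact this

theorem ow_ext [hp : Fact p.Prime] {K S C A : Subgroup Γ} (hS : IsPGroup p S) (hSK : S ≤ 𝐍 K)
    (hC : C = K ⊓ 𝐂 S) (hCK : C ≤ K) (hCA : C ≤ A) (hAS : A ≤ 𝐍 S) (hK : ¬ p ∣ Nat.card K)
    (hA : ¬ p ∣ Nat.card A) (hab : ⁅A, A⁆ ≤ C) {η : K → ℂ} (hη : η ∈ IrrInv S K) (hAη : A ≤ stab η) {ξ : C → ℂ}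
    (hξ : IsIrrCharacter C ξ) (hm : ¬ p ∣ mult (inc hCK) η ξ) : Ext η (K ⊔ A) ↔ Ext ξ A := by
  induction hn : Nat.card K using Nat.strong_induction_on generalizing K with
  | _ n ih =>
  have hAK := hAη.trans (stab_le_normalizer η)
  by_cases h0 : S ≤ 𝐂 K
  · obtain rfl : C = K := hC.trans (inf_eq_left.2 (Subgroup.le_centralizer_iff.1 h0))
    obtain rfl : η = ξ := eq_of_mult_ne_zero (ι := inc hCK) hη.1 hξ fun h => hm (h ▸ dvd_zero p)
    rw [sup_eq_right.2 hCA]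
  obtain ⟨M, -, hM⟩ := Finite.exists_le_minimal (p := fun M : Subgroup Γ => M ≤ S ∧ S ⊔ A ≤ (𝐍 M) ∧ ¬ M ≤ 𝐂 K)
    (a := S) ⟨le_rfl, sup_le Subgroup.le_normalizer hAS, h0⟩
  obtain ⟨hMS, hM1, hM2⟩ := hM.1
  have hMp := hS.to_le hMS
  have hSM := le_sup_left.trans hM1
  have hAM := le_sup_right.trans hM1
  have hlt := H01.commutator_lt_of_isPGroup hS hMp hSM (fun h => hM2 (h ▸ bot_le))
  have h1 : ⁅M, S⁆ ≤ 𝐂 K := by
    by_contra h
    exact hlt.not_ge (hM.2 ⟨hlt.le.trans hMS, H01.le_normalizer_commutator hM1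
      (sup_le Subgroup.le_normalizer hAS), h⟩ hlt.le)
  obtain ⟨B, hCB, hBA, ⟨a, ha, hBa⟩, hT⟩ := exists_cocyclic hAM
    (H01.coprime_card_of_isPGroup hMp ((Nat.Prime.coprime_iff_not_dvd hp.out).2 hA).symm)
    ((hC.le.trans inf_le_right).trans (Subgroup.centralizer_le hMS)) hCA hab hM2
  have hAB : A ≤ 𝐍 B := le_normalizer_of_comm_le ((Subgroup.commutator_mono le_rfl hBA).trans (hab.trans hCB))
  have hAT := H01.le_normalizer_inf hAM (H01.le_normalizer_centralizer hAB)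
  set T := M ⊓ 𝐂 B with hTd
  have h2 : M ≤ T ⊔ M ⊓ 𝐂 K := hM.2 ⟨sup_le (inf_le_left.trans hMS) (inf_le_left.trans hMS), sup_le
    (le_normalizer_of_comm_le ((Subgroup.commutator_mono le_rfl (sup_le inf_le_left inf_le_left)).trans
      (by rw [Subgroup.commutator_comm]; exact (le_inf hlt.le h1).trans le_sup_right)))
    (H01.le_normalizer_sup hAT (H01.le_normalizer_inf hAM (H01.le_normalizer_centralizer hAK))),
    fun h => hT (le_sup_left.trans h)⟩ (sup_le inf_le_left inf_le_left)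
  replace h2 : M ≤ T ⊔ 𝐂 K := h2.trans (sup_le_sup_left inf_le_right _)
  have hK₁ := inf_cent_mod (inf_le_left : T ≤ M) h2 le_rfl
  set K₁ := K ⊓ 𝐂 M with hK₁d
  have c1 := corr_pgroup hMp (hMS.trans hSK) hK hK₁d inf_le_left
  have hηM : η ∈ IrrInv M K := ⟨hη.1, hMS.trans hη.2⟩
  obtain ⟨η₁, hη₁, a1, a2⟩ := c1.ex η hηM
  replace a1 := not_dvd_of_pm_one a1
  have hst : ∀ x, x ∈ 𝐍 M → x ∈ stab η → x ∈ stab η₁ := fun x hx hx' => by
    rw [← irrInv_of_le_centralizer (M := ⊥) bot_le] at c1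
    exact (c1.mem_stab_iff (stab_le_normalizer η hx') (Subgroup.zpowers_le.1 (H01.le_normalizer_inf
      (Subgroup.zpowers_le.2 (stab_le_normalizer η hx')) (H01.le_normalizer_centralizer (Subgroup.zpowers_le.2 hx))))
      hx (Subgroup.le_normalizer_of_normal (K := ⊤) trivial) hηM ⟨hη₁, bot_le⟩ a1).1 hx'
  have hC₁ : C = K₁ ⊓ 𝐂 S := by
    rw [hC, hK₁d, inf_assoc, inf_eq_right.2 (Subgroup.centralizer_le hMS)]
  have hCK₁ : C ≤ K₁ := hC₁.le.trans inf_le_left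
  have a3 : ¬ p ∣ mult (inc hCK₁) η₁ ξ := fun h => hm (by
    rw [mult_comp' (inc (inf_le_left : K₁ ≤ K)) (inc hCK₁) hη.1.isCharacter hξ.isCharacter]
    refine Finset.dvd_sum fun γ _ => ?_
    by_cases e : γ.1 = η₁
    · rw [e]; exact h.mul_left _
    · exact (a2 _ γ.2 e).mul_right _)
  have hSK₁ := H01.le_normalizer_inf hSK (H01.le_normalizer_centralizer hSM)
  have hAη₁ : A ≤ stab η₁ := fun x hx => hst x (hAM hx) (hAη hx)
  have hAK₁ := hAη₁.trans (stab_le_normalizer η₁)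
  rw [← ih _ (hn ▸ H01.card_lt_of_lt (inf_cent_lt hM2)) hSK₁ hC₁ hCK₁
    (fun h => hK (h.trans (Subgroup.card_dvd_of_le inf_le_left))) ⟨hη₁, fun x hx => hst x (hSM hx) (hη.2 hx)⟩
    hAη₁ a3 rfl]
  have hBK₁ := hBA.trans hAK₁
  have := ow_step (B := K₁ ⊔ B) (a := a) (hMp.to_le inf_le_left : IsPGroup p T) (inf_le_left.trans (hMS.trans hSK))
    hK₁ inf_le_left (sup_le (hK₁.le.trans inf_le_right) (Subgroup.le_centralizer_iff.1 inf_le_right)) le_sup_left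
    (sup_le (inf_le_left.trans Subgroup.le_normalizer) (hBA.trans hAK)) (fun h => ?_) ?_ (hAT ha)
    (H01.le_normalizer_sup hAK₁ hAB ha) ⟨hη.1, inf_le_left.trans hηM.2⟩
    (sup_le (inf_le_left.trans (le_stab_self hη.1.isClassFunction)) (hBA.trans hAη)) (hAη ha) hη₁ a1
  · rwa [← sup_assoc, sup_eq_left.2 (inf_le_left : K₁ ≤ K), sup_assoc, sup_assoc, hBa] at this
  · have h3 := H01.card_sup_dvd_of_le_normalizer hAK
    rcases (hp.out.dvd_mul).1 ((h.trans (Subgroup.card_dvd_of_le (sup_le le_sup_right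
      (sup_le (inf_le_left.trans le_sup_right) (hBA.trans le_sup_left))))).trans h3) with h | h
    exacts [hA h, hK h]
  · refine Subgroup.commutator_le.2 fun x hx y hy => ?_
    obtain ⟨k, hk, b, hb, rfl⟩ := (H01.mem_sup_of_le_normalizer' hBK₁).1 hx
    obtain ⟨l, hl, c, hc, rfl⟩ := (H01.mem_sup_of_le_normalizer' hBK₁).1 hy
    have : ⁅k * b, l * c⁆ = k * (b * l * b⁻¹) * ⁅b, c⁆ * (c * k⁻¹ * c⁻¹) * l⁻¹ := by
      simp only [commutatorElement_def]; group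
    rw [this]
    exact mul_mem (mul_mem (mul_mem (mul_mem hk (H01.conj_mem_of_le_normalizer hBK₁ hb hl))
      (hCK₁ (hab (Subgroup.commutator_mem_commutator (hBA hb) (hBA hc)))))
      (H01.conj_mem_of_le_normalizer hBK₁ hc (inv_mem hk))) (inv_mem hl)

end H20
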