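import Mathlib
import Cfsg.Agent.H20.McK2

/-!
H20.McK3: tools for the relative McKay count.
* `H20.card_eq_of_rel`: counting by fibres; `H20.Pc`: characters of `p'`-degree over a character.
* `H20.clifford_bij`, `H20.card_pc_clifford`: Clifford correspondence with degrees.
* `H20.exists_ext_dS`, `H20.ext_unique_dS`: extensions from `K` to `K ⊔ S` with prescribed determinant on `S`.
* `H20.ext_iff_ext_res`: extension of `ξ` on `K ⊔ S` versus extension of its restriction to `K`.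
-/

set_option autoImplicit false

open Cfsg H05 H06 H07
open scoped ComplexConjugate commutatorElement

namespace H20

local notation "𝐍" X:max => Subgroup.normalizer (SetLike.coe X)
local notation "𝐂" X:max => Subgroup.centralizer (SetLike.coe X)
local notation "inc" => Subgroup.inclusion

theorem card_eq_of_rel {α β γ : Type*} {I : Set α} {J : Set β} [Finite I] [Finite J] (A : Set γ)
    (R : α → γ → Prop) (Q : β → γ → Prop) (r : γ → γ → Prop) (h1 : ∀ i ∈ I, ∃ a ∈ A, R i a)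
    (h2 : ∀ j ∈ J, ∃ a ∈ A, Q j a) (h3 : ∀ i ∈ I, ∀ a ∈ A, ∀ a' ∈ A, R i a → (R i a' ↔ r a a'))
    (h4 : ∀ j ∈ J, ∀ a ∈ A, ∀ a' ∈ A, Q j a → (Q j a' ↔ r a a'))
    (h5 : ∀ a ∈ A, Nat.card {i | i ∈ I ∧ R i a} = Nat.card {j | j ∈ J ∧ Q j a}) : Nat.card I = Nat.card J := by
  let f : I → Set γ := fun i => {a | a ∈ A ∧ R i a}
  let g : J → Set γ := fun j => {a | a ∈ A ∧ Q j a}
  have key : ∀ a ∈ A, r a a → Nonempty ({i // f i = {a' | a' ∈ A ∧ r a a'}} ≃ {j // g j = {a' | a' ∈ A ∧ r a a'}}) :=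
    fun a ha hr => by
    have a1 : ∀ i, f i = {a' | a' ∈ A ∧ r a a'} ↔ R i a := fun i =>
      ⟨fun e => (e.ge ⟨ha, hr⟩).2, fun e => Set.ext fun a' => and_congr_right fun ha' => h3 i i.2 a ha a' ha' e⟩
    have a2 : ∀ j, g j = {a' | a' ∈ A ∧ r a a'} ↔ Q j a := fun j =>
      ⟨fun e => (e.ge ⟨ha, hr⟩).2, fun e => Set.ext fun a' => and_congr_right fun ha' => h4 j j.2 a ha a' ha' e⟩
    rw [← Finite.card_eq, Nat.card_congr (Equiv.subtypeEquivRight a1), Nat.card_congr (Equiv.subtypeEquivRight a2),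
      Nat.card_congr (Equiv.subtypeSubtypeEquivSubtypeInter (· ∈ I) (R · a)),
      Nat.card_congr (Equiv.subtypeSubtypeEquivSubtypeInter (· ∈ J) (Q · a))]
    exact h5 a ha
  refine Nat.card_congr (Equiv.ofFiberEquiv (f := f) (g := g) fun s => Nonempty.some ?_)
  by_cases e1 : ∃ i, f i = s
  · obtain ⟨i, rfl⟩ := e1
    obtain ⟨a, ha, hi⟩ := h1 i i.2
    rw [show f i = {a' | a' ∈ A ∧ r a a'} from Set.ext fun a' => and_congr_right fun ha' => h3 i i.2 a ha a' ha' hi]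
    exact key a ha ((h3 i i.2 a ha a ha hi).1 hi)
  by_cases e2 : ∃ j, g j = s
  · obtain ⟨j, rfl⟩ := e2
    obtain ⟨a, ha, hj⟩ := h2 j j.2
    rw [show g j = {a' | a' ∈ A ∧ r a a'} from Set.ext fun a' => and_congr_right fun ha' => h4 j j.2 a ha a' ha' hj]
    exact key a ha ((h4 j j.2 a ha a ha hj).1 hj)
  have : IsEmpty {i // f i = s} := ⟨fun i => e1 ⟨i.1, i.2⟩⟩
  have : IsEmpty {j // g j = s} := ⟨fun j => e2 ⟨j.1, j.2⟩⟩
  exact ⟨Equiv.equivOfIsEmpty _ _⟩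

variable {Γ : Type*} [Group Γ] [Finite Γ] {p : ℕ}

/-- irreducible characters of `p'`-degree over `φ` -/
def Pc (p : ℕ) {L X : Subgroup Γ} (h : L ≤ X) (φ : L → ℂ) : Set (X → ℂ) := {χ | χ ∈ Ov h φ ∧ ¬ p ∣ charDegree χ}

instance finite_pc {L X : Subgroup Γ} (h : L ≤ X) (φ : L → ℂ) : Finite (Pc p h φ) :=
  Finite.Set.subset (Ov h φ) fun _ h => h.1

theorem exists_deg_eq {L X : Subgroup Γ} (h : L ≤ X) (hX : X ≤ 𝐍 L) {θ : L → ℂ} (hθ : IsIrrCharacter L θ)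
    {χ : X → ℂ} (hχ : χ ∈ Ov h θ) : ∃ f, f ∣ L.relIndex X ∧ charDegree χ = f * charDegree θ := by
  have := Fintype.ofFinite X
  have := Fintype.ofFinite (L.subgroupOf X)
  have := normal_subgroupOf hX
  have hθ' := (isIrr_subgroupOf_iff L X h θ).2 hθ
  exact exists_degree_eq_mul (L.subgroupOf X) hχ.1 hθ'
    ((mult_sub_ne_zero _ hχ.1.isCharacter hθ'.isCharacter).1 (by rw [mult_subgroupOf]; exact hχ.2))

theorem clifford_bij {L G T : Subgroup Γ} (hLG : L ≤ G) (hG : G ≤ 𝐍 L) {φ : L → ℂ} (hφ : IsIrrCharacter L φ)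
    (hT : T = G ⊓ stab φ) (hLT : L ≤ T) (hTG : T ≤ G) :
    Bij (fun χ ψ => mult (inc hTG) χ ψ ≠ 0) (Ov hLG φ) (Ov hLT φ) ∧ ∀ χ ∈ Ov hLG φ, ∀ ψ ∈ Ov hLT φ,
      mult (inc hTG) χ ψ ≠ 0 → charDegree χ = T.relIndex G * charDegree ψ := by
  obtain ⟨h1, h2⟩ := exists_clifford hLG hG hφ hT hLT hTG
  have h3 : ∀ χ ψ, IsIrrCharacter G χ → ψ ∈ Ov hLT φ → mult (inc hTG) χ ψ ≠ 0 →
      (∀ α, IsCharacter G α → mult (MonoidHom.id G) α χ = mult (inc hTG) α ψ) ∧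
      ∀ ψ' ∈ Ov hLT φ, mult (inc hTG) χ ψ' ≠ 0 → ψ' = ψ := fun χ ψ hχ hψ h => by
    obtain ⟨χ', a1, a2, a3⟩ := h2 ψ hψ.1 hψ.2
    obtain rfl : χ = χ' := eq_of_mult_id hχ a1 (a2 χ hχ.isCharacter ▸ h)
    exact ⟨a2, fun ψ' h1 => a3 ψ' h1.1 h1.2⟩
  refine ⟨⟨fun χ hχ => ?_, fun ψ hψ => ?_, fun χ hχ χ' hχ' ψ hψ a b => ?_, fun χ hχ ψ hψ ψ' hψ' a b => ?_⟩,
    fun χ hχ ψ hψ h => ?_⟩
  · obtain ⟨ψ, a1, a2, a3⟩ := h1 χ hχ.1 hχ.2
    exact ⟨ψ, ⟨a1, a2⟩, a3⟩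
  · obtain ⟨χ, a1, a2, -⟩ := h2 ψ hψ.1 hψ.2
    have a3 : mult (inc hTG) χ ψ ≠ 0 := by rw [← a2 χ a1.isCharacter, mult_id_self a1]; exact one_ne_zero
    exact ⟨χ, ⟨a1, mult_trans a1.isCharacter hψ.1 hφ.isCharacter a3 hψ.2⟩, a3⟩
  · exact eq_of_mult_id hχ.1 hχ'.1 (((h3 χ' ψ hχ'.1 hψ b).1 χ hχ.1.isCharacter).trans_ne a)
  · exact ((h3 χ ψ hχ.1 hψ a).2 ψ' hψ' b).symm
  · classical
    have := Fintype.ofFinite G
    have := Fintype.ofFinite T
    have a1 := congrArg (Nat.cast (R := ℂ)) ((h3 χ ψ hχ.1 hψ h).1 _ isCharacter_regChar)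
    rw [mult_eq _ isCharacter_regChar hχ.1.isCharacter, mult_eq _ isCharacter_regChar hψ.1.isCharacter] at a1
    have a2 : (fun c : T => regChar G (inc hTG c)) = (T.relIndex G : ℂ) • regChar T := funext fun c => by
      by_cases hc : c = 1
      · rw [hc, map_one, Pi.smul_apply, regChar_one, regChar_one, ← H01.card_mul_relIndex hTG]; simp [mul_comm]
      · rw [Pi.smul_apply, regChar_of_ne hc, regChar_of_ne (fun e => hc (Subgroup.inclusion_injective hTG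
          (e.trans (map_one _).symm)))]; simp
    rw [a2, H06.classInner_smul_left, classInner_regChar_left] at a1
    erw [classInner_regChar_left] at a1
    rw [hχ.1.conj_apply_one, hψ.1.conj_apply_one, ← hχ.1.charDegree_eq, ← hψ.1.charDegree_eq] at a1
    exact_mod_cast a1

theorem card_pc_clifford [hp : Fact p.Prime] {L G T : Subgroup Γ} (hLG : L ≤ G) (hG : G ≤ 𝐍 L) {φ : L → ℂ}
    (hφ : IsIrrCharacter L φ) (hT : T = G ⊓ stab φ) (hLT : L ≤ T) (hi : ¬ p ∣ T.relIndex G) :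
    Nat.card (Pc p hLG φ) = Nat.card (Pc p hLT φ) := by
  obtain ⟨h1, h2⟩ := clifford_bij hLG hG hφ hT hLT (hT.le.trans inf_le_left)
  exact (h1.restrict (fun χ => ¬ p ∣ charDegree χ) (fun χ => ¬ p ∣ charDegree χ) fun χ hχ ψ hψ h => by
    rw [h2 χ hχ ψ hψ h, hp.out.dvd_mul, not_or, and_iff_right hi]).card_eq

theorem isIrr_res_nrm {K Y : Subgroup Γ} (h : K ≤ Y) (hY : Y ≤ 𝐍 K) {ξ : Y → ℂ} (hξ : IsIrrCharacter Y ξ)
    (hc : (charDegree ξ).Coprime (K.relIndex Y)) : IsIrrCharacter K fun k => ξ (inc h k) := by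
  have := normal_subgroupOf hY
  exact (isIrr_subgroupOf_iff K Y h _).1 (isIrr_res_of_coprime (K.subgroupOf Y) hξ hc)

theorem ext_unique_nrm {K Y : Subgroup Γ} (h : K ≤ Y) (hY : Y ≤ 𝐍 K) {η : K → ℂ} (hη : IsIrrCharacter K η)
    (hc : (K.relIndex Y).Coprime (charDegree η)) {χ ψ : Y → ℂ} (hχ : IsCharacter Y χ) (h1 : ∀ k, χ (inc h k) = η k)
    (hψ : IsCharacter Y ψ) (h2 : ∀ k, ψ (inc h k) = η k) (e : detHom χ = detHom ψ) : χ = ψ := by
  have := normal_subgroupOf hY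
  exact ext_unique_of_det (K.subgroupOf Y) ((isIrr_subgroupOf_iff K Y h η).2 hη) hc hχ (fun n => h1 ⟨n, n.2⟩) hψ
    (fun n => h2 ⟨n, n.2⟩) e

omit [Finite Γ] in
theorem hom_ext_sup {K S Y : Subgroup Γ} (hY : Y = K ⊔ S) (hK : K ≤ Y) (hS : S ≤ Y) {A : Type*} [Group A]
    {f g : Y →* A} (h1 : ∀ k, f (inc hK k) = g (inc hK k)) (h2 : ∀ s, f (inc hS s) = g (inc hS s)) : f = g := by
  have : (⊤ : Subgroup Y) ≤ f.eqLocus g := by
    rw [← Subgroup.subgroupOf_self, show Y.subgroupOf Y = (K ⊔ S).subgroupOf Y by rw [← hY],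
      Subgroup.subgroupOf_sup hK hS]
    exact sup_le (fun x hx => h1 ⟨x, hx⟩) fun x hx => h2 ⟨x, hx⟩
  exact MonoidHom.ext fun x => this (Subgroup.mem_top x)

omit [Finite Γ] in
theorem exists_hom_sup {K S Y : Subgroup Γ} (hY : Y = K ⊔ S) (hK : K ≤ Y) (hS : S ≤ Y) (hSK : S ≤ 𝐍 K) {A : Type*}
    [Group A] (δ : S →* A) (h : ∀ s : S, (s : Γ) ∈ K → δ s = 1) :
    ∃ μ : Y →* A, (∀ k, μ (inc hK k) = 1) ∧ ∀ s, μ (inc hS s) = δ s := by
  have := normal_subgroupOf (hY.le.trans (sup_le Subgroup.le_normalizer hSK))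
  let f := (QuotientGroup.mk' (K.subgroupOf Y)).comp (inc hS)
  have hf : Function.Surjective f := fun y => by
    obtain ⟨⟨y, hy⟩, rfl⟩ := QuotientGroup.mk'_surjective _ y
    obtain ⟨k, hk, s, hs, rfl⟩ := (H01.mem_sup_of_le_normalizer' hSK).1 (hY ▸ hy)
    refine ⟨⟨s, hs⟩, ?_⟩
    rw [show (⟨k * s, hy⟩ : Y) = ⟨k, hK hk⟩ * ⟨s, hS hs⟩ from rfl, map_mul,
      show QuotientGroup.mk' (K.subgroupOf Y) ⟨k, hK hk⟩ = 1 from (QuotientGroup.eq_one_iff _).2 hk, one_mul]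
    rfl
  refine ⟨(f.liftOfSurjective hf ⟨δ, fun s hs => h s ((QuotientGroup.eq_one_iff (N := K.subgroupOf Y) (inc hS s)).1 hs)⟩).comp
    (QuotientGroup.mk' _), fun k => ?_, fun s =>
      f.liftOfRightInverse_comp_apply _ (Function.rightInverse_surjInv hf) _ s⟩
  rw [MonoidHom.comp_apply, show QuotientGroup.mk' (K.subgroupOf Y) (inc hK k) = 1 from
    (QuotientGroup.eq_one_iff _).2 k.2, map_one]

section KS

variable [hp : Fact p.Prime] {K S Y : Subgroup Γ} (hY : Y = K ⊔ S) (hK : K ≤ Y) (hS : S ≤ Y) (hSK : S ≤ 𝐍 K)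
  (hSp : IsPGroup p S) (hKp : ¬ p ∣ Nat.card K)

include hY hSK hSp in
theorem coprime_relIndex {n : ℕ} (hn : ¬ p ∣ n) : (K.relIndex Y).Coprime n := by
  rw [hY, relIndex_sup_nrm hSK]
  exact (H01.coprime_card_of_isPGroup hSp ((Nat.Prime.coprime_iff_not_dvd hp.out).2 hn).symm).symm.coprime_dvd_left
    (Subgroup.relIndex_dvd_card _ _)

include hSp hKp in
theorem eq_one_of_mem_KS {x : Γ} (h1 : x ∈ K) (h2 : x ∈ S) : x = 1 := by
  rw [← orderOf_eq_one_iff]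
  exact Nat.eq_one_of_dvd_coprimes (H01.coprime_card_of_isPGroup hSp
    ((Nat.Prime.coprime_iff_not_dvd hp.out).2 hKp).symm) (K.orderOf_dvd_natCard h1) (S.orderOf_dvd_natCard h2)

include hY hSK hSp in
theorem res_irrInv {ξ : Y → ℂ} (hξ : IsIrrCharacter Y ξ) (hd : ¬ p ∣ charDegree ξ) :
    (fun k => ξ (inc hK k)) ∈ IrrInv S K :=
  ⟨isIrr_res_nrm hK (hY.le.trans (sup_le Subgroup.le_normalizer hSK)) hξ (coprime_relIndex hY hSK hSp hd).symm,
    fun _ hs => mem_stab_res hK (le_stab_self hξ.isClassFunction (hY.ge (Subgroup.mem_sup_right hs))) (hSK hs)⟩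

include hY hSK hSp hKp in
theorem ext_unique_dS {η : K → ℂ} (hη : IsIrrCharacter K η) {χ ψ : Y → ℂ} (hχ : IsCharacter Y χ)
    (h1 : ∀ k, χ (inc hK k) = η k) (hψ : IsCharacter Y ψ) (h2 : ∀ k, ψ (inc hK k) = η k)
    (e : (detHom χ).comp (inc hS) = (detHom ψ).comp (inc hS)) : χ = ψ := by
  refine ext_unique_nrm hK (hY.le.trans (sup_le Subgroup.le_normalizer hSK)) hη
    (coprime_relIndex hY hSK hSp fun h => hKp (h.trans hη.charDegree_dvd_card)) hχ h1 hψ h2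
    (hom_ext_sup hY hK hS (fun k => ?_) (DFunLike.congr_fun e))
  have a1 := detHom_comp hχ (inc hK)
  have a2 := detHom_comp hψ (inc hK)
  rw [funext h1] at a1
  rw [funext h2, a1] at a2
  exact DFunLike.congr_fun a2 k

include hY hSK hSp hKp in
theorem exists_ext_dS {η : K → ℂ} (hη : η ∈ IrrInv S K) (δ : S →* ℂˣ) :
    ∃ ξ, IsIrrCharacter Y ξ ∧ (∀ k, ξ (inc hK k) = η k) ∧ (detHom ξ).comp (inc hS) = δ := by
  have hYK := hY.le.trans (sup_le Subgroup.le_normalizer hSK)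
  have := normal_subgroupOf hYK
  obtain ⟨α, h1, h2⟩ := exists_canon_ext (S := ⊥) hK bot_le (coprime_relIndex hY hSK hSp hKp) ⟨hη.1, bot_le⟩
    (hY.le.trans (sup_le (le_stab_self hη.1.isClassFunction) hη.2))
  obtain ⟨μ, h3, h4⟩ := exists_hom_sup hY hK hS hSK (δ * ((detHom α).comp (inc hS))⁻¹) fun s hs => by
    rw [show s = 1 from Subtype.ext (eq_one_of_mem_KS hSp hKp hs s.2), map_one]
  obtain ⟨ξ, a1, a2, a3⟩ := exists_ext_det (K.subgroupOf Y) (θ := fun n => α n)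
    (coprime_relIndex hY hSK hSp fun h => hKp (h.trans (by
      rw [show charDegree (fun n : K.subgroupOf Y => α n) = charDegree η from
        congrArg (fun z : ℂ => ⌊z.re⌋₊) (h2 1)]
      exact hη.1.charDegree_dvd_card))) h1.1 (fun _ => rfl) (detHom α * μ) fun n => by
    rw [MonoidHom.mul_apply, show μ n = 1 from h3 ⟨n, n.2⟩, mul_one, detHom_restrict h1.1.isCharacter]; rfl
  refine ⟨ξ, a1, fun k => (a2 ⟨inc hK k, k.2⟩).trans (h2 k), MonoidHom.ext fun s => ?_⟩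
  simp [a3, h4]

include hY hSK hSp hKp in
theorem ext_iff_ext_res {U V : Subgroup Γ} (hYU : Y ≤ U) (hUK : U ≤ 𝐍 K) (hi : ¬ p ∣ Y.relIndex U) (hVU : V ≤ U)
    (hKV : K ≤ V) {k : ℕ} (hk : V.relIndex U = p ^ k) {ξ : Y → ℂ} (hξ : IsIrrCharacter Y ξ)
    (hd : ¬ p ∣ charDegree ξ) (hU : U ≤ stab ξ) : Ext ξ U ↔ Ext (fun k => ξ (inc hK k)) V := by
  refine ⟨fun h => (h.trans hK hYU fun _ => rfl).mono hVU, fun ⟨ψ, h1, h2⟩ => ?_⟩
  have hη := (res_irrInv hY hK hSK hSp hξ hd).1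
  have := normal_subgroupOf hUK
  have := normal_subgroupOf (hU.trans (stab_le_normalizer ξ))
  have hη' := (isIrr_subgroupOf_iff K U (hK.trans hYU) _).2 hη
  obtain ⟨χ, a1, a2⟩ := exists_ext_of_sylow (K.subgroupOf U) hη'
    (fun g => funext fun _ => stab_apply (mem_stab_res hK (hU g.2) (hUK g.2)) rfl) fun q hq hqd => by
      refine ⟨V.subgroupOf U, Subgroup.comap_mono hKV, fun v => ψ (Subgroup.subgroupOfEquivOfLe hVU v), ?_,
        h1.comp (Subgroup.subgroupOfEquivOfLe hVU).toMonoidHom, fun n => h2 ⟨n, n.2⟩ _⟩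
      rw [show (V.subgroupOf U).index = p ^ k from hk]
      refine ((Nat.coprime_primes hp.out hq).2 ?_).pow_left k
      rintro rfl
      refine hKp ?_
      rw [← Nat.card_congr (Subgroup.subgroupOfEquivOfLe (hK.trans hYU)).toEquiv]
      rcases hq.dvd_mul.1 hqd with h | h
      exacts [h.trans hη'.charDegree_dvd_card, h.trans (detOrder_dvd_card _)]
  have a3 : ∀ k, χ (inc hYU (inc hK k)) = ξ (inc hK k) := fun k => a2 ⟨⟨k, hYU (hK k.2)⟩, k.2⟩
  let ρ : Y →* ℂˣ := detHom ξ * ((detHom χ).comp (inc hYU))⁻¹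
  have b1 : ∀ k, ρ (inc hK k) = 1 := fun k => by
    have c1 := detHom_comp hξ.isCharacter (inc hK)
    have c2 := detHom_comp (a1.isCharacter.comp (inc hYU)) (inc hK)
    rw [funext a3, c1, detHom_comp a1.isCharacter] at c2
    exact mul_inv_eq_one.2 (DFunLike.congr_fun c2 k)
  have hYK := normal_subgroupOf (hYU.trans hUK)
  have b2 : ρ ^ K.relIndex Y = 1 := hom_pow_index_eq_one (K.subgroupOf Y) ρ fun n hn => b1 ⟨n, hn⟩
  obtain ⟨μ, b3, -⟩ := exists_ext_hom_of_coprime (N := Y.subgroupOf U)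
    (ρ.comp (Subgroup.subgroupOfEquivOfLe hYU).toMonoidHom) (fun g n => by
      have c1 := DFunLike.congr_fun (detHom_comp hξ.isCharacter (cjA (stab_le_normalizer ξ (hU g.2))).toMonoidHom)
        (Subgroup.subgroupOfEquivOfLe hYU n)
      rw [show (fun x => ξ ((cjA (stab_le_normalizer ξ (hU g.2))).toMonoidHom x)) = ξ from
        funext ((mem_stab _).1 (hU g.2))] at c1
      have c2 : detHom χ (g * n * g⁻¹) = detHom χ n := by
        rw [map_mul, map_mul, mul_comm (detHom χ g), map_inv, mul_inv_cancel_right]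
      exact congrArg₂ (fun a b : ℂˣ => a * b⁻¹) c1.symm c2)
    (k := K.relIndex Y) (MonoidHom.ext fun n => DFunLike.congr_fun b2 _) (coprime_relIndex hY hSK hSp hi).symm
  obtain ⟨m, hm⟩ : ∃ m, m * charDegree ξ ≡ 1 [MOD K.relIndex Y] := by
    obtain ⟨m, hm⟩ := Nat.exists_mul_mod_eq_of_coprime 1 (coprime_relIndex hY hSK hSp hd).symm
      (K.subgroupOf Y).index_ne_zero_of_finite
    exact ⟨m, by rw [mul_comm]; exact hm.2⟩
  have b4 : ∀ y, μ (inc hYU y) = ρ y := fun y => b3 ⟨inc hYU y, y.2⟩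
  refine ⟨fun g => χ g * (μ ^ m) g, a1.isCharacter.mul (isCharacter_monoidHom _), fun y _ => congrFun
    (ext_unique_nrm hK (hYU.trans hUK) hη (coprime_relIndex hY hSK hSp hd)
      ((a1.isCharacter.comp (inc hYU)).mul (isCharacter_monoidHom ((μ ^ m).comp (inc hYU)))) (fun k => ?_)
      hξ.isCharacter (fun _ => rfl) ?_) y⟩
  · simp [a3, b4, b1]
  · have c1 := detHom_mul_hom (a1.isCharacter.comp (inc hYU)) ((μ ^ m).comp (inc hYU))
    have c2 : charDegree (fun x => χ (inc hYU x)) = charDegree ξ := congrArg (fun z : ℂ => ⌊z.re⌋₊) (a3 1)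
    have c3 : (μ ^ m).comp (inc hYU) = ρ ^ m := MonoidHom.ext fun y => by simp [b4]
    rw [c2, detHom_comp a1.isCharacter] at c1
    refine c1.trans ?_
    ext y : 1
    have c4 : ρ y ^ K.relIndex Y = 1 := DFunLike.congr_fun b2 y
    rw [c3, MonoidHom.mul_apply, MonoidHom.pow_apply, MonoidHom.pow_apply, ← pow_mul, pow_eq_pow_of_modEq hm c4,
      pow_one]
    simp [ρ]

end KS

end H20
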