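import Mathlib
import Cfsg.Agent.H20.McK3

/-!
H20.McK4: the McKay count when `K ⊔ S` is normal (`K` a normal `p'`-subgroup, `S` a Sylow `p`-subgroup).
* `H20.RR`: the correspondence between `p'`-degree characters of `K ⊔ S` and of `C_K(S) ⊔ S`.
* `H20.card_pc_core`.
-/

set_option autoImplicit false

open Cfsg H05 H06 H07
open scoped ComplexConjugate commutatorElement Pointwise

namespace H20

universe u

local notation "𝐍" X:max => Subgroup.normalizer (SetLike.coe X)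
local notation "𝐂" X:max => Subgroup.centralizer (SetLike.coe X)
local notation "inc" => Subgroup.inclusion

variable {Γ : Type u} [Group Γ] [Finite Γ] {p : ℕ} [hp : Fact p.Prime]

theorem exists_inv_mod_card {S : Type*} [Group S] [Finite S] (hS : IsPGroup p S) {d : ℕ} (hd : ¬ p ∣ d) :
    ∃ m, ∀ (δ : S →* ℂˣ) (s : S), δ s ^ (m * d) = δ s := by
  obtain ⟨k, hk⟩ := hS.exists_card_eq
  obtain ⟨m, -, hm⟩ := Nat.exists_mul_mod_eq_of_coprime 1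
    (hk ▸ (((Nat.Prime.coprime_iff_not_dvd hp.out).2 hd).symm.pow_right k) : d.Coprime (Nat.card S)) Nat.card_pos.ne'
  exact ⟨m, fun δ s => by
    rw [pow_eq_pow_of_modEq (show m * d ≡ 1 [MOD Nat.card S] by rw [mul_comm]; exact hm)
      (by rw [← map_pow, pow_card_eq_one', map_one]), pow_one]⟩

theorem hom_eq_of_pow {S : Type*} [Group S] [Finite S] (hS : IsPGroup p S) {d : ℕ} (hd : ¬ p ∣ d) {δ δ' : S →* ℂˣ}
    {s : S} (h : δ s ^ d = δ' s ^ d) : δ s = δ' s := by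
  obtain ⟨m, hm⟩ := exists_inv_mod_card hS hd
  rw [← hm δ, ← hm δ', mul_comm, pow_mul, pow_mul, h]

omit hp in
theorem mem_ov_central {Z X : Subgroup Γ} (hZ : Z ≤ Subgroup.center Γ) (h : Z ≤ X) {lam : Z →* ℂˣ} {χ : X → ℂ}
    (hχ : IsIrrCharacter X χ) : χ ∈ Ov h (fun z => (lam z : ℂ)) ↔ ∀ z, χ (inc h z) = χ 1 * lam z := by
  have hl := isIrrCharacter_monoidHom lam
  constructor
  · intro h1 z
    have h2 := res_eq_mult h hl (fun g _ => centralizer_le_stab _ fun z hz =>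
      (Subgroup.mem_center_iff.1 (hZ hz) g).symm) h1
    have h3 := h2 1
    simp only [map_one, Units.val_one, mul_one] at h3
    rw [h2, h3]
  · intro h1
    have := Fintype.ofFinite Z
    refine ⟨hχ, (mult_ne_zero_iff _ hχ.isCharacter hl.isCharacter).2 ?_⟩
    rw [show (fun z => χ (inc h z)) = χ 1 • fun z => (lam z : ℂ) from funext h1, H06.classInner_smul_left,
      hl.classInner_self, mul_one]
    exact hχ.apply_one_ne_zero

omit hp in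
theorem exists_ov_central {Z X : Subgroup Γ} (hZ : Z ≤ Subgroup.center Γ) (h : Z ≤ X) {χ : X → ℂ}
    (hχ : IsIrrCharacter X χ) : ∃ lam : Z →* ℂˣ, χ ∈ Ov h (fun z => (lam z : ℂ)) := by
  obtain ⟨η, h1, h2⟩ := exists_mult_under (inc h) hχ
  have : IsMulCommutative Z := ⟨⟨fun a b => Subtype.ext (Subgroup.mem_center_iff.1 (hZ b.2) a)⟩⟩
  obtain ⟨lam, rfl⟩ := h1.exists_monoidHom_of_comm
  exact ⟨lam, hχ, h2⟩

omit hp in
theorem det_central {Z X : Subgroup Γ} (h : Z ≤ X) {lam : Z →* ℂˣ} {χ : X → ℂ} (hχ : IsCharacter X χ)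
    (e : ∀ z, χ (inc h z) = χ 1 * lam z) (z : Z) : detHom χ (inc h z) = lam z ^ charDegree χ := by
  have h1 := detHom_comp hχ (inc h)
  rw [show (fun z => χ (inc h z)) = (charDegree χ : ℂ) • fun z => (lam z : ℂ) from
    funext fun z => by rw [e, hχ.charDegree_eq]; rfl, detHom_smul (isCharacter_monoidHom lam), detHom_hom] at h1
  exact (DFunLike.congr_fun h1 z).symm

/-- the correspondence between `p'`-degree characters of `K S` and `C_K(S) S` -/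
structure RR (p : ℕ) {K S Y C D : Subgroup Γ} (hK : K ≤ Y) (hS : S ≤ Y) (hCK : C ≤ K) (hCD : C ≤ D) (hSD : S ≤ D)
    (ξ : Y → ℂ) (ξ' : D → ℂ) : Prop where
  irr : IsIrrCharacter Y ξ
  deg : ¬ p ∣ charDegree ξ
  irr' : IsIrrCharacter D ξ'
  deg' : ¬ p ∣ charDegree ξ'
  gl : ¬ p ∣ mult (inc hCK) (fun k => ξ (inc hK k)) fun c => ξ' (inc hCD c)
  det : ∀ s : S, detHom ξ (inc hS s) ^ charDegree ξ' = detHom ξ' (inc hSD s) ^ charDegree ξ

section RR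

variable {K S Y C D : Subgroup Γ} {hK : K ≤ Y} {hS : S ≤ Y} {hCK : C ≤ K} {hCD : C ≤ D} {hSD : S ≤ D}
  (hY : Y = K ⊔ S) (hC : C = K ⊓ 𝐂 S) (hD : D = C ⊔ S) (hSK : S ≤ 𝐍 K) (hSp : IsPGroup p S)
  (hKp : ¬ p ∣ Nat.card K) {ξ ξ₁ ξ₂ : Y → ℂ} {ξ' ξ₁' ξ₂' : D → ℂ}

omit [Finite Γ] in
include hC in
theorem le_cent_C : S ≤ 𝐂 C := Subgroup.le_centralizer_iff.1 (hC.le.trans inf_le_right)

omit [Finite Γ] in
include hC in
theorem le_norm_C : S ≤ 𝐍 C := (le_cent_C hC).trans (Subgroup.centralizer_le_normalizer _)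

omit [Finite Γ] hp in
include hCK hKp in
theorem not_dvd_C : ¬ p ∣ Nat.card C := fun h => hKp (h.trans (Subgroup.card_dvd_of_le hCK))

include hY hC hD hSK hSp hKp

theorem RR.ex (h1 : IsIrrCharacter Y ξ) (h2 : ¬ p ∣ charDegree ξ) : ∃ ξ', RR p hK hS hCK hCD hSD ξ ξ' := by
  obtain ⟨η, a1, a2⟩ := (corr_pgroup hSp hSK hKp hC hCK).ex' (res_irrInv hY hK hSK hSp h1 h2)
  obtain ⟨m, hm⟩ := exists_inv_mod_card hSp h2
  obtain ⟨ξ', b1, b2, b3⟩ := exists_ext_dS hD hCD hSD (le_norm_C hC) hSp (not_dvd_C (hCK := hCK) hKp)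
    (η := η) ⟨a1, (le_cent_C hC).trans (centralizer_le_stab η)⟩ (((detHom ξ).comp (inc hS)) ^ (charDegree η * m))
  have b4 : charDegree ξ' = charDegree η := congrArg (fun z : ℂ => ⌊z.re⌋₊) (b2 1)
  refine ⟨ξ', h1, h2, b1, fun h => not_dvd_C (hCK := hCK) hKp (h.trans (b4 ▸ a1.charDegree_dvd_card)),
    by rwa [funext b2], fun s => ?_⟩
  have b5 : detHom ξ' (inc hSD s) = detHom ξ (inc hS s) ^ (charDegree η * m) := DFunLike.congr_fun b3 s
  rw [b5, b4, ← pow_mul, mul_assoc, mul_comm, pow_mul]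
  exact congrArg (· ^ _) (hm ((detHom ξ).comp (inc hS)) s).symm

theorem RR.ex' (h1 : IsIrrCharacter D ξ') (h2 : ¬ p ∣ charDegree ξ') : ∃ ξ, RR p hK hS hCK hCD hSD ξ ξ' := by
  obtain ⟨η, a1, a2⟩ := (corr_pgroup hSp hSK hKp hC hCK).surj _ (res_irrInv hD hCD (le_norm_C hC) hSp h1 h2).1
  obtain ⟨m, hm⟩ := exists_inv_mod_card hSp h2
  obtain ⟨ξ, b1, b2, b3⟩ := exists_ext_dS hY hK hS hSK hSp hKp a1 (((detHom ξ').comp (inc hSD)) ^ (charDegree η * m))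
  have b4 : charDegree ξ = charDegree η := congrArg (fun z : ℂ => ⌊z.re⌋₊) (b2 1)
  refine ⟨ξ, b1, fun h => hKp (h.trans (b4 ▸ a1.1.charDegree_dvd_card)), h1, h2, by rwa [funext b2], fun s => ?_⟩
  have b5 : detHom ξ (inc hS s) = detHom ξ' (inc hSD s) ^ (charDegree η * m) := DFunLike.congr_fun b3 s
  rw [b5, b4, ← pow_mul, mul_assoc, mul_comm, pow_mul]
  exact congrArg (· ^ _) (hm ((detHom ξ').comp (inc hSD)) s)

theorem RR.uniq (h1 : RR p hK hS hCK hCD hSD ξ ξ₁') (h2 : RR p hK hS hCK hCD hSD ξ ξ₂') : ξ₁' = ξ₂' := by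
  have a1 := (res_irrInv hD hCD (le_norm_C hC) hSp h1.irr' h1.deg').1
  have a2 := (corr_pgroup hSp hSK hKp hC hCK).uniq (res_irrInv hY hK hSK hSp h1.irr h1.deg) a1
    (res_irrInv hD hCD (le_norm_C hC) hSp h2.irr' h2.deg').1 h1.gl h2.gl
  have a3 : charDegree ξ₁' = charDegree ξ₂' := congrArg (fun z : ℂ => ⌊z.re⌋₊) (congrFun a2 1)
  exact ext_unique_dS hD hCD hSD (le_norm_C hC) hSp (not_dvd_C (hCK := hCK) hKp) a1 h1.irr'.isCharacter (fun _ => rfl)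
    h2.irr'.isCharacter (fun c => (congrFun a2 c).symm) (MonoidHom.ext fun s =>
      hom_eq_of_pow hSp h1.deg ((h1.det s).symm.trans (a3 ▸ h2.det s)))

theorem RR.uniq' (h1 : RR p hK hS hCK hCD hSD ξ₁ ξ') (h2 : RR p hK hS hCK hCD hSD ξ₂ ξ') : ξ₁ = ξ₂ := by
  have a1 := res_irrInv hY hK hSK hSp h1.irr h1.deg
  have a2 := (corr_pgroup hSp hSK hKp hC hCK).inj _ a1 _ (res_irrInv hY hK hSK hSp h2.irr h2.deg) _
    (res_irrInv hD hCD (le_norm_C hC) hSp h1.irr' h1.deg').1 h1.gl h2.gl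
  have a3 : charDegree ξ₁ = charDegree ξ₂ := congrArg (fun z : ℂ => ⌊z.re⌋₊) (congrFun a2 1)
  exact ext_unique_dS hY hK hS hSK hSp hKp a1.1 h1.irr.isCharacter (fun _ => rfl)
    h2.irr.isCharacter (fun c => (congrFun a2 c).symm) (MonoidHom.ext fun s =>
      hom_eq_of_pow hSp h1.deg' ((h1.det s).trans (a3 ▸ (h2.det s).symm)))

omit hY hC hD hSK hSp hKp hp in
theorem RR.cj (h : RR p hK hS hCK hCD hSD ξ ξ') {x : Γ} (h1 : x ∈ 𝐍 K) (h2 : x ∈ 𝐍 S) (h3 : x ∈ 𝐍 Y)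
    (h4 : x ∈ 𝐍 C) (h5 : x ∈ 𝐍 D) : RR p hK hS hCK hCD hSD (fun g => ξ (cjA h3 g)) fun g => ξ' (cjA h5 g) := by
  have a1 : charDegree (fun g => ξ (cjA h3 g)) = charDegree ξ := by simp [charDegree]
  have a2 : charDegree (fun g => ξ' (cjA h5 g)) = charDegree ξ' := by simp [charDegree]
  refine ⟨h.irr.comp_mulEquiv _, a1 ▸ h.deg, h.irr'.comp_mulEquiv _, a2 ▸ h.deg', ?_, fun s => ?_⟩
  · have := h.gl
    rwa [← mult_cjA hCK h1 h4] at this
  · rw [a1, a2]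
    have b1 := DFunLike.congr_fun (detHom_comp h.irr.isCharacter (cjA h3).toMonoidHom) (inc hS s)
    have b2 := DFunLike.congr_fun (detHom_comp h.irr'.isCharacter (cjA h5).toMonoidHom) (inc hSD s)
    exact (congrArg (· ^ _) b1).trans ((h.det (cjA h2 s)).trans (congrArg (· ^ _) b2).symm)

omit hKp in
theorem RR.central (h : RR p hK hS hCK hCD hSD ξ ξ') {Z : Subgroup Γ} (hZ : Z ≤ Subgroup.center Γ)
    (hZ' : Z = Z ⊓ C ⊔ Z ⊓ S) (hZY : Z ≤ Y) (hZD : Z ≤ D) (lam : Z →* ℂˣ) :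
    ξ ∈ Ov hZY (fun z => (lam z : ℂ)) ↔ ξ' ∈ Ov hZD (fun z => (lam z : ℂ)) := by
  obtain ⟨l₁, a1⟩ := exists_ov_central hZ hZY h.irr
  obtain ⟨l₂, a2⟩ := exists_ov_central hZ hZD h.irr'
  rw [mem_ov_central hZ _ h.irr] at a1 ⊢
  rw [mem_ov_central hZ _ h.irr'] at a2 ⊢
  obtain rfl : l₁ = l₂ := by
    refine hom_ext_sup hZ' inf_le_left inf_le_left (fun z => ?_) fun z => ?_
    · have b1 := (res_irrInv hY hK hSK hSp h.irr h.deg).1
      have b2 := (res_irrInv hD hCD (le_norm_C hC) hSp h.irr' h.deg').1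
      have b3 := (mem_ov_central (inf_le_left.trans hZ) (inf_le_right : Z ⊓ C ≤ C)
        (lam := l₂.comp (inc inf_le_left)) b2).2 fun z => a2 (inc inf_le_left z)
      have b4 := (mem_ov_central (inf_le_left.trans hZ) (inf_le_right.trans hCK : Z ⊓ C ≤ K)
        (lam := l₂.comp (inc inf_le_left)) b1).1 ⟨b1, mult_trans b1.isCharacter b2 (isCharacter_monoidHom _)
          (fun e => h.gl (e ▸ dvd_zero p)) b3.2⟩ z
      exact Units.val_injective (mul_left_cancel₀ h.irr.apply_one_ne_zero ((a1 _).symm.trans b4))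
    · have b1 := det_central hZY h.irr.isCharacter a1 (inc inf_le_left z)
      have b2 := det_central hZD h.irr'.isCharacter a2 (inc inf_le_left z)
      have b3 := h.det (inc inf_le_right z)
      have b4 := (congrArg (· ^ _) b1).symm.trans (b3.trans (congrArg (· ^ _) b2))
      simp only [← pow_mul] at b4
      rw [mul_comm (charDegree ξ')] at b4
      exact hom_eq_of_pow (hSp.to_le inf_le_right : IsPGroup p (Z ⊓ S : Subgroup Γ))
        (fun e => (hp.out.dvd_mul.1 e).elim h.deg h.deg') (δ := l₁.comp (inc inf_le_left))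
        (δ' := l₂.comp (inc inf_le_left)) b4
  simp only [a1, a2, mul_right_inj' h.irr.apply_one_ne_zero, mul_right_inj' h.irr'.apply_one_ne_zero]

omit hY hD in
theorem inf_normalizer_eq : K ⊓ 𝐍 S = C := by
  refine le_antisymm (fun x hx => hC.ge ⟨hx.1, fun s hs => ?_⟩)
    (hC.le.trans (inf_le_inf_left _ (Subgroup.centralizer_le_normalizer _)))
  have := eq_one_of_mem_KS hSp hKp (x := s * x * s⁻¹ * x⁻¹)
    (mul_mem (H01.conj_mem_of_le_normalizer hSK hs hx.1) (inv_mem hx.1))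
    (by rw [mul_assoc, mul_assoc, ← mul_assoc x]
        exact mul_mem hs ((Subgroup.mem_normalizer_iff.1 hx.2 _).1 (inv_mem hs)))
  rwa [mul_inv_eq_one, mul_inv_eq_iff_eq_mul] at this

theorem RR.ext_iff (h : RR p hK hS hCK hCD hSD ξ ξ') {U : Subgroup Γ} (hDU : D ≤ U) (hUS : U ≤ 𝐍 S) (hUK : U ≤ 𝐍 K)
    (hi : ¬ p ∣ S.relIndex U) (hab : ⁅U, U⁆ ≤ D) (h1 : U ≤ stab ξ) (h2 : U ≤ stab ξ') :
    Ext ξ (K ⊔ U) ↔ Ext ξ' U := by
  have hSU := hSD.trans hDU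
  have hCp := not_dvd_C (hCK := hCK) hKp
  have hUC : U ≤ 𝐍 C := hC ▸ H01.le_normalizer_inf hUK (H01.le_normalizer_centralizer hUS)
  have := normal_subgroupOf hUS
  obtain ⟨k, hk⟩ := hSp.exists_card_eq
  have e1 : Nat.card (S.subgroupOf U) = p ^ k := (Nat.card_congr (Subgroup.subgroupOfEquivOfLe hSU).toEquiv).trans hk
  obtain ⟨A₀, hA₀⟩ := Subgroup.exists_right_complement'_of_coprime (N := S.subgroupOf U)
    (e1 ▸ ((Nat.Prime.coprime_iff_not_dvd hp.out).2 hi).pow_left k)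
  set A := C ⊔ A₀.map U.subtype with hA
  have hAU : A ≤ U := sup_le (hCD.trans hDU) (Subgroup.map_subtype_le _)
  have hAp : ¬ p ∣ Nat.card A := fun e => by
    rw [hA, sup_comm] at e
    rcases hp.out.dvd_mul.1 (e.trans (H01.card_sup_dvd_of_le_normalizer ((Subgroup.map_subtype_le _).trans hUC))) with
      e | e
    · rw [Subgroup.card_subtype, ← hA₀.symm.index_eq_card] at e
      exact hi e
    · exact hCp e
  obtain ⟨j, -, hj⟩ : ∃ j ≤ k, A.relIndex U = p ^ j := (Nat.dvd_prime_pow hp.out).1 (by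
    rw [← e1, ← hA₀.index_eq_card]
    exact Subgroup.index_dvd_of_le fun x hx => Subgroup.mem_sup_right ⟨x, hx, rfl⟩)
  have hKU : ∀ X, C ≤ X → X ≤ U → K.relIndex (K ⊔ X) = C.relIndex X := fun X a b => by
    rw [relIndex_sup_nrm (b.trans hUK), ← Subgroup.inf_relIndex_right K, ← Subgroup.inf_relIndex_right C]
    congr 1
    rw [inf_eq_left.2 a]
    exact le_antisymm ((inf_le_inf_left _ (b.trans hUS)).trans (inf_normalizer_eq hC hSK hSp hKp).le) (le_inf hCK a)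
  have e2 : (K ⊔ A).relIndex (K ⊔ U) = p ^ j := by
    have a1 := Subgroup.relIndex_mul_relIndex K (K ⊔ A) (K ⊔ U) le_sup_left (sup_le_sup_left hAU _)
    rw [hKU A le_sup_left hAU, hKU U (hCD.trans hDU) le_rfl,
      ← Subgroup.relIndex_mul_relIndex C A U le_sup_left hAU, hj] at a1
    exact Nat.eq_of_mul_eq_mul_left (Nat.pos_of_ne_zero (C.subgroupOf A).index_ne_zero_of_finite) a1
  have hYU : Y ≤ K ⊔ U := hY ▸ sup_le_sup_left hSU _
  have e3 : ¬ p ∣ D.relIndex U := fun e => hi (e.trans (Dvd.intro_left _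
    (Subgroup.relIndex_mul_relIndex _ _ _ hSD hDU)))
  have e4 : ¬ p ∣ Y.relIndex (K ⊔ U) := by
    rw [show K ⊔ U = Y ⊔ U from le_antisymm (sup_le_sup_right hK _) (sup_le hYU le_sup_right),
      relIndex_sup_nrm (h1.trans (stab_le_normalizer ξ))]
    exact fun e => hi (e.trans (Subgroup.relIndex_dvd_of_le_left _ hS))
  rw [ext_iff_ext_res hY hK hSK hSp hKp hYU (sup_le Subgroup.le_normalizer hUK) e4 (sup_le_sup_left hAU _) le_sup_left
      e2 h.irr h.deg (sup_le (hK.trans (le_stab_self h.irr.isClassFunction)) h1),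
    ext_iff_ext_res hD hCD (le_norm_C hC) hSp hCp hDU hUC e3 hAU le_sup_left hj h.irr' h.deg' h2]
  refine ow_ext hSp hSK hC hCK le_sup_left (hAU.trans hUS) hKp hAp ?_ (res_irrInv hY hK hSK hSp h.irr h.deg)
    (fun x hx => mem_stab_res hK (h1 (hAU hx)) (hUK (hAU hx)))
    (res_irrInv hD hCD (le_norm_C hC) hSp h.irr' h.deg').1 h.gl
  have a1 : A ⊓ D ≤ C := by
    rw [hD, H01.dedekind_of_le_normalizer le_sup_left (le_norm_C hC)]
    exact sup_le le_rfl fun x hx => by rw [eq_one_of_mem_KS hSp hAp hx.1 hx.2]; exact one_mem _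
  exact (le_inf (H01.commutator_le_left_of_le_normalizer Subgroup.le_normalizer) ((Subgroup.commutator_mono hAU hAU).trans hab)).trans a1

end RR

omit [Finite Γ] hp in
theorem cjA_mul {X : Subgroup Γ} {x y : Γ} (hx : x ∈ 𝐍 X) (hy : y ∈ 𝐍 X) (g : X) :
    cjA (mul_mem hx hy) g = cjA hx (cjA hy g) := Subtype.ext (by simp [mul_assoc])

theorem frattini_nrm {G S Y : Subgroup Γ} (hS : S ≤ Y) (hYG : Y ≤ G) (hG : G ≤ 𝐍 Y) (hSp : IsPGroup p S)
    (hi : ¬ p ∣ S.relIndex Y) {g : Γ} (hg : g ∈ G) : ∃ y ∈ Y, ∃ n ∈ G ⊓ 𝐍 S, y * n = g := by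
  obtain ⟨y, hy, e⟩ := H01.sylow_conj_of_card hS (H01.conj_smul_le_of_mem_normalizer hS (hG hg)) hSp hi
    (Nat.card_congr (Subgroup.equivSMul _ S).toEquiv).symm
  exact ⟨y⁻¹, inv_mem hy, y * g, ⟨mul_mem (hYG hy) hg, H01.conj_smul_eq_iff_mem_normalizer.1
    (by rw [map_mul, mul_smul, e])⟩, by simp⟩

theorem card_pc_core {G K S N Z : Subgroup Γ} (hKG : K ≤ G) (hSG : S ≤ G) (hGK : G ≤ 𝐍 K) (hGY : G ≤ 𝐍 (K ⊔ S))
    (hN : N = G ⊓ 𝐍 S) (hSp : IsPGroup p S) (hKp : ¬ p ∣ Nat.card K) (hi : ¬ p ∣ S.relIndex G)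
    (hZ : Z ≤ Subgroup.center Γ) (hZ' : Z = Z ⊓ K ⊔ Z ⊓ S) (hZG : Z ≤ G) (hZN : Z ≤ N) (lam : Z →* ℂˣ) :
    Nat.card (Pc p hZG fun z => (lam z : ℂ)) = Nat.card (Pc p hZN fun z => (lam z : ℂ)) := by
  obtain ⟨Y, hY⟩ : ∃ Y, Y = K ⊔ S := ⟨_, rfl⟩
  obtain ⟨C, hC⟩ : ∃ C, C = K ⊓ 𝐂 S := ⟨_, rfl⟩
  obtain ⟨D, hD⟩ : ∃ D, D = C ⊔ S := ⟨_, rfl⟩
  rw [← hY] at hGY
  have hK : K ≤ Y := hY ▸ le_sup_left
  have hS : S ≤ Y := hY ▸ le_sup_right
  have hCK : C ≤ K := hC ▸ inf_le_left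
  have hCD : C ≤ D := hD ▸ le_sup_left
  have hSD : S ≤ D := hD ▸ le_sup_right
  have hSK := hSG.trans hGK
  have hYG : Y ≤ G := hY ▸ sup_le hKG hSG
  have hNG : N ≤ G := hN ▸ inf_le_left
  have hNS : N ≤ 𝐍 S := hN ▸ inf_le_right
  have hNC : N ≤ 𝐍 C := hC ▸ H01.le_normalizer_inf (hNG.trans hGK) (H01.le_normalizer_centralizer hNS)
  have hND : N ≤ 𝐍 D := hD ▸ H01.le_normalizer_sup hNC hNS
  have hDN : D ≤ N := by
    rw [hD, hN]
    exact sup_le (le_inf (hCK.trans hKG) ((hC.le.trans inf_le_right).trans (Subgroup.centralizer_le_normalizer _)))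
      (le_inf hSG Subgroup.le_normalizer)
  have hYN : D = Y ⊓ N := by
    rw [inf_comm, hY, sup_comm, H01.dedekind_of_le_normalizer' (hSD.trans hDN) hSK, hD, sup_comm]
    congr 1
    rw [hN, inf_comm, ← inf_assoc, inf_eq_left.2 hKG, inf_normalizer_eq hC hSK hSp hKp]
  have hZC : Z ⊓ K = Z ⊓ C := le_antisymm (fun z hz => ⟨hz.1, hC.ge ⟨hz.2, fun s _ =>
    Subgroup.mem_center_iff.1 (hZ hz.1) s⟩⟩) (inf_le_inf_left _ hCK)
  rw [hZC] at hZ'
  have hZD : Z ≤ D := hZ'.le.trans (sup_le (inf_le_right.trans hCD) (inf_le_right.trans hSD))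
  have hZY : Z ≤ Y := hZD.trans (hYN.le.trans inf_le_left)
  have hiY : ¬ p ∣ Y.relIndex G := fun e => hi (e.trans (Subgroup.relIndex_dvd_of_le_left _ hS))
  have hiN : ¬ p ∣ S.relIndex N := fun e => hi (e.trans (Dvd.intro _
    (Subgroup.relIndex_mul_relIndex _ _ _ (hSD.trans hDN) hNG)))
  have hiD : ¬ p ∣ D.relIndex N := fun e => hiN (e.trans (Subgroup.relIndex_dvd_of_le_left _ hSD))
  have hF : ∀ g ∈ G, ∃ y ∈ Y, ∃ n ∈ N, y * n = g := fun g hg => hN ▸ frattini_nrm hS hYG hGY hSp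
    (fun e => hi (e.trans (Dvd.intro _ (Subgroup.relIndex_mul_relIndex _ _ _ hS hYG)))) hg
  have hl := isIrrCharacter_monoidHom lam
  have hZst : ∀ X : Subgroup Γ, X ≤ stab fun z => (lam z : ℂ) := fun X g _ => centralizer_le_stab _ fun z hz =>
    (Subgroup.mem_center_iff.1 (hZ hz) g).symm
  have hcj : ∀ {ξ ξ'}, RR p hK hS hCK hCD hSD ξ ξ' → ∀ n (hn : n ∈ N),
      RR p hK hS hCK hCD hSD (fun g => ξ (cjA (hGY (hNG hn)) g)) fun g => ξ' (cjA (hND hn) g) :=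
    fun h n hn => h.cj (hGK (hNG hn)) (hNS hn) _ (hNC hn) _
  have under : ∀ {X W : Subgroup Γ} (h1 : Z ≤ W) (h2 : W ≤ X) (_ : X ≤ 𝐍 W), ∀ χ ∈ Pc p (h1.trans h2)
      fun z => (lam z : ℂ), ∃ ξ ∈ Pc p h1 fun z => (lam z : ℂ), mult (inc h2) χ ξ ≠ 0 := fun h1 h2 h3 χ hχ => by
    obtain ⟨ξ, a1, a2, a3⟩ := exists_between (inc h2) (inc h1) hχ.1.1.isCharacter hl.isCharacter hχ.1.2
    obtain ⟨f, -, hf⟩ := exists_deg_eq h2 h3 a1 ⟨hχ.1.1, a2⟩
    exact ⟨ξ, ⟨⟨a1, a3⟩, fun e => hχ.2 (hf ▸ e.mul_left f)⟩, a2⟩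
  have hov : ∀ {X W : Subgroup Γ} (h1 : Z ≤ W) (h2 : W ≤ X) (_ : X ≤ 𝐍 W) (_ : ¬ p ∣ W.relIndex X),
      ∀ ξ ∈ Pc p h1 fun z => (lam z : ℂ),
      {χ | χ ∈ Pc p (h1.trans h2) (fun z => (lam z : ℂ)) ∧ mult (inc h2) χ ξ ≠ 0} = Ov h2 ξ :=
    fun h1 h2 h3 h4 ξ hξ => Set.ext fun χ => ⟨fun h => ⟨h.1.1.1, h.2⟩, fun h => ⟨⟨⟨h.1,
      mult_trans h.1.isCharacter hξ.1.1 hl.isCharacter h.2 hξ.1.2⟩, fun e => by
        obtain ⟨f, a1, hf⟩ := exists_deg_eq h2 h3 hξ.1.1 h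
        exact (hp.out.dvd_mul.1 (hf ▸ e)).elim (fun e => h4 (e.trans a1)) hξ.2⟩, h.2⟩⟩
  refine card_eq_of_rel {a : (Y → ℂ) × (D → ℂ) | RR p hK hS hCK hCD hSD a.1 a.2 ∧ a.1 ∈ Ov hZY fun z => (lam z : ℂ)}
    (fun χ a => mult (inc hYG) χ a.1 ≠ 0) (fun ψ a => mult (inc hDN) ψ a.2 ≠ 0)
    (fun a b => ∃ n, ∃ hn : n ∈ N, b.1 = (fun g => a.1 (cjA (hGY (hNG hn)) g)) ∧
      b.2 = fun g => a.2 (cjA (hND hn) g)) (fun χ hχ => ?_) (fun ψ hψ => ?_) (fun χ hχ a ha b hb h => ?_)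
    (fun ψ hψ a ha b hb h => ?_) fun a ha => ?_
  · obtain ⟨ξ, a1, a2⟩ := under hZY hYG hGY χ hχ
    obtain ⟨ξ', a3⟩ := RR.ex (hK := hK) (hS := hS) (hCK := hCK) (hCD := hCD) (hSD := hSD) hY hC hD hSK hSp hKp
      a1.1.1 a1.2
    exact ⟨(ξ, ξ'), ⟨a3, a1.1⟩, a2⟩
  · obtain ⟨ξ', a1, a2⟩ := under hZD hDN hND ψ hψ
    obtain ⟨ξ, a3⟩ := RR.ex' (hK := hK) (hS := hS) (hCK := hCK) (hCD := hCD) (hSD := hSD) hY hC hD hSK hSp hKp
      a1.1.1 a1.2
    exact ⟨(ξ, ξ'), ⟨a3, (a3.central hY hC hD hSK hSp hZ hZ' hZY hZD lam).2 a1.1⟩, a2⟩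
  · constructor
    · intro h'
      obtain ⟨g, hg, e⟩ := exists_cjA_of_under hYG hGY hχ.1.1 ha.1.irr hb.1.irr h h'
      obtain ⟨y, hy, n, hn, rfl⟩ := hF g hg
      have e' : b.1 = fun g => a.1 (cjA (hGY (hNG hn)) g) := e.trans (funext fun l => by
        rw [cjA_mul (hGY (hYG hy)) (hGY (hNG hn))]
        exact (mem_stab _).1 (le_stab_self ha.1.irr.isClassFunction hy) _)
      exact ⟨n, hn, e', hb.1.uniq hY hC hD hSK hSp hKp (e' ▸ hcj ha.1 n hn)⟩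
    · rintro ⟨n, hn, e, -⟩
      rwa [e, mult_cjA_right hYG (le_stab_self hχ.1.1.isClassFunction (hNG hn))]
  · constructor
    · intro h'
      obtain ⟨n, hn, e⟩ := exists_cjA_of_under hDN hND hψ.1.1 ha.1.irr' hb.1.irr' h h'
      exact ⟨n, hn, hb.1.uniq' hY hC hD hSK hSp hKp (e ▸ hcj ha.1 n hn), e⟩
    · rintro ⟨n, hn, -, e⟩
      rwa [e, mult_cjA_right hDN (le_stab_self hψ.1.1.isClassFunction hn)]
  obtain ⟨ξ, ξ'⟩ := a
  obtain ⟨h, h'⟩ := ha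
  dsimp only at h h' ⊢
  rw [hov hZY hYG hGY hiY ξ ⟨h', h.deg⟩,
    hov hZD hDN hND hiD ξ' ⟨(h.central hY hC hD hSK hSp hZ hZ' hZY hZD lam).1 h', h.deg'⟩]
  have hst : ∀ n ∈ N, n ∈ stab ξ ↔ n ∈ stab ξ' := fun n hn => by
    rw [mem_stab (hGY (hNG hn)), mem_stab (hND hn), ← funext_iff, ← funext_iff]
    exact ⟨fun e => RR.uniq hY hC hD hSK hSp hKp (e ▸ hcj h n hn) h,
      fun e => RR.uniq' hY hC hD hSK hSp hKp (e ▸ hcj h n hn) h⟩
  have hYT : Y ≤ G ⊓ stab ξ := le_inf hYG (le_stab_self h.irr.isClassFunction)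
  have hDT : D ≤ N ⊓ stab ξ' := le_inf hDN (le_stab_self h.irr'.isClassFunction)
  have hTT : N ⊓ stab ξ' ≤ G ⊓ stab ξ := fun x hx => ⟨hNG hx.1, (hst x hx.1).2 hx.2⟩
  rw [(clifford_bij hYG hGY h.irr rfl hYT inf_le_left).1.card_eq,
    (clifford_bij hDN hND h.irr' rfl hDT inf_le_left).1.card_eq]
  have hF' : ∀ U, Y ≤ U → U ≤ G ⊓ stab ξ → U = K ⊔ U ⊓ (N ⊓ stab ξ') := fun U a1 a2 =>
    le_antisymm (fun g hg => by
      obtain ⟨y, hy, n, hn, rfl⟩ := hF g (a2 hg).1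
      have b1 : n ∈ U := (Subgroup.mul_mem_cancel_left _ (a1 hy)).1 hg
      refine mul_mem ((hY.le.trans (sup_le_sup_left (le_inf (hS.trans a1) (hSD.trans hDT)) _)) hy)
        (Subgroup.mem_sup_right ⟨b1, hn, (hst n hn).1 (a2 b1).2⟩)) (sup_le (hK.trans a1) inf_le_left)
  refine card_ov_eq hYT hTT ((hF' _ hYT le_rfl).le.trans (sup_le_sup hK inf_le_right))
    (le_antisymm (le_inf (hYN.le.trans inf_le_left) hDT) ((inf_le_inf_left _ inf_le_left).trans hYN.ge)) hDT h.irr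
    inf_le_right h.irr' inf_le_right fun U a1 a2 a3 => ?_
  have b1 : U ⊓ (N ⊓ stab ξ') ≤ N := inf_le_right.trans inf_le_left
  have b2 : D ≤ U ⊓ (N ⊓ stab ξ') := le_inf ((hYN.le.trans inf_le_left).trans a1) hDT
  rw [← h.ext_iff hY hC hD hSK hSp hKp b2 (b1.trans hNS) (b1.trans (hNG.trans hGK)) (fun e => hiN (e.trans
    (Dvd.intro _ (Subgroup.relIndex_mul_relIndex _ _ _ (hSD.trans b2) b1)))) ((le_inf
    ((Subgroup.commutator_mono inf_le_left inf_le_left).trans a3)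
    ((H01.commutator_le_left_of_le_normalizer Subgroup.le_normalizer).trans b1)).trans hYN.ge)
    (inf_le_left.trans (a2.trans inf_le_right)) (inf_le_right.trans inf_le_right), ← hF' U a1 a2]

end H20
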