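import Mathlib
import Cfsg.Agent.H20.McK4
import Cfsg.Agent.H24.PSolv

/-!
H20.McK5: the relative McKay count for `p`-solvable groups (`H20.rel_mckay`).
-/

set_option autoImplicit false

open Cfsg H05 H06 H07
open scoped ComplexConjugate commutatorElement Pointwise

namespace H20

universe u

local notation "𝐍" X:max => Subgroup.normalizer (SetLike.coe X)
local notation "𝐂" X:max => Subgroup.centralizer (SetLike.coe X)
local notation "inc" => Subgroup.inclusion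

variable {Γ : Type u} [Group Γ] [Finite Γ] {p : ℕ} [hp : Fact p.Prime]

theorem exists_syl (p : ℕ) [Fact p.Prime] (X : Subgroup Γ) : ∃ S, S ≤ X ∧ IsPGroup p S ∧ ¬ p ∣ S.relIndex X :=
  ⟨_, H01.sylow_map_subtype_spec (default : Sylow p X)⟩

omit hp [Finite Γ] in
theorem not_dvd_of_le_right {S X Y : Subgroup Γ} (h1 : S ≤ X) (h2 : X ≤ Y) (h : ¬ p ∣ S.relIndex Y) :
    ¬ p ∣ S.relIndex X := fun e => h (e.trans (Dvd.intro _ (Subgroup.relIndex_mul_relIndex _ _ _ h1 h2)))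

omit [Finite Γ] in
theorem not_dvd_trans {S X Y : Subgroup Γ} (h1 : S ≤ X) (h2 : X ≤ Y) (h : ¬ p ∣ S.relIndex X)
    (h' : ¬ p ∣ X.relIndex Y) : ¬ p ∣ S.relIndex Y := fun e => by
  rw [← Subgroup.relIndex_mul_relIndex _ _ _ h1 h2] at e
  exact (hp.out.dvd_mul.1 e).elim h h'

theorem le_of_pow_of_not_dvd {L M P : Subgroup Γ} (hL : L ≤ P) {k : ℕ} (hk : L.relIndex M = p ^ k)
    (hM : P ≤ 𝐍 M) (hi : ¬ p ∣ P.relIndex (M ⊔ P)) : M ≤ P := by
  have h1 : P.relIndex M ∣ p ^ k := hk ▸ Subgroup.relIndex_dvd_of_le_left _ hL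
  have h2 := H01.card_sup_mul_card_inf' hM
  rw [← H01.card_mul_relIndex (le_sup_left : P ≤ P ⊔ M), ← H01.card_mul_relIndex (inf_le_right : P ⊓ M ≤ M),
    Subgroup.inf_relIndex_right, mul_assoc, mul_comm _ (Nat.card (P ⊓ M : Subgroup Γ))] at h2
  have h3 := Nat.eq_of_mul_eq_mul_left Nat.card_pos (Nat.eq_of_mul_eq_mul_left Nat.card_pos h2)
  rw [sup_comm, h3] at hi
  exact Subgroup.relIndex_eq_one.1 (Nat.eq_one_of_dvd_coprimes
    (((Nat.Prime.coprime_iff_not_dvd hp.out).2 hi).pow_left k) h1 dvd_rfl)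

theorem exists_inv_under_syl {M X S : Subgroup Γ} (h : M ≤ X) (hX : X ≤ 𝐍 M) (hS : S ≤ X) (hSp : IsPGroup p S)
    (hi : ¬ p ∣ S.relIndex X) {χ : X → ℂ} (hχ : IsIrrCharacter X χ) (hd : ¬ p ∣ charDegree χ) :
    ∃ η ∈ IrrInv S M, mult (inc h) χ η ≠ 0 := by
  obtain ⟨η, h1, h2⟩ := exists_mult_under (inc h) hχ
  obtain ⟨h3, h4⟩ := clifford_bij h hX h1 rfl (le_inf h (le_stab_self h1.isClassFunction)) inf_le_left
  obtain ⟨ψ, h5, h6⟩ := h3.ex χ ⟨hχ, h2⟩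
  have h7 : ¬ p ∣ (X ⊓ stab η).relIndex X := fun e => hd (h4 χ ⟨hχ, h2⟩ ψ h5 h6 ▸ e.mul_right _)
  obtain ⟨T, a1, a2, a3⟩ := exists_syl p (X ⊓ stab η)
  have a4 := not_dvd_trans a1 inf_le_left a3 h7
  obtain ⟨g, hg, e⟩ := H01.sylow_conj_of_card (a1.trans inf_le_left) hS a2 a4
    (H01.card_eq_of_sylow hS hSp hi (a1.trans inf_le_left) a2 a4)
  refine ⟨fun l => η (cjA (hX hg) l), ⟨h1.comp_mulEquiv _, fun s hs => mem_stab_cjA _ (a1 ?_).2⟩, ?_⟩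
  · rw [← e]; exact Subgroup.smul_mem_pointwise_smul _ _ _ hs
  · rwa [mult_cjA_right h (le_stab_self hχ.isClassFunction hg)]

theorem exists_norm_conj {M X S : Subgroup Γ} (hX : X ≤ 𝐍 M) (hS : S ≤ X) (hSp : IsPGroup p S)
    (hi : ¬ p ∣ S.relIndex X) {η : M → ℂ} (hη : S ≤ stab η) {g : Γ} (hg : g ∈ X)
    (h : S ≤ stab fun l => η (cjA (hX hg) l)) :
    ∃ n, ∃ hn : n ∈ X ⊓ 𝐍 S, (fun l => η (cjA (hX hg) l)) = fun l => η (cjA (hX hn.1) l) := by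
  have h1 : MulAut.conj g • S ≤ X ⊓ stab η := by
    rintro _ ⟨s, hs, rfl⟩
    refine ⟨X.mul_mem (X.mul_mem hg (hS hs)) (X.inv_mem hg), ?_⟩
    have := mem_stab_cjA (χ := fun l => η (cjA (hX hg) l)) (hX (inv_mem hg)) (y := g * s * g⁻¹) (by simpa [mul_assoc] using h hs)
    rwa [show (fun l => η (cjA (hX hg) (cjA (hX (inv_mem hg)) l))) = η from
      funext fun l => congrArg η (Subtype.ext (by simp [mul_assoc]))] at this
  obtain ⟨t, ht, e⟩ := H01.sylow_conj_of_card (le_inf hS hη) h1 hSp (not_dvd_of_le_right (le_inf hS hη) inf_le_left hi)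
    (H01.card_conj_smul g S)
  refine ⟨t * g, ⟨mul_mem ht.1 hg, H01.conj_smul_eq_iff_mem_normalizer.1 (by rw [map_mul, mul_smul, e])⟩,
    funext fun l => ?_⟩
  rw [cjA_mul (hX ht.1) (hX hg)]
  exact ((mem_stab _).1 ht.2 _).symm

theorem card_pc_red {L M G X S : Subgroup Γ} (hLM : L ≤ M) (hMX : M ≤ X) (hXG : X ≤ G) (hG : G ≤ 𝐍 M) (hS : S ≤ X)
    (hSp : IsPGroup p S) (hi : ¬ p ∣ S.relIndex G) (hN : G ⊓ 𝐍 S ≤ X) {ν : L → ℂ} (hν : IsIrrCharacter L ν)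
    (hst : G ≤ stab ν) (h : ∀ η ∈ IrrInv S M, Nat.card (Pc p (hMX.trans hXG) η) = Nat.card (Pc p hMX η)) :
    Nat.card (Pc p (hLM.trans (hMX.trans hXG)) ν) = Nat.card (Pc p (hLM.trans hMX) ν) := by
  have key : ∀ (Y : Subgroup Γ) (h1 : X ≤ Y) (h2 : Y ≤ G),
      (∀ χ ∈ Pc p (hLM.trans (hMX.trans h1)) ν, ∃ η ∈ IrrOver S hLM ν, mult (inc (hMX.trans h1)) χ η ≠ 0) ∧
      (∀ χ ∈ Pc p (hLM.trans (hMX.trans h1)) ν, ∀ η ∈ IrrOver S hLM ν, ∀ η' ∈ IrrOver S hLM ν,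
        mult (inc (hMX.trans h1)) χ η ≠ 0 → (mult (inc (hMX.trans h1)) χ η' ≠ 0 ↔
          ∃ n, ∃ hn : n ∈ G ⊓ 𝐍 S, η' = fun l => η (cjA (hG hn.1) l))) ∧
      ∀ η ∈ IrrOver S hLM ν, {χ | χ ∈ Pc p (hLM.trans (hMX.trans h1)) ν ∧ mult (inc (hMX.trans h1)) χ η ≠ 0} =
        Pc p (hMX.trans h1) η := fun Y h1 h2 => by
    refine ⟨fun χ hχ => ?_, fun χ hχ η hη η' hη' h3 => ⟨fun h4 => ?_, ?_⟩, fun η hη => Set.ext fun χ =>
      ⟨fun h => ⟨⟨h.1.1.1, h.2⟩, h.1.2⟩, fun h => ⟨⟨⟨h.1.1, mult_trans h.1.1.isCharacter hη.1.1 hν.isCharacter h.1.2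
        hη.2⟩, h.2⟩, h.1.2⟩⟩⟩
    · obtain ⟨η, a1, a2⟩ := exists_inv_under_syl (hMX.trans h1) (h2.trans hG) (hS.trans h1) hSp
        (not_dvd_of_le_right (hS.trans h1) h2 hi) hχ.1.1 hχ.2
      obtain ⟨ν', a3, a4⟩ := exists_mult_under (inc hLM) a1.1
      obtain ⟨g, hg, e⟩ := exists_cjA_of_under _ (h2.trans (hst.trans (stab_le_normalizer ν))) hχ.1.1 hν a3 hχ.1.2
        (mult_trans hχ.1.1.isCharacter a1.1 a3.isCharacter a2 a4)
      obtain rfl : ν' = ν := e.trans (funext ((mem_stab _).1 (hst (h2 hg))))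
      exact ⟨η, ⟨a1, a4⟩, a2⟩
    · obtain ⟨g, hg, rfl⟩ := exists_cjA_of_under _ (h2.trans hG) hχ.1.1 hη.1.1 hη'.1.1 h3 h4
      exact exists_norm_conj hG (hS.trans hXG) hSp hi hη.1.2 (h2 hg) hη'.1.2
    · rintro ⟨n, hn, rfl⟩
      rwa [mult_cjA_right _ (le_stab_self hχ.1.1.isClassFunction (h1 (hN hn)))]
  obtain ⟨a1, a2, a3⟩ := key G hXG le_rfl
  obtain ⟨b1, b2, b3⟩ := key X le_rfl hXG
  exact card_eq_of_rel (IrrOver S hLM ν) _ _ _ a1 b1 a2 b2 fun η hη => by rw [a3 η hη, b3 η hη]; exact h η hη.1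

theorem card_pc_central {G Z M S H : Subgroup Γ} (hG : G = ⊤) (hZ : Z ≤ Subgroup.center Γ) (hZM : Z ≤ M)
    (hM : G ≤ 𝐍 M) (hc : (Z.relIndex M).Coprime p) (hSp : IsPGroup p S) (hi : ¬ p ∣ S.relIndex G)
    (hMS : G ≤ 𝐍 (M ⊔ S)) (hH : H = G ⊓ 𝐍 (Z ⊔ S)) (hZG : Z ≤ G) (hZH : Z ≤ H) (lam : Z →* ℂˣ) :
    Nat.card (Pc p hZG fun z => (lam z : ℂ)) = Nat.card (Pc p hZH fun z => (lam z : ℂ)) := by
  subst hG
  have hc' : ∀ X Y : Subgroup Γ, X ≤ Z → X ≤ 𝐂 Y := fun X Y h x hx y _ => Subgroup.mem_center_iff.1 (hZ (h hx)) y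
  have hn : ∀ X : Subgroup Γ, X ≤ Z → X.Normal := fun X h => ⟨fun x hx g => by
    rw [Subgroup.mem_center_iff.1 (hZ (h hx)) g, mul_inv_cancel_right]; exact hx⟩
  obtain ⟨Q, a1, a2, a3⟩ := exists_syl p Z
  have := hn Q a1
  have : M.Normal := Subgroup.normalizer_eq_top_iff.1 (top_le_iff.1 hM)
  have a4 := not_dvd_trans a1 hZM a3 ((Nat.Prime.coprime_iff_not_dvd hp.out).1 hc.symm)
  obtain ⟨K, b1, b2, b3, b4⟩ := H24.exists_normal_compl_of_central (a1.trans hZM) (hc' _ _ a1)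
    (H01.coprime_card_of_isPGroup a2 ((Nat.Prime.coprime_iff_not_dvd hp.out).2 a4).symm).symm
  obtain ⟨k, hk⟩ := a2.exists_card_eq
  have a5 : Q ≤ S := le_of_pow_of_not_dvd (L := ⊥) bot_le (by rw [Subgroup.relIndex_bot_left, hk])
    Subgroup.le_normalizer_of_normal (not_dvd_of_le_right le_sup_right le_top hi)
  have a6 : M ⊔ S = K ⊔ S := by rw [← b4, sup_comm Q, sup_assoc, sup_eq_right.2 a5]
  have a7 : 𝐍 (Z ⊔ S) = 𝐍 S := by
    refine le_antisymm (fun x hx => ?_) (H01.le_normalizer_sup (have := hn Z le_rfl; Subgroup.le_normalizer_of_normal)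
      le_rfl)
    obtain ⟨y, hy, e⟩ := H01.sylow_conj_of_card le_sup_right (H01.conj_smul_le_of_mem_normalizer le_sup_right hx) hSp
      (not_dvd_of_le_right le_sup_right le_top hi) (H01.card_conj_smul x S)
    have h1 : y ∈ 𝐍 S := sup_le ((hc' _ _ le_rfl).trans (Subgroup.centralizer_le_normalizer _))
      Subgroup.le_normalizer hy
    exact (Subgroup.mul_mem_cancel_left _ h1).1 (H01.conj_smul_eq_iff_mem_normalizer.1 (by rw [map_mul, mul_smul, e]))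
  refine card_pc_core (K := K) le_top le_top Subgroup.le_normalizer_of_normal (a6 ▸ hMS) (a7 ▸ hH) hSp (b3 ▸ a4) hi hZ
    (le_antisymm (fun z hz => ?_) (sup_le inf_le_left inf_le_left)) _ _ lam
  obtain ⟨q, hq, k, hk, rfl⟩ := Subgroup.mem_sup_of_normal_left.1 (b4.ge (hZM hz))
  rw [sup_comm]
  exact mul_mem (Subgroup.mem_sup_left ⟨a1 hq, a5 hq⟩)
    (Subgroup.mem_sup_right ⟨(Subgroup.mul_mem_cancel_left _ (a1 hq)).1 hz, hk⟩)

theorem card_pc_span {L M G S H : Subgroup Γ} (hLM : L ≤ M) (hMG : M ≤ G) (hM : G ≤ 𝐍 M)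
    (hc : (L.relIndex M).Coprime p) (hSG : S ≤ G) (hSp : IsPGroup p S) (hi : ¬ p ∣ S.relIndex G)
    (hMS : G ≤ 𝐍 (M ⊔ S)) (hH : H = G ⊓ 𝐍 (L ⊔ S)) (hLH : L ≤ H) {ν : L → ℂ} (hν : IsIrrCharacter L ν)
    (hd : ¬ p ∣ charDegree ν) (hst : G ≤ stab ν) :
    Nat.card (Pc p (hLM.trans hMG) ν) = Nat.card (Pc p hLH ν) := by
  obtain ⟨Γ', Γ'', _, _, _, _, π, ρ, Z, lam, α, hS, hZ, hl, -⟩ :=
    exists_span (hLM.trans hMG) le_rfl Subgroup.le_normalizer (θ := ν) ⟨hν, hst⟩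
  have key : ∀ X (h1 : L ≤ X) (_ : X ≤ G),
      Nat.card (Pc p h1 ν) = Nat.card (Pc p (hS.le_sp h1) fun z => (lam z : ℂ)) := fun X h1 h2 => by
    have hb := hS.bij h1 h2 h2 Subgroup.le_normalizer
    rw [irrOver_eq_ov _ le_rfl, irrOver_eq_ov _ le_rfl] at hb
    refine (hb.restrict (fun χ => ¬ p ∣ charDegree χ) (fun χ => ¬ p ∣ charDegree χ) fun χ hχ ψ hψ h => ?_).card_eq
    have h3 := h.apply_one
    rw [map_one, Units.val_one, mul_one, ← hχ.1.charDegree_eq, ← hψ.1.charDegree_eq, ← hν.charDegree_eq] at h3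
    rw [show charDegree χ = charDegree ψ * charDegree ν by exact_mod_cast h3, hp.out.dvd_mul, not_or, and_iff_left hd]
  have hP : L ⊔ S ≤ G := sup_le (hLM.trans hMG) hSG
  have hLn := hst.trans (stab_le_normalizer ν)
  obtain ⟨T, a1, a2, a3⟩ := exists_syl p (sp π ρ (L ⊔ S))
  obtain ⟨k, hk⟩ := hSp.exists_card_eq
  obtain ⟨j, -, hj⟩ : ∃ j ≤ k, Z.relIndex (sp π ρ (L ⊔ S)) = p ^ j := (Nat.dvd_prime_pow hp.out).1 (by
    rw [hS.relIndex_Z hP, relIndex_sup_nrm (hSG.trans hLn), ← hk]; exact Subgroup.relIndex_dvd_card _ _)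
  have a4 : Z ⊔ T ≤ sp π ρ (L ⊔ S) := sup_le (hS.le_sp le_sup_left) a1
  have a5 : sp π ρ (L ⊔ S) = Z ⊔ T := le_antisymm (le_of_pow_of_not_dvd le_sup_left hj (a4.trans Subgroup.le_normalizer)
    (by rw [sup_eq_left.2 a4]; exact fun e => a3 (e.trans (Subgroup.relIndex_dvd_of_le_left _ le_sup_right)))) a4
  rw [key G _ le_rfl, key H hLH (hH ▸ inf_le_left)]
  refine card_pc_central (M := sp π ρ M) (S := T) hS.sp_top hZ (hS.le_sp hLM) (sp_norm _ _ hM)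
    (by rwa [hS.relIndex_Z hMG]) a2 (not_dvd_trans a1 (sp_mono _ _ hP) a3 ?_) ?_ ?_ _ _ lam
  · rw [hS.relIndex_sp le_sup_left le_rfl]
    exact fun e => hi (e.trans (Subgroup.relIndex_dvd_of_le_left _ le_sup_right))
  · have := sp_norm π ρ hMS
    rwa [show M ⊔ S = M ⊔ (L ⊔ S) by rw [← sup_assoc, sup_eq_left.2 hLM], hS.sp_sup hMG hP, a5, ← sup_assoc,
      sup_eq_left.2 (hS.le_sp hLM)] at this
  · rw [← a5]
    refine le_antisymm (le_inf (sp_mono _ _ (hH ▸ inf_le_left)) (sp_norm _ _ (hH ▸ inf_le_right))) fun x hx => ?_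
    obtain ⟨x, rfl⟩ := hS.surj x
    have b1 := (hS.mem_sp (hLM.trans hMG)).1 hx.1
    refine (hS.mem_sp hLH).2 (hH.ge ⟨b1, Subgroup.mem_normalizer_iff.2 fun y => ?_⟩)
    by_cases hy : y ∈ G
    · obtain ⟨y, rfl⟩ := hS.range.ge hy
      have := Subgroup.mem_normalizer_iff.1 hx.2 (ρ y)
      rwa [← map_inv, ← map_mul, ← map_mul, hS.mem_sp le_sup_left, hS.mem_sp le_sup_left, map_mul, map_mul,
        map_inv] at this
    · exact ⟨fun h => absurd (hP h) hy, fun h => absurd (by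
        simpa [mul_assoc] using mul_mem (mul_mem (inv_mem b1) (hP h)) b1) hy⟩

omit hp in
theorem relIndex_lt {L X G : Subgroup Γ} (h : L ≤ X) (h' : X < G) : L.relIndex X < L.relIndex G := by
  have h1 := H01.card_lt_of_lt h'
  rw [← H01.card_mul_relIndex h, ← H01.card_mul_relIndex (h.trans h'.le)] at h1
  exact lt_of_mul_lt_mul_left h1 (Nat.zero_le _)

omit hp in
theorem relIndex_lt' {L X G : Subgroup Γ} (h : L < X) (h' : X ≤ G) : X.relIndex G < L.relIndex G := by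
  rw [← Subgroup.relIndex_mul_relIndex L X G h.le h']
  exact lt_mul_of_one_lt_left (Nat.pos_of_ne_zero (X.subgroupOf G).index_ne_zero_of_finite)
    (Nat.one_lt_iff_ne_zero_and_ne_one.2 ⟨(L.subgroupOf X).index_ne_zero_of_finite,
      fun e => h.not_ge (Subgroup.relIndex_eq_one.1 e)⟩)

theorem rel_mckay {L G S H : Subgroup Γ} (hLG : L ≤ G) (hG : G ≤ 𝐍 L) (hps : IsPSolvable p G) (hSG : S ≤ G)
    (hSp : IsPGroup p S) (hi : ¬ p ∣ S.relIndex G) (hH : H = G ⊓ 𝐍 (L ⊔ S)) (hLH : L ≤ H) {ν : L → ℂ}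
    (hν : ν ∈ IrrInv S L) : Nat.card (Pc p hLG ν) = Nat.card (Pc p hLH ν) := by
  induction hn : L.relIndex G using Nat.strong_induction_on generalizing L G H with
  | _ n ih =>
  subst hn
  have hHG : H ≤ G := hH ▸ inf_le_left
  have hSH : S ≤ H := hH ▸ le_inf hSG (le_sup_right.trans Subgroup.le_normalizer)
  by_cases hd : p ∣ charDegree ν
  · have : ∀ X (h : L ≤ X), X ≤ G → Pc p h ν = ∅ := fun X h h' => Set.eq_empty_of_forall_notMem fun χ hχ => by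
      obtain ⟨f, -, hf⟩ := exists_deg_eq h (h'.trans hG) hν.1 hχ.1
      exact hχ.2 (hf ▸ hd.mul_left f)
    rw [this G hLG le_rfl, this H hLH hHG]; simp
  have hL := le_stab_self hν.1.isClassFunction
  by_cases hst : ¬ G ≤ stab ν
  · have a1 : S ≤ G ⊓ stab ν := le_inf hSG hν.2
    have a2 : S ≤ H ⊓ stab ν := le_inf hSH hν.2
    rw [card_pc_clifford hLG hG hν.1 rfl (le_inf hLG hL) fun e => hi (e.trans (Subgroup.relIndex_dvd_of_le_left _ a1)),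
      card_pc_clifford hLH (hHG.trans hG) hν.1 rfl (le_inf hLH hL) fun e => not_dvd_of_le_right hSH hHG hi
        (e.trans (Subgroup.relIndex_dvd_of_le_left _ a2))]
    exact ih _ (relIndex_lt (le_inf hLG hL) (inf_lt_left.2 hst)) _ (inf_le_left.trans hG)
      (H24.PS.of_le hps inf_le_left) a1 (not_dvd_of_le_right a1 inf_le_left hi) (by rw [hH, inf_right_comm]) _ hν rfl
  rw [not_not] at hst
  have hfin : G ≤ 𝐍 (L ⊔ S) → Nat.card (Pc p hLG ν) = Nat.card (Pc p hLH ν) := fun h => by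
    obtain rfl : H = G := hH.trans (inf_eq_left.2 h)
    rfl
  by_cases hLG' : G ≤ L
  · exact hfin ((hLG'.trans le_sup_left).trans Subgroup.le_normalizer)
  obtain ⟨M₀, a1, a2, a3⟩ := H24.PS.iff_step.1 hps (L.subgroupOf G) (normal_subgroupOf hG)
    fun e => hLG' (Subgroup.subgroupOf_eq_top.1 e)
  obtain ⟨M, hM⟩ : ∃ M, M = M₀.map G.subtype := ⟨_, rfl⟩
  have hMG : M ≤ G := hM ▸ Subgroup.map_subtype_le _
  have hGM : G ≤ 𝐍 M := hM ▸ H01.le_normalizer_map_subtype M₀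
  have b0 : M₀ = M.subgroupOf G := by rw [hM]; exact (Subgroup.comap_map_eq_self_of_injective G.subtype_injective _).symm
  have hLM : L < M := lt_of_le_of_ne (fun x hx => hM.ge ⟨⟨x, hLG hx⟩, a2.le hx, rfl⟩) fun e => a2.ne (by rw [b0, e])
  rw [b0, Subgroup.relIndex_subgroupOf hMG] at a3
  have b1 : M ≤ G ⊓ 𝐍 (M ⊔ S) := le_inf hMG (le_sup_left.trans Subgroup.le_normalizer)
  have b2 : S ≤ G ⊓ 𝐍 (M ⊔ S) := le_inf hSG (le_sup_right.trans Subgroup.le_normalizer)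
  by_cases hMS : ¬ G ≤ 𝐍 (M ⊔ S)
  · rw [card_pc_red hLM.le b1 inf_le_left hGM b2 hSp hi (le_inf inf_le_left (H01.le_normalizer_sup
      (inf_le_left.trans hGM) inf_le_right)) hν.1 hst fun η hη => ih _ (relIndex_lt' hLM hMG) _ hGM hps hSG hi rfl _ hη rfl]
    refine ih _ (relIndex_lt (hLM.le.trans b1) (inf_lt_left.2 hMS)) _ (inf_le_left.trans hG)
      (H24.PS.of_le hps inf_le_left) b2 (not_dvd_of_le_right b2 inf_le_left hi) ?_ _ hν rfl
    refine le_antisymm (le_inf (le_inf hHG ?_) (hH ▸ inf_le_right)) (hH ▸ inf_le_inf_right _ inf_le_left)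
    rw [show M ⊔ S = M ⊔ (L ⊔ S) by rw [← sup_assoc, sup_eq_left.2 hLM.le]]
    exact H01.le_normalizer_sup (hHG.trans hGM) (hH ▸ inf_le_right)
  rw [not_not] at hMS
  rcases a3 with ⟨k, hk⟩ | hc
  · have c1 : L ⊔ S ≤ G := sup_le hLG hSG
    have c2 : M ≤ L ⊔ S := le_of_pow_of_not_dvd le_sup_left hk (c1.trans hGM) fun e =>
      not_dvd_of_le_right (le_sup_right.trans le_sup_right) (sup_le hMG c1) hi
        (e.trans (Subgroup.relIndex_dvd_of_le_left _ le_sup_right))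
    exact hfin (by rwa [show L ⊔ S = M ⊔ S from le_antisymm (sup_le_sup_right hLM.le _) (sup_le c2 le_sup_right)])
  · exact card_pc_span hLM.le hMG hGM hc hSG hSp hi hMS hH hLH hν.1 hd hst

end H20
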