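import Mathlib
import Cfsg.Agent.H21.IBr
import Cfsg.Agent.H21.Contrib

set_option autoImplicit false
set_option linter.unusedSectionVars false

open Cfsg H05 H21 H12.Ri MonoidAlgebra Classical

namespace H20

variable {G : Type*} [Group G] [Finite G]

theorem sum_deg_mul_ev (a : ℂ[G]) :
    ∑ χ : IrrCharacter G, (χ : G → ℂ) 1 * ev (χ : G → ℂ) a = Nat.card G * a.coeff 1 := by
  have := Fintype.ofFinite G
  simp only [ev_eq_sum, Finset.mul_sum]
  rw [Finset.sum_comm]
  have h : ∀ g : G, ∑ χ : IrrCharacter G, (χ : G → ℂ) 1 * (a.coeff g * (χ : G → ℂ) g) =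
      if g = 1 then (Nat.card G : ℂ) * a.coeff 1 else 0 := by
    intro g
    have : ∑ χ : IrrCharacter G, (χ : G → ℂ) 1 * (a.coeff g * (χ : G → ℂ) g) =
        a.coeff g * ∑ χ : IrrCharacter G, (χ : G → ℂ) 1 * (χ : G → ℂ) g := by
      rw [Finset.mul_sum]; exact Finset.sum_congr rfl fun _ _ => by ring
    rw [this]
    split_ifs with hg
    · subst hg
      have := sum_degree_sq (G := G)
      simp only [sq] at this
      rw [this]; ring
    · rw [sum_degree_mul_apply_of_ne hg, mul_zero]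
  simp only [h]
  simp

variable {M : Ideal AlgInt} [hMm : M.IsMaximal] {p : ℕ} {n : ℕ} {d : Fin n → ℕ}
  {π : (Res M)[G] →ₐ[Res M] Π i, Matrix (Fin (d i)) (Fin (d i)) (Res M)}
  {e : Fin n → (Res M)[G]} {φ : Fin n → G → ℂ}

/-- decomposition numbers -/
theorem ib_exists_dec (h : IB p π e φ) : ∃ D : IrrCharacter G → Fin n → ℕ,
    ∀ (χ : IrrCharacter G) β, t1 M (χ : G → ℂ) (e β) = D χ β := by
  choose D hD using fun (χ : IrrCharacter G) β => exists_nat_t1 (M := M) χ.2.isCharacter (h.pm β).sq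
  exact ⟨D, hD⟩

/-- the degree of a projective indecomposable character is divisible by `|G|_p` -/
theorem pim_dvd (hM : IsPModular p M) {ε : (Res M)[G]} (h2 : ε * ε = ε) {D : IrrCharacter G → ℕ}
    (hD : ∀ χ : IrrCharacter G, t1 M (χ : G → ℂ) ε = D χ) :
    p ^ (Nat.card G).factorization p ∣ ∑ χ : IrrCharacter G, charDegree (χ : G → ℂ) * D χ := by
  obtain ⟨j, hj, jj, rfl⟩ := exists_lift1 h2
  have h1 : ((∑ χ : IrrCharacter G, charDegree (χ : G → ℂ) * D χ : ℕ) : ℂ) = Nat.card G * j.coeff 1 := by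
    rw [← sum_deg_mul_ev]
    push_cast
    refine Finset.sum_congr rfl fun χ _ => ?_
    rw [← hD, t1_eq χ.2.isCharacter.isClassFunction hj jj, χ.2.charDegree_eq]
  by_cases h0 : (∑ χ : IrrCharacter G, charDegree (χ : G → ℂ) * D χ : ℕ) = 0
  · rw [h0]; exact dvd_zero _
  have h3 : MemLocalRing M (((∑ χ : IrrCharacter G, charDegree (χ : G → ℂ) * D χ : ℕ) : ℂ) / (Nat.card G : ℕ)) := by
    rw [h1, mul_div_cancel_left₀ _ (card_ne_zero_complex (G := G))]
    exact hj 1
  rw [ring_div_natCast_iff hM h0 Nat.card_pos.ne'] at h3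
  exact (pow_dvd_pow _ h3).trans (Nat.ordProj_dvd _ _)

theorem t1_comp {K : Type*} [Group K] [Finite K] (f : G →* K) {θ : K → ℂ} (hθ : IsClassFunction K θ)
    {ε : (Res M)[G]} (h2 : ε * ε = ε) : t1 M (fun g => θ (f g)) ε = t1 M θ (push f ε) := by
  obtain ⟨j, hj, jj, rfl⟩ := exists_lift1 h2
  rw [t1_eq (hθ.comp f) hj jj, ← ev_push, push, push, ← redA_mapDomain hj,
    t1_eq hθ (hj.mapDomain f) (by rw [← map_mul, jj])]

theorem t1_eq_sum_inner [Fintype G] {θ : G → ℂ} (hθ : IsClassFunction G θ) {ε : (Res M)[G]}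
    (h2 : ε * ε = ε) :
    t1 M θ ε = ∑ χ : IrrCharacter G, classInner θ (χ : G → ℂ) * t1 M (χ : G → ℂ) ε := by
  nth_rewrite 1 [hθ.eq_sum]
  exact t1_sum_left _ _ (fun χ _ => χ.2.isClassFunction) h2

/-- the trace of an automorphism on the Brauer characters of a union of blocks is a natural number -/
theorem exists_nat_trace_aut [Fintype G] (hM : IsPModular p M) {A : Set (IrrCharacter G)}
    (hA : IsInt M (idem A)) (α : G ≃* G) :
    ∃ r : ℕ, ∑ ψ with ψ ∈ A, contrib p (fun y => (ψ : G → ℂ) (α y)) (ψ : G → ℂ) = r := by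
  obtain ⟨n, dd, π, e, φ, h⟩ := exists_ib' hM G
  have hr : ∀ β, ∃ r : ℕ, t1 M (fun y => φ β (α y)) (e β) = r := by
    intro β
    have h2 : push (α : G →* G) (e β) * push (α : G →* G) (e β) = push (α : G →* G) (e β) := by
      rw [← map_mul, (h.pm β).sq]
    obtain ⟨r, -, hr⟩ := exists_t1_eq_sum hM h.wed h.pm h2
    refine ⟨r β, ?_⟩
    have := t1_comp (M := M) (α : G →* G) (h.cls β) (h.pm β).sq
    simp only [MonoidHom.coe_coe] at this
    rw [this, hr _ (h.cls β)]
    simp [h.dual]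
  choose r hr using hr
  refine ⟨∑ β ∈ ibr π A, r β, ?_⟩
  have h1 : ∀ ψ ∈ A, contrib p (fun y => (ψ : G → ℂ) (α y)) (ψ : G → ℂ) = ∑ β ∈ ibr π A,
      classInner (pRegularPart p fun y => φ β (α y)) (ψ : G → ℂ) * t1 M (ψ : G → ℂ) (e β) := by
    intro ψ hψ
    have : pRegularPart p (fun y => (ψ : G → ℂ) (α y)) =
        ∑ β ∈ ibr π A, t1 M (ψ : G → ℂ) (e β) • pRegularPart p fun y => φ β (α y) := by
      funext y
      rw [Finset.sum_apply]
      by_cases hy : p ∣ orderOf y
      · simp [pRegularPart_of_dvd _ hy]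
      · simp only [Pi.smul_apply, pRegularPart_of_not_dvd _ hy, smul_eq_mul]
        exact h.apply_mem hA hψ (by rwa [MulEquiv.orderOf_eq])
    rw [contrib, this, H05.classInner_sum_left]
    exact Finset.sum_congr rfl fun β _ => by rw [H05.classInner_smul_left, mul_comm]
  rw [Finset.sum_congr rfl fun ψ hψ => h1 ψ (Finset.mem_filter.1 hψ).2, Finset.sum_comm]
  push_cast
  refine Finset.sum_congr rfl fun β hβ => ?_
  have hc : IsClassFunction G fun y => φ β (α y) := (h.cls β).comp (α : G →* G)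
  rw [← hr, ← h.t1_congr (pRegularPart_isClassFunction hc) hc
    (fun g hg => pRegularPart_of_not_dvd _ hg), t1_eq_sum_inner (pRegularPart_isClassFunction hc)
    (h.pm β).sq, Finset.sum_filter]
  refine Finset.sum_congr rfl fun ψ _ => ?_
  split_ifs with hψ
  · rfl
  · rw [(h.pm β).t1_of_mem h.wed hA hψ hβ, mul_zero]

end H20
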