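import Cfsg.Agent.H20.RC3
import Cfsg.Agent.H23.OutSol1
import Cfsg.Agent.S2904

/-! Real class sizes IV: linear groups in which every vector is fixed by a unique Sylow `2`-subgroup (`H20.RC.Md.sol`). -/

set_option autoImplicit false
set_option linter.unusedSectionVars false

open H27 Subgroup MulAction H23.OS H04

namespace H20.RC
open _root_.Cfsg

universe u

local instance : Fact (Nat.Prime 2) := ⟨Nat.prime_two⟩

variable {W : Type u} [Group W] [Finite W] {X : Subgroup (MulAut W)} {π : Set ℕ}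

theorem irr_comm (hW : ∀ v w : W, v * w = w * v) {a c d : MulAut W} (h : Irr (zpowers a)) (hc : c * a = a * c)
    (hd : d * a = a * d) : c * d = d * c := by
  let : CommGroup W := { ‹Group W› with mul_comm := hW }
  rcases subsingleton_or_nontrivial W with e | e
  · exact MulEquiv.ext fun _ => Subsingleton.elim _ _
  obtain ⟨w, w1⟩ := exists_ne (1 : W)
  have k : ∀ {e b : MulAut W}, e * a = a * e → b ∈ zpowers a → ∀ v, e (b v) = b (e v) := fun {e b} he hb v => by
    obtain ⟨j, rfl⟩ := hb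
    exact congrArg (fun f : MulAut W => f v) ((Commute.zpow_right he j).eq)
  let U : Subgroup W :=
    { carrier := {x | ∃ f : W →* W, (∀ e : MulAut W, e * a = a * e → ∀ v, f (e v) = e (f v)) ∧ f w = x}
      mul_mem' := by
        rintro _ _ ⟨f, hf, rfl⟩ ⟨g, hg, rfl⟩
        exact ⟨f * g, fun e he v => by simp [hf e he, hg e he], rfl⟩
      one_mem' := ⟨1, fun e he v => by simp, rfl⟩
      inv_mem' := by
        rintro _ ⟨f, hf, rfl⟩
        exact ⟨f⁻¹, fun e he v => by simp [hf e he], rfl⟩ }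
  have hU : U = ⊤ := (h U (by
    rintro b hb _ ⟨f, hf, rfl⟩
    exact ⟨b.toMonoidHom.comp f, fun e he v => by simp [hf e he, k he hb], rfl⟩)).resolve_left fun e =>
      w1 (mem_bot.1 (e ▸ (⟨MonoidHom.id W, fun _ _ _ => rfl, rfl⟩ : w ∈ U)))
  obtain ⟨f, hf, e⟩ : c w ∈ U := hU ▸ mem_top _
  have hU' : f.eqLocus c.toMonoidHom = ⊤ := (h _ fun b hb x (hx : f x = c x) => show f (b x) = c (b x) by
    obtain ⟨j, rfl⟩ := id hb
    rw [hf _ (Commute.zpow_left rfl j).eq, hx, k hc hb]).resolve_left fun e' =>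
      w1 (mem_bot.1 (e' ▸ (e : w ∈ f.eqLocus c.toMonoidHom)))
  have e' : ∀ v, f v = c v := fun v => hU'.ge (mem_top v)
  exact MulEquiv.ext fun v => by rw [MulAut.mul_apply, MulAut.mul_apply, ← e', ← e', hf d hd]

/-- the fixed vectors of a Sylow subgroup -/
def Fx (S : Sylow 2 X) : Subgroup W where
  carrier := {w | ∀ s ∈ S, s • w = w}
  mul_mem' ha hb s hs := by rw [smul_mul', ha s hs, hb s hs]
  one_mem' s _ := smul_one s
  inv_mem' ha s hs := by rw [smul_inv', ha s hs]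

theorem mem_Fx_smul {S : Sylow 2 X} {g : X} {w : W} : w ∈ Fx (g • S) ↔ g⁻¹ • w ∈ Fx S :=
  ⟨fun h s hs => by
    rw [eq_inv_smul_iff, ← mul_smul, ← mul_smul]
    exact h _ (mem_smul.2 (by simpa [mul_assoc] using hs)), fun h s hs => by
    have := h _ (mem_smul.1 hs)
    rwa [mul_smul, mul_smul, smul_inv_smul, smul_left_cancel_iff] at this⟩

theorem card_Fx (S T : Sylow 2 X) : Nat.card (Fx S) = Nat.card (Fx T) := by
  obtain ⟨g, rfl⟩ := exists_smul_eq X T S
  exact Nat.card_congr ((MulAction.toPerm g⁻¹).subtypeEquiv fun w => mem_Fx_smul)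

/-- the module hypothesis -/
structure Md (π : Set ℕ) (X : Subgroup (MulAut W)) : Prop where
  h2 : 2 ∉ π
  sq : ∀ w : W, w * w = 1
  m1 : ∀ w : W, w ≠ 1 → P π (stabilizer X w).index
  m2 : ∀ w : W, w ≠ 1 → ∀ S T : Sylow 2 X, w ∈ Fx S → w ∈ Fx T → S = T
  m3 : ∀ y : X, RP y → P πᶜ (cs y)

namespace Md
variable (h : Md π X)
include h

theorem comm (v w : W) : v * w = w * v := by
  rw [← inv_eq_of_mul_eq_one_right (h.sq (v * w)), mul_inv_rev, inv_eq_of_mul_eq_one_right (h.sq v),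
    inv_eq_of_mul_eq_one_right (h.sq w)]

theorem ex (w : W) : ∃ S : Sylow 2 X, w ∈ Fx S := by
  by_cases w1 : w = 1
  · exact ⟨default, w1 ▸ one_mem _⟩
  · exact exists_sylow_le_iff.2 ((h.m1 w w1).odd h.h2).not_two_dvd_nat

theorem norm {w : W} (w1 : w ≠ 1) {S : Sylow 2 X} (hS : w ∈ Fx S) {g : X} (hg : g • w = w) : g • S = S :=
  h.m2 w w1 _ _ (mem_Fx_smul.2 (by rwa [inv_smul_eq_iff.2 hg.symm])) hS

theorem count (S : Sylow 2 X) : Nat.card W - 1 = Nat.card (Sylow 2 X) * (Nat.card (Fx S) - 1) := by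
  classical
  have := Fintype.ofFinite W
  have := Fintype.ofFinite (Sylow 2 X)
  choose σ hσ using h.ex
  have := Finset.card_eq_sum_card_fiberwise (f := σ) (s := Finset.univ.erase 1) (t := Finset.univ) fun _ _ => Finset.mem_univ _
  rw [Finset.card_erase_of_mem (Finset.mem_univ _), Finset.card_univ, ← Nat.card_eq_fintype_card] at this
  rw [this, Finset.sum_const_nat (m := Nat.card (Fx S) - 1) fun T _ => ?_, Finset.card_univ, ← Nat.card_eq_fintype_card]
  rw [card_Fx S T, Nat.card_eq_fintype_card, Fintype.card_subtype, ← Finset.card_erase_of_mem (a := 1) (by simp)]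
  congr 1
  ext w
  simp only [Finset.mem_filter, Finset.mem_erase, Finset.mem_univ, and_true, true_and]
  exact and_congr_right fun w1 => ⟨fun e => e ▸ hσ w, h.m2 w w1 _ _ (hσ w)⟩

theorem pn [Nontrivial W] : P π (Nat.card (Sylow 2 X)) := by
  obtain ⟨w, w1⟩ := exists_ne (1 : W)
  obtain ⟨S, hS⟩ := h.ex w
  rw [S.card_eq_index_normalizer]
  exact (h.m1 w w1).dvd (index_dvd_of_le fun g hg => Sylow.smul_eq_iff_mem_normalizer.1 (h.norm w1 hS hg))

theorem zsig [Nontrivial W] (hs : ¬ Group.IsSolvable X) {n l : ℕ} (hW : Nat.card W = 2 ^ n) (hl : l.Prime) (l2 : l ≠ 2)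
    (hz : ∀ k, 0 < k → k < n → ¬ l ∣ 2 ^ k - 1) (hd : l ∣ Nat.card (Sylow 2 X)) :
    ∃ Y : Subgroup X, IsCyclic Y ∧ Y.index.Coprime (Nat.card (Sylow 2 X)) := by
  have := Fact.mk hl
  obtain ⟨x, g, hx, x2, e⟩ : ∃ x g : X, (orderOf x).Prime ∧ orderOf x ≠ 2 ∧ g * x * g⁻¹ = x⁻¹ := by
    by_contra hn
    push Not at hn
    exact hs (H08.sol_of_normal_sylow default (H24.sylow_normal_of_no_real hn _))
  obtain ⟨Q, hQ⟩ := (exists_sylow_le_iff (p := l)).2 fun e' =>
    h.m3 x ⟨isConj_iff.2 ⟨g, e⟩, _, 1, hx, x2, (pow_one _).symm⟩ l hl e' (h.pn l hl hd)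
  have cm : ∀ {a c d : X}, orderOf a = l → c ∈ cent a → d ∈ cent a → c * d = d * c := fun {a c d} ha hc hd =>
    Subtype.ext (irr_comm h.comm (irr_zp hW hl l2 hz ((orderOf_coe a).trans ha)) (congrArg Subtype.val (mem_cent.1 hc))
      (congrArg Subtype.val (mem_cent.1 hd)))
  have xQ : x ∈ centralizer (Q : Set X) := fun a ha => mem_cent.1 (hQ ha)
  obtain ⟨m, hm, e'⟩ := Q.conj_eq_normalizer_conj_of_mem_centralizer x g⁻¹ xQ (by rw [inv_inv, e]; exact inv_mem xQ)
  rw [inv_inv, e] at e'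
  obtain ⟨s, hs', ⟨k, hk⟩, e2⟩ := H24.exists_two_elt_inverts (g := m⁻¹) (x := x) (by rw [inv_inv, e'])
  obtain ⟨a, ha⟩ := exists_prime_orderOf_dvd_card' (G := Q) l
    (Q.dvd_card_of_dvd_card (hd.trans (Sylow.card_eq_index_normalizer (default : Sylow 2 X) ▸ index_dvd_card _)))
  obtain ⟨y, hy, y1, r⟩ := real_of_norm (Q := (Q : Subgroup X)) (zpowers_le.2 (inv_mem hm) hs') (k := k)
    (by rw [← hk, pow_orderOf_eq_one]; exact one_mem _) fun (hc : s ∈ centralizer ((Q : Subgroup X) : Set X)) => by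
      rw [cm ((orderOf_coe a).trans ha) (mem_cent.2 (mem_centralizer_iff.1 hc a a.2).symm) (mem_cent.2 (xQ a a.2).symm), mul_inv_cancel_right] at e2
      rw [eq_one_of_odd (mul_eq_one_iff_eq_inv.2 e2) (hx.odd_of_ne_two x2), orderOf_one] at hx
      exact Nat.not_prime_one hx
  obtain ⟨j, hj⟩ := orderOf_of_mem_sylow hy
  have ho := orderOf_pow_orderOf_div (orderOf_pos y).ne' (hj ▸ dvd_pow_self l fun e => y1 (by
    rwa [e, pow_zero, orderOf_eq_one_iff] at hj) : l ∣ orderOf y)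
  refine ⟨cent (y ^ (orderOf y / l)), ?_, (h.m3 _ ⟨real_pow r _, l, 1, hl, l2, by rw [ho, pow_one]⟩).cop h.pn⟩
  have := (irr_zp hW hl l2 hz ((orderOf_coe _).trans ho)).cyc (Z := (cent (y ^ (orderOf y / l))).map X.subtype) (by
    rintro _ ⟨c, hc, rfl⟩ _ ⟨i, rfl⟩
    exact ((Commute.zpow_right (congrArg Subtype.val (mem_cent.1 hc)) i).eq).symm) ⟨⟨by
    rintro ⟨_, c, hc, rfl⟩ ⟨_, d, hd, rfl⟩
    exact Subtype.ext (congrArg X.subtype (cm ho hc hd) :)⟩⟩
  exact (equivMapOfInjective _ X.subtype X.subtype_injective).isCyclic.2 this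

theorem not31 (hs : ¬ Group.IsSolvable X) (hW : Nat.card W = 2 ^ 6) (hF : ∀ S : Sylow 2 X, Fx S ≠ ⊤) : ¬ 31 ∣ Nat.card X := by
  intro hd
  have := Fact.mk (by norm_num : Nat.Prime 31)
  let : CommGroup W := { ‹Group W› with mul_comm := h.comm }
  obtain ⟨g, hg⟩ := exists_prime_orderOf_dvd_card' (G := X) 31 hd
  obtain ⟨c, hc, e, hc'⟩ := aut_prime Nat.prime_two Fact.out (by norm_num) hW ((orderOf_coe g).trans hg)
  obtain rfl : c = 1 := by interval_cases c <;> simp at hc' ⊢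
  obtain ⟨⟨w, hw⟩, w1, hu⟩ := (Nat.card_eq_two_iff' (1 : fixSub (g : MulAut W))).1 e
  have w1' : w ≠ 1 := fun e => w1 (Subtype.ext e)
  have ow : Nat.card (zpowers w) = 2 := by rw [Nat.card_zpowers, orderOf_eq_prime ((pow_two w).trans (h.sq w)) w1']
  have zw : ∀ {v}, v ∈ zpowers w → v = 1 ∨ v = w := fun {v} hv => or_iff_not_imp_left.2 fun v1 =>
    congrArg Subtype.val (((Nat.card_eq_two_iff' (1 : zpowers w)).1 ow).unique (y₁ := ⟨v, hv⟩) (y₂ := ⟨w, mem_zpowers w⟩)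
      (fun e => v1 (congrArg Subtype.val e)) fun e => w1' (congrArg Subtype.val e))
  have inv : ∀ U : Subgroup W, (∀ v ∈ U, g • v ∈ U) → w ∈ U → U = zpowers w ∨ U = ⊤ := fun U h1 h2 => by
    have h3 := card_modEq_card_inf_fixSub (q := 31) (n := 1) (a := (g : MulAut W))
      (by rw [pow_one, ← hg, ← orderOf_coe, pow_orderOf_eq_one]) U h1
    rw [inf_eq_right.2 fun v hv => (eq_or_ne v 1).elim (fun e => e ▸ one_mem U) fun v1 =>
      (show v = w from congrArg Subtype.val (hu ⟨v, hv⟩ fun e => v1 (congrArg Subtype.val e))) ▸ h2, e] at h3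
    obtain ⟨d, hd, e'⟩ := (Nat.dvd_prime_pow Nat.prime_two).1 (hW ▸ card_subgroup_dvd_card U)
    rw [e'] at h3
    obtain rfl | rfl : d = 1 ∨ d = 6 := by interval_cases d <;> simp [Nat.ModEq] at h3 ⊢
    · exact .inl (eq_of_le_of_card_ge (zpowers_le.2 h2) (by rw [e', ow]; rfl)).symm
    · exact .inr (eq_top_of_card_eq _ (by rw [e', hW]))
  obtain ⟨S, hS⟩ := h.ex w
  have gS := h.norm w1' hS (g := g) hw
  have gs : ∀ s ∈ S, g⁻¹ * s * g ∈ S := fun s hs => mem_smul.1 (gS.symm ▸ hs)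
  have FS : Fx S = zpowers w := (inv _ (fun v hv => gS ▸ mem_Fx_smul.2 (by rwa [inv_smul_smul])) hS).resolve_right (hF S)
  let U : Subgroup W :=
    { carrier := {v | ∀ s ∈ S, v⁻¹ * s • v ∈ zpowers w}
      mul_mem' := fun {a b} ha hb s hs => by
        rw [smul_mul', mul_inv, mul_mul_mul_comm]; exact mul_mem (ha s hs) (hb s hs)
      one_mem' := fun s _ => by simp
      inv_mem' := fun {a} ha s hs => by rw [smul_inv', ← mul_inv]; exact inv_mem (ha s hs) }
  have hz : ∀ {t : X} {v : W}, t • w = w → v ∈ zpowers w → t • v ∈ zpowers w := fun ht hv => by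
    rcases zw hv with rfl | rfl
    exacts [by simp, ht.symm ▸ hv]
  have hU : U = ⊤ := (inv U (fun v hv s hs => by
      have := hz (t := g) hw (hv _ (gs s hs))
      rwa [smul_mul', smul_inv', ← mul_smul, ← mul_assoc, ← mul_assoc, mul_inv_cancel, one_mul, mul_smul] at this)
      fun s hs => by rw [hS s hs]; simp).resolve_left fun e => by
    have : QuotientAction S (zpowers w) := ⟨fun s a b hab => by
      have := hz (hS s s.2) hab
      rwa [smul_mul', smul_inv'] at this⟩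
    have c32 : Nat.card (W ⧸ zpowers w) = 32 := by
      have := card_eq_card_quotient_mul_card_subgroup (zpowers w)
      rw [hW, ow] at this; omega
    obtain ⟨b, hb, ne⟩ := S.2.exists_fixed_point_of_prime_dvd_card_of_fixed_point (α := W ⧸ zpowers w) (by rw [c32]; norm_num)
      (a := ((1 : W) : W ⧸ zpowers w)) fun s => by rw [MulAction.Quotient.smul_mk, smul_one]
    obtain ⟨v, rfl⟩ := QuotientGroup.mk_surjective b
    refine ne (QuotientGroup.eq.2 ?_)
    rw [inv_one, one_mul, ← e]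
    exact fun s hs => QuotientGroup.eq.1 (hb ⟨s, hs⟩).symm
  obtain ⟨⟨z, hzS⟩, z1⟩ := ne_bot_iff_exists_ne_one.1 (S.ne_bot_of_dvd_card (H08.two_dvd_of_not_sol hs))
  let δ : W →* W := (MonoidHom.id W)⁻¹ * (z : MulAut W).toMonoidHom
  obtain ⟨v, hv, vw⟩ : ∃ v ∈ δ.ker, v ∉ zpowers w := by
    by_contra hn
    push Not at hn
    have h1 := card_le_of_le (show δ.ker ≤ _ from hn)
    have h2 := card_le_of_le (show δ.range ≤ zpowers w by rintro _ ⟨v, rfl⟩; exact hU.ge (mem_top v) z hzS)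
    have h3 := δ.ker.index_mul_card
    rw [index_ker, hW] at h3
    rw [ow] at h1 h2
    nlinarith
  have zv : z • v = v := (inv_mul_eq_one.1 hv).symm
  have v1 : v ≠ 1 := fun e => vw (e ▸ one_mem _)
  obtain ⟨T, hT⟩ := h.ex v
  have zT := mem_of_fix (orderOf_of_mem_sylow hzS) (h.norm v1 hT zv)
  obtain ⟨t, rfl⟩ := exists_smul_eq X S T
  have tv : t⁻¹ • v = w := (zw (FS ▸ mem_Fx_smul.1 hT)).resolve_left fun e => v1 (by rw [inv_smul_eq_iff.1 e, smul_one])
  refine z1 (Subtype.ext (Subtype.ext (MulEquiv.ext fun u => ?_)))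
  rcases zw (hU.ge (mem_top u) z hzS) with e1 | e1
  · exact (inv_mul_eq_one.1 e1).symm
  rcases zw (hU.ge (mem_top (t⁻¹ • u)) _ (mem_smul.1 zT)) with e2 | e2 <;>
    rw [mul_smul, mul_smul, smul_inv_smul, ← smul_inv', ← smul_mul', e1] at e2
  · exact absurd (by rw [inv_smul_eq_iff.1 e2, smul_one]) w1'
  · exact absurd (smul_left_cancel _ (tv.trans e2.symm) ▸ mem_zpowers w) vw

theorem sol : Group.IsSolvable X := by
  by_contra hs
  have : Nontrivial W := not_subsingleton_iff_nontrivial.1 fun _ => hs (by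
    have : Subsingleton (MulAut W) := ⟨fun _ _ => MulEquiv.ext fun _ => Subsingleton.elim _ _⟩
    infer_instance)
  obtain ⟨n, hn⟩ := (show IsPGroup 2 W from fun w => ⟨1, (pow_two w).trans (h.sq w)⟩).exists_card_eq
  have n1 : 1 < 2 ^ n := hn ▸ Finite.one_lt_card
  have hF : ∀ S : Sylow 2 X, Fx S ≠ ⊤ := fun S e => by
    obtain ⟨w, w1⟩ := exists_ne (1 : W)
    have : Subsingleton (Sylow 2 X) := ⟨fun T T' => h.m2 w w1 _ _
      (eq_top_of_card_eq _ ((card_Fx T S).trans (e ▸ card_top)) ▸ mem_top w)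
      (eq_top_of_card_eq _ ((card_Fx T' S).trans (e ▸ card_top)) ▸ mem_top w)⟩
    exact hs (H08.sol_of_normal_sylow S (Sylow.normal_of_subsingleton _))
  obtain ⟨S⟩ : Nonempty (Sylow 2 X) := inferInstance
  obtain ⟨c, hc, e⟩ := (Nat.dvd_prime_pow Nat.prime_two).1 (hn ▸ card_subgroup_dvd_card (Fx S))
  have cn : c < n := hc.lt_of_ne fun e' => hF S (eq_top_of_card_eq _ (by rw [e, hn, e']))
  have ct := h.count S
  rw [hn, e] at ct
  have c0 : 0 < c := Nat.pos_of_ne_zero fun e' => by rw [e'] at ct; omega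
  refine hs (Cond.sol ⟨fun y hy => (h.m3 y hy).cop h.pn, ?_⟩)
  by_cases n6 : n = 6
  · subst n6
    refine .inr ⟨((Nat.Prime.coprime_iff_not_dvd (by norm_num)).2 (h.not31 hs hn hF)).symm.dvd_of_dvd_mul_right
      ((card_subgroup_dvd_card X).trans ((card_aut_64 hn).trans (by norm_num))), ⟨_, ct⟩⟩
  obtain ⟨l, hl, h1, h2⟩ := Cfsg.Agent.S2904.result 2 n one_lt_two (by omega) (fun e => n6 e.2) (by
    rintro ⟨-, m, hm⟩
    rcases m with _ | m <;> omega)
  refine .inl (h.zsig hs hn hl ?_ h2 (((Nat.Prime.dvd_mul hl).1 (ct ▸ h1)).resolve_right (h2 c c0 cn)))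
  rintro rfl
  obtain ⟨m, rfl⟩ : ∃ m, n = m + 1 := ⟨n - 1, by omega⟩
  omega

end Md

end H20.RC
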