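import Cfsg.Agent.H20.RC4
import Cfsg.Agent.H08.BaerSuzuki

/-! Real class sizes V: groups with a disconnected real class size graph are solvable (`H20.RC.Hyp.sol`). -/

set_option autoImplicit false
set_option linter.unusedSectionVars false

open H27 Subgroup MulAction

namespace H20.RC
open _root_.Cfsg

universe u

local instance : Fact (Nat.Prime 2) := ⟨Nat.prime_two⟩

variable {G : Type u} [Group G] [Finite G] {π : Set ℕ}

/-- elements of exponent `m` all of whose conjugates are inverted by `i` -/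
def Iv (i : G) {m : ℕ} (hm : Odd m) : Subgroup G where
  carrier := {y | y ^ m = 1 ∧ ∀ g, i * (g * y * g⁻¹) * i⁻¹ = (g * y * g⁻¹)⁻¹}
  one_mem' := by simp
  inv_mem' {y} h := ⟨by rw [inv_pow, h.1, inv_one], fun g => by
    rw [show i * (g * y⁻¹ * g⁻¹) * i⁻¹ = (i * (g * y * g⁻¹) * i⁻¹)⁻¹ by group, h.2]; group⟩
  mul_mem' {d e} hd he := by
    have h1 : i * d * i⁻¹ = d⁻¹ := by simpa using hd.2 1
    have h2 : i * e * i⁻¹ = e⁻¹ := by simpa using he.2 1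
    have c2 : Commute (d ^ 2) e⁻¹ := by
      have := he.2 d⁻¹
      rw [show i * (d⁻¹ * e * d⁻¹⁻¹) * i⁻¹ = (i * d * i⁻¹)⁻¹ * (i * e * i⁻¹) * (i * d * i⁻¹) by group, h1, h2] at this
      calc d ^ 2 * e⁻¹ = d * (d⁻¹⁻¹ * e⁻¹ * d⁻¹) * d := by rw [sq]; group
        _ = _ := by rw [this, sq]; group
    have c : Commute d e := by
      obtain ⟨k, rfl⟩ := hm
      have := (c2.pow_left (k + 1)).inv_right
      rwa [← pow_mul, mul_add, mul_one, pow_succ, hd.1, one_mul, inv_inv] at this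
    refine ⟨by rw [c.mul_pow, hd.1, he.1, one_mul], fun g => ?_⟩
    calc _ = i * (g * d * g⁻¹) * i⁻¹ * (i * (g * e * g⁻¹) * i⁻¹) := by group
      _ = (g * (e * d) * g⁻¹)⁻¹ := by rw [hd.2, he.2]; group
      _ = _ := by rw [c.eq]

theorem Hyp.mem_core (h : Hyp π G) (h2 : 2 ∉ π) (hO : pPrimeCore 2 G = ⊥) {i : G} (hi : i * i = 1) (hp : P π (cs i)) :
    i ∈ pCore 2 G := by
  by_contra hn
  obtain ⟨x, x1, ho, e⟩ := H08.exists_inverted_odd_of_notMem_pCore hi hn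
  have hx : x ∈ Iv i ho := ⟨pow_orderOf_eq_one x, fun g => by
    obtain ⟨c, hc, e'⟩ := conj_of_cop ((h.odd h2 (isConj_iff.2 ⟨i, e⟩) ho).cop hp).symm (isConj_iff.2 ⟨g, rfl⟩ : IsConj x _)
    rw [← e', ← mul_assoc, ← mul_assoc, ← mem_cent.1 hc,
      show (c * x * c⁻¹)⁻¹ = c * x⁻¹ * c⁻¹ by group, ← e]
    calc _ = c * i * x * (i * c)⁻¹ := by group
      _ = _ := by rw [← mem_cent.1 hc]; group⟩
  refine x1 (mem_bot.1 (H02.pPrimeCore_eq_bot_iff.1 hO (Iv i ho) ⟨fun y hy c => ⟨by rw [conj_pow, hy.1]; group, fun g => by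
    simpa [mul_assoc] using hy.2 (g * c)⟩⟩ (Nat.Coprime.symm ((Nat.Prime.coprime_iff_not_dvd Nat.prime_two).2 fun d => ?_)) ▸ hx))
  obtain ⟨t, ht⟩ := exists_prime_orderOf_dvd_card' 2 d
  exact ho.not_two_dvd_nat (by rw [← ht, ← orderOf_coe]; exact orderOf_dvd_of_pow_eq_one t.2.1)

/-- the central involutions of `Q` -/
def Om (Q : Subgroup G) : Subgroup G where
  carrier := {v | v ∈ Q ∧ v ∈ centralizer (Q : Set G) ∧ v * v = 1}
  one_mem' := ⟨one_mem _, one_mem _, one_mul _⟩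
  inv_mem' h := ⟨inv_mem h.1, inv_mem h.2.1, by rw [← mul_inv_rev, h.2.2, inv_one]⟩
  mul_mem' {a b} ha hb := ⟨mul_mem ha.1 hb.1, mul_mem ha.2.1 hb.2.1, by
    calc _ = a * (b * a) * b := by group
      _ = a * a * (b * b) := by rw [ha.2.1 b hb.1]; group
      _ = 1 := by rw [ha.2.2, hb.2.2, one_mul]⟩

instance (Q : Subgroup G) [hQ : Q.Normal] : (Om Q).Normal := ⟨fun a ha g => ⟨hQ.conj_mem _ ha.1 g,
  (inferInstance : (centralizer (Q : Set G)).Normal).conj_mem _ ha.2.1 g, by rw [conj_mul, ha.2.2]; group⟩⟩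

theorem mem_Om {Q : Subgroup G} [Q.Normal] (hQ : IsPGroup 2 Q) {i : G} (hi : i * i = 1) (ho : Odd (cs i)) (hm : i ∈ Q) :
    i ∈ Om Q := by
  obtain ⟨S, hS⟩ := (exists_sylow_le_iff (p := 2)).2 ho.not_two_dvd_nat
  exact ⟨hm, fun y hy => mem_cent.1 (hS (H02.pCore_le_sylow S (H02.le_pCore hQ hy))), hi⟩

/-- the involutions with `π`-class size -/
def Vp (h : Hyp π G) (h2 : 2 ∉ π) : Subgroup G where
  carrier := {v | v ∈ Om (pCore 2 G) ∧ P π (cs v)}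
  one_mem' := ⟨one_mem _, cs_one (G := G) ▸ P.one⟩
  inv_mem' {a} h := ⟨inv_mem h.1, (cs_inv a).symm ▸ h.2⟩
  mul_mem' ha hb := ⟨mul_mem ha.1 hb.1, h.mul (E := Om (pCore 2 G)) (fun _ hc => hc.2.2) ha.1 hb.1 ha.2 hb.2 (hb.2.odd h2)⟩

instance (h : Hyp π G) (h2 : 2 ∉ π) : (Vp h h2).Normal :=
  ⟨fun a ha g => ⟨Normal.conj_mem inferInstance _ ha.1 g, (cs_conj a g).symm ▸ ha.2⟩⟩

theorem Hyp.sol_cent (h : Hyp π G) (h2 : 2 ∉ π) {i : G} (hi : i * i = 1) (hp : P π (cs i)) (h1 : cs i ≠ 1) :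
    Group.IsSolvable (cent i) := H08.sol_of_normal_sylow default (h.closed h2 hi hp h1 _)

theorem Hyp.sol_core (h : Hyp π G) (h2 : 2 ∉ π) {i : G} (hi : i * i = 1) (hp : P π (cs i)) (h1 : cs i ≠ 1)
    (hm : i ∈ pCore 2 G) : Group.IsSolvable G := by
  have := h.sol_cent h2 hi hp h1
  let q := QuotientGroup.mk' (center G)
  let W := (Vp h h2).map q
  have : W.Normal := Normal.map inferInstance _ (QuotientGroup.mk'_surjective _)
  let φ : G →* MulAut W := MulAut.conjNormal.comp q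
  have hf := φ.rangeRestrict_surjective
  have key : ∀ v (hv : v ∈ Vp h h2), (stabilizer φ.range (⟨q v, mem_map_of_mem q hv⟩ : W)).comap φ.rangeRestrict = cent v :=
    fun v hv => by
    ext g
    rw [mem_comap, mem_stabilizer_iff, mem_cent_iff_conj, Subtype.ext_iff]
    change q g * q v * (q g)⁻¹ = q v ↔ _
    refine ⟨fun e => ?_, fun e => by rw [← map_mul, ← map_inv, ← map_mul, e]⟩
    have hz : v⁻¹ * (g * v * g⁻¹) ∈ center G := by
      rw [← QuotientGroup.eq]; exact e.symm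
    have := trans_one (hv.2.odd h2) (mul_mem (inv_mem hv) (Normal.conj_mem inferInstance _ hv g)).1.2.2 fun y hy => by
      obtain ⟨c, rfl⟩ := isConj_iff.1 hy
      exact isConj_iff.2 ⟨c * g, by rw [mul_assoc (c * v), mem_center_iff.1 hz]; group⟩
    exact (inv_mul_eq_one.1 this).symm
  have : Group.IsSolvable φ.range := Md.sol (π := π) ⟨h2, ?_, ?_, ?_, fun y hy => ?_⟩
  · refine Group.isSolvable_of_ker_le_range (cent i).subtype φ.rangeRestrict fun g hg => ?_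
    rw [range_subtype, ← key i ⟨mem_Om (H02.pCore_isPGroup 2 G) hi (hp.odd h2) hm, hp⟩, mem_comap, MonoidHom.mem_ker.1 hg]
    exact one_mem _
  · rintro ⟨_, v, hv, rfl⟩
    exact Subtype.ext ((map_mul q v v).symm.trans (by rw [hv.1.2.2, map_one]; rfl))
  · rintro ⟨_, v, hv, rfl⟩ -
    rw [← index_comap_of_surjective _ hf, key v hv]
    exact hv.2
  · rintro ⟨_, v, hv, rfl⟩ w1 S T hS hT
    obtain ⟨S, rfl⟩ := Sylow.mapSurjective_surjective hf 2 S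
    obtain ⟨T, rfl⟩ := Sylow.mapSurjective_surjective hf 2 T
    rw [h.uniq h2 hv.1.2.2 hv.2 (fun e => w1 (Subtype.ext ((QuotientGroup.eq_one_iff v).2 (cs_eq_one_iff.1 e))))
      (S := S) (S' := T) (fun s hs => key v hv ▸ hS _ (mem_map_of_mem _ hs)) (fun s hs => key v hv ▸ hT _ (mem_map_of_mem _ hs))]
  · obtain ⟨x, rfl, hx⟩ := lift_rp hf hy
    exact (h.odd h2 hx.1 hx.odd).dvd (cs_map_dvd _ hf x)

theorem Hyp.sol (h : Hyp π G) (h2 : 2 ∉ π) {i : G} (hr : IsConj i i⁻¹) (hp : P π (cs i)) (h1 : cs i ≠ 1) :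
    Group.IsSolvable G := by
  have hi := sq_of_odd hr (hp.odd h2)
  have ho : Odd (Nat.card (pPrimeCore 2 G)) := (H02.pPrimeCore_coprime 2 G).odd_of_right
  have := Agent.S0205.result ho
  let q := QuotientGroup.mk' (pPrimeCore 2 G)
  have hq : Function.Surjective q := QuotientGroup.mk'_surjective _
  have hk : Odd (Nat.card q.ker) := by rwa [QuotientGroup.ker_mk']
  suffices Group.IsSolvable (G ⧸ pPrimeCore 2 G) from H02.isSolvable_of_normal_of_quotient (pPrimeCore 2 G)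
  by_cases e : cs (q i) = 1
  · have := h.sol_cent h2 hi hp h1
    refine Group.isSolvable_of_surjective (f := q.comp (cent i).subtype) fun y => ?_
    obtain ⟨g, rfl⟩ := hq y
    obtain ⟨b, hb, e⟩ := fp (A := {b | b ∈ (⊤ : Subgroup G) ∧ q b = q g}) (f := fun b => i * b * i⁻¹) (k := 1)
      (fun b hb => ⟨trivial, by
        rw [map_mul, map_mul, map_inv, hb.2, ← mem_center_iff.1 (cs_eq_one_iff.1 e), mul_inv_cancel_right]⟩)
      (fun b _ => by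
        change i * (i * b * i⁻¹) * i⁻¹ = b
        rw [show i * (i * b * i⁻¹) * i⁻¹ = i * i * b * (i * i)⁻¹ by group, hi]; group)
      (by rwa [ncard_fib q ⊤ (mem_top g), top_inf_eq])
    exact ⟨⟨b, mem_cent_comm.1 (mem_cent_iff_conj.2 e)⟩, hb.2⟩
  have h' : Hyp π (G ⧸ pPrimeCore 2 G) := fun y hy => by
    obtain ⟨x, rfl, hx⟩ := lift_odd hq hk hy
    exact (h x hx).imp (·.dvd (cs_map_dvd _ hq x)) (·.dvd (cs_map_dvd _ hq x))
  have hi' : q i * q i = 1 := by rw [← map_mul, hi, map_one]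
  have hp' := hp.dvd (cs_map_dvd _ hq i)
  exact h'.sol_core h2 hi' hp' e (h'.mem_core h2 (H02.pPrimeCore_quotient_pPrimeCore 2 G) hi' hp')

/-- the real class sizes -/
abbrev RS (G : Type u) [Group G] : Set ℕ := {n : ℕ | ∃ x : G, IsConj x x⁻¹ ∧ (Subgroup.centralizer ({x} : Set G)).index = n}

theorem hyp_of {π₁ π₂ : Set ℕ} (hc : ∀ q : ℕ, q.Prime → (∃ n ∈ RS G, q ∣ n) → q ∈ π₁ ∨ q ∈ π₂)
    (he : ∀ a ∈ π₁, ∀ b ∈ π₂, ∀ n ∈ RS G, ¬ (a ∣ n ∧ b ∣ n)) : Hyp π₂ G := fun x hx => by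
  by_cases e : ∃ a ∈ π₁, a ∣ cs x
  · obtain ⟨a, ha, e⟩ := e
    exact .inl fun q _ d hq => he a ha q hq _ ⟨x, hx, rfl⟩ ⟨e, d⟩
  · exact .inr fun q hq d => (hc q hq ⟨_, ⟨x, hx, rfl⟩, d⟩).resolve_left fun ha => e ⟨q, ha, d⟩

/-- the data of a disconnected graph -/
structure Dis (π : Set ℕ) (G : Type u) [Group G] : Prop where
  h2 : 2 ∉ π
  hyp : Hyp π G
  e1 : ∃ i : G, IsConj i i⁻¹ ∧ P π (cs i) ∧ cs i ≠ 1
  e2 : ∃ i : G, IsConj i i⁻¹ ∧ P πᶜ (cs i) ∧ cs i ≠ 1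

theorem dis_of {π₁ π₂ : Set ℕ} (h₁ : π₁.Nonempty) (h₂ : π₂.Nonempty) (hd : Disjoint π₁ π₂)
    (hs : ∀ q ∈ π₁ ∪ π₂, q.Prime ∧ ∃ n ∈ RS G, q ∣ n) (hc : ∀ q : ℕ, q.Prime → (∃ n ∈ RS G, q ∣ n) → q ∈ π₁ ∨ q ∈ π₂)
    (he : ∀ a ∈ π₁, ∀ b ∈ π₂, ∀ n ∈ RS G, ¬ (a ∣ n ∧ b ∣ n)) : ∃ π, Dis π G := by
  wlog h2 : 2 ∉ π₂ generalizing π₁ π₂
  · exact this h₂ h₁ hd.symm (Set.union_comm _ _ ▸ hs) (fun q hq e => (hc q hq e).symm)
      (fun a ha b hb n hn e => he b hb a ha n hn e.symm) (Set.disjoint_right.1 hd (not_not.1 h2))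
  have h := hyp_of hc he
  obtain ⟨a, ha⟩ := h₁
  obtain ⟨b, hb⟩ := h₂
  obtain ⟨pa, _, ⟨x, hx, rfl⟩, da⟩ := hs a (.inl ha)
  obtain ⟨pb, _, ⟨y, hy, rfl⟩, db⟩ := hs b (.inr hb)
  exact ⟨π₂, h2, h, ⟨y, hy, (h y hy).resolve_left fun e => e b pb db hb, fun e => pb.one_lt.ne' (Nat.dvd_one.1 (e ▸ db))⟩,
    x, hx, (h x hx).resolve_right fun e => Set.disjoint_left.1 hd ha (e a pa da), fun e => pa.one_lt.ne' (Nat.dvd_one.1 (e ▸ da))⟩

theorem Dis.sol (h : Dis π G) : Group.IsSolvable G := by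
  obtain ⟨i, h1, h2, h3⟩ := h.e1
  exact h.hyp.sol h.h2 h1 h2 h3

end H20.RC
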