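import Cfsg.Agent.H20.RC5
import Cfsg.Agent.H17.Constr
import Cfsg.Agent.S3861
import Cfsg.Agent.S3863

/-! Real class sizes VI: the structure of groups with a disconnected real class size graph. -/

set_option autoImplicit false
set_option linter.unusedSectionVars false

open H27 Subgroup MulAction

namespace H20.RC
open _root_.Cfsg

universe u

local instance : Fact (Nat.Prime 2) := ⟨Nat.prime_two⟩

variable {G : Type u} [Group G] [Finite G] {π : Set ℕ}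

theorem le_core [Group.IsSolvable G] {p : ℕ} [Fact p.Prime] (p2 : 2 ≠ p) (Q : Sylow p G) (S : Sylow 2 G)
    (h : ∀ b ∈ Q, ∀ s ∈ S, b * s * b⁻¹ ∈ S) : (S : Subgroup G) ≤ pPrimeCore p G := fun s hs => by
  let q := QuotientGroup.mk' (pPrimeCore p G)
  have hq : Function.Surjective q := QuotientGroup.mk'_surjective _
  have d := fun x => disjoint_def.1 (IsPGroup.disjoint_of_ne 2 p p2 _ _ (S.2.map q) (H02.pCore_isPGroup p _)) (x := x)
  refine (QuotientGroup.eq_one_iff s).1 (d _ (mem_map_of_mem q hs)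
    (H17.centralizer_pCore_le_of_solvable (H02.pPrimeCore_quotient_pPrimeCore p G) fun a ha => ?_))
  obtain ⟨b, hb, rfl⟩ := H02.pCore_le_sylow (Q.mapSurjective hq) ha
  have := d _ (mem_map_of_mem q (mul_mem (h b hb s hs) (inv_mem hs))) (by
    simpa only [map_mul, map_inv, mul_assoc] using mul_mem ha (Normal.conj_mem inferInstance _ (inv_mem ha) (q s)))
  rwa [map_mul, map_mul, map_mul, map_inv, map_inv, mul_inv_eq_one, mul_inv_eq_iff_eq_mul] at this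

theorem Dis.even (h : Dis π G) : ∃ n ∈ RS G, 2 ∣ n := by
  by_contra hn
  have ho : ∀ x : G, IsConj x x⁻¹ → Odd (cs x) := fun x hx =>
    Nat.not_even_iff_odd.1 fun e => hn ⟨_, ⟨x, hx, rfl⟩, e.two_dvd⟩
  obtain ⟨S⟩ : Nonempty (Sylow 2 G) := inferInstance
  have := (Agent.S3861.result S).1 fun x x1 o hx => x1 (eq_one_of_odd (sq_of_odd hx (ho x hx)) o)
  have hm : ∀ x : G, IsConj x x⁻¹ → x ∈ Om (S : Subgroup G) := fun x hx => by
    have e := sq_of_odd hx (ho x hx)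
    obtain ⟨g, hg⟩ := exists_conj_mem_sylow S (ord2 e)
    exact mem_Om S.2 e (ho x hx) (by simpa [mul_assoc] using this.conj_mem _ hg g⁻¹)
  have e2 : ∀ a ∈ Om (S : Subgroup G), a * a = 1 := fun _ ha => ha.2.2
  obtain ⟨a, ra, pa, a1⟩ := h.e1
  obtain ⟨b, rb, pb, b1⟩ := h.e2
  have m := mul_mem (hm a ra) (hm b rb)
  have m' := mul_mem (hm b rb) (hm a ra)
  have h' : Hyp πᶜ G := fun x hx => by rw [compl_compl]; exact (h.hyp x hx).symm
  rcases h.hyp _ (real_of_sq (e2 _ m)) with e | e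
  · have := h'.mul e2 m (hm b rb) e pb (ho b rb)
    rw [mul_assoc, e2 b (hm b rb), mul_one] at this
    exact a1 ((this.cop pa).eq_one_of_dvd dvd_rfl)
  · have := h.hyp.mul e2 (hm a ra) m pa e (ho _ (real_of_sq (e2 _ m)))
    rw [← mul_assoc, e2 a (hm a ra), one_mul] at this
    exact b1 ((pb.cop this).eq_one_of_dvd dvd_rfl)

/-- the subgroup generated by the `2`-elements -/
abbrev K2 (G : Type u) [Group G] : Subgroup G := closure {g : G | ∃ k : ℕ, orderOf g = 2 ^ k}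

instance : (K2 G).Normal := ⟨fun x hx g => by
  have : (K2 G).map (MulAut.conj g).toMonoidHom ≤ K2 G := by
    rw [MonoidHom.map_closure]
    rintro _ h
    refine closure_mono ?_ h
    rintro _ ⟨y, ⟨k, hk⟩, rfl⟩
    exact ⟨k, (MulEquiv.orderOf_eq _ _).trans hk⟩
  exact this (mem_map_of_mem _ hx)⟩

theorem le_K2 (S : Sylow 2 G) : (S : Subgroup G) ≤ K2 G := fun _ h => subset_closure (orderOf_of_mem_sylow h)

theorem real_K2 {x : G} (h : IsConj x x⁻¹) : ∃ y : K2 G, y = x ∧ IsConj y y⁻¹ := by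
  obtain ⟨a, b⟩ := (Agent.S3863.result x h).2.2 (K2 G)
    (Nat.not_even_iff_odd.1 fun e => exists_sylow_le_iff.1 ⟨default, le_K2 _⟩ e.two_dvd)
  exact ⟨_, rfl, b⟩

theorem Dis.two (h : Dis π G) : ∀ n ∈ RS (K2 G), Odd n ∨ ∃ j, n = 2 ^ j := by
  rintro _ ⟨y, hy, rfl⟩
  refine (Nat.even_or_odd _).symm.imp id fun e => ⟨_, Nat.eq_prime_pow_of_unique_prime_dvd (cs_ne_zero y) fun {p} hp d => ?_⟩
  by_contra p2
  have := Fact.mk hp
  have := h.sol
  obtain ⟨i, ri, pi, i1⟩ := h.e1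
  have py := (h.hyp y ((K2 G).subtype.map_isConj hy)).resolve_right fun e' =>
    (e'.odd h.h2).not_two_dvd_nat (e.two_dvd.trans (cs_coe_dvd _ y))
  obtain ⟨Q, hQ⟩ := (exists_sylow_le_iff (p := p) (H := cent i)).2 fun d' => py p hp (d.trans (cs_coe_dvd _ y)) (pi p hp d')
  obtain ⟨S, hS⟩ := (exists_sylow_le_iff (p := 2) (H := cent i)).2 (pi.odd h.h2).not_two_dvd_nat
  have := le_core (Ne.symm p2) Q S fun b hb s hs => by
    rw [← h.hyp.uniq h.h2 (sq_of_odd ri (pi.odd h.h2)) pi i1 (S := b • S) (fun x hx => by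
      simpa [mul_assoc] using mul_mem (mul_mem (hQ hb) (hS (mem_smul.1 hx))) (inv_mem (hQ hb))) hS, mem_smul]
    simpa [mul_assoc] using hs
  refine H02.not_dvd_card_pPrimeCore (G := G) hp ((d.trans (cs_dvd_card y)).trans (card_dvd_of_le ((closure_le _).2 fun x hx => ?_)))
  obtain ⟨g, hg⟩ := exists_conj_mem_sylow S hx
  simpa [mul_assoc] using Normal.conj_mem inferInstance _ (this hg) g⁻¹

theorem Dis.graph (h : Dis π G) {S : Sylow 2 G} (hS : ¬ (S : Subgroup G).Normal) : ∃ π₁ π₂ : Set ℕ, π₁.Nonempty ∧ π₂.Nonempty ∧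
    Disjoint π₁ π₂ ∧ (∀ q ∈ π₁ ∪ π₂, q.Prime ∧ ∃ n ∈ RS (K2 G), q ∣ n) ∧
    (∀ q : ℕ, q.Prime → (∃ n ∈ RS (K2 G), q ∣ n) → q ∈ π₁ ∨ q ∈ π₂) ∧
    ∀ a ∈ π₁, ∀ b ∈ π₂, ∀ n ∈ RS (K2 G), ¬ (a ∣ n ∧ b ∣ n) := by
  refine ⟨{2}, {q | q ≠ 2 ∧ q.Prime ∧ ∃ n ∈ RS (K2 G), q ∣ n}, ⟨2, rfl⟩, ?_, Set.disjoint_left.2 fun q e e' => e'.1 e, ?_,
    fun q hq e => (em (q = 2)).imp id fun e' => ⟨e', hq, e⟩, ?_⟩
  · obtain ⟨i, ri, pi, i1⟩ := h.e1
    obtain ⟨y, rfl, hy⟩ := real_K2 ri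
    obtain ⟨q, hq, d⟩ := Nat.exists_prime_and_dvd (n := cs y) fun e => by
      have k : ∀ T : Sylow 2 G, (T : Subgroup G) ≤ cent (y : G) := fun T t ht =>
        congrArg Subtype.val (mem_center_iff.1 (cs_eq_one_iff.1 e) ⟨t, le_K2 T ht⟩) |> mem_cent.2
      have : Subsingleton (Sylow 2 G) := ⟨fun T T' => h.hyp.uniq h.h2 (sq_of_odd ri (pi.odd h.h2)) pi i1 (k T) (k T')⟩
      exact hS (Sylow.normal_of_subsingleton _)
    exact ⟨q, fun e => h.h2 (e ▸ pi q hq (d.trans (cs_coe_dvd _ y))), hq, _, ⟨y, hy, rfl⟩, d⟩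
  · rintro q (rfl | e)
    · refine ⟨Nat.prime_two, ?_⟩
      by_contra hn
      refine hS ((Agent.S3861.result S).1 fun x x1 o hx => x1 (eq_one_of_odd ?_ o))
      obtain ⟨y, rfl, hy⟩ := real_K2 hx
      exact congrArg Subtype.val (sq_of_odd hy (Nat.not_even_iff_odd.1 fun e => hn ⟨_, ⟨y, hy, rfl⟩, e.two_dvd⟩))
    · exact e.2
  · rintro _ rfl b hb n hn ⟨d, d'⟩
    rcases h.two n hn with e | ⟨j, rfl⟩
    · exact e.not_two_dvd_nat d
    · exact hb.1 ((Nat.prime_dvd_prime_iff_eq hb.2.1 Nat.prime_two).1 (hb.2.1.dvd_of_dvd_pow d'))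

end H20.RC
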