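import Mathlib
import Cfsg.Agent.H20.AbP3
import Cfsg.Agent.H20.PowFix
import Cfsg.Agent.H20.Cnt
import Cfsg.Agent.H07.Extend
import Cfsg.Agent.L.PSL2Deg

/-!
Real characters (namespace H20): `Rl`, `exists_rl_over` (odd index), `exists_rl_of_inv` (blocks of defect one),
`exists_rl_principal`, real characters of 2-defect zero of `PSL₂(q)`.
-/

set_option autoImplicit false
set_option linter.unusedSectionVars false
set_option linter.unusedVariables false

open H20 Cfsg H05 H21 Finset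
namespace H20
open MonoidAlgebra Classical
open scoped ComplexConjugate MatrixGroups

local notation:max "𝐂" Q:max => Subgroup.centralizer (SetLike.coe Q)
local notation:max "𝐍" Q:max => Subgroup.normalizer (SetLike.coe Q)
local notation:max "⟪" u "⟫" => Subgroup.zpowers u

universe u

variable {M : Ideal AlgInt} {G K : Type*} [Group G] [Finite G] [Group K] [Finite K] {p : ℕ}

/-- real valued characters -/
def Rl (χ : IrrCharacter G) : Prop := galIrr (starRingEnd ℂ) χ = χ

theorem rl_iff {χ : IrrCharacter G} : Rl χ ↔ ∀ g, χ.1 g⁻¹ = χ.1 g :=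
  galIrr_eq_iff.trans (forall_congr' fun g => by rw [χ.2.apply_inv])

theorem galIrr_conj_conj (χ : IrrCharacter G) : galIrr (starRingEnd ℂ) (galIrr (starRingEnd ℂ) χ) = χ :=
  Subtype.ext (funext fun g => by simp [galIrr_apply])

theorem charDegree_galIrr (σ : ℂ →+* ℂ) (χ : IrrCharacter G) : charDegree (galIrr σ χ).1 = charDegree χ.1 :=
  charDegree_eq_of_apply_one (by rw [galIrr_apply, ← χ.2.charDegree_eq, map_natCast])

theorem Rl.infl {f : G →* K} (hf : Function.Surjective f) {ψ : IrrCharacter K} (h : Rl ψ) : Rl (infl hf ψ) :=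
  rl_iff.2 fun g => by rw [infl_apply, infl_apply, map_inv, rl_iff.1 h]

theorem pow_card_sub_one (g : G) : g ^ (Nat.card G - 1) = g⁻¹ :=
  eq_inv_of_mul_eq_one_left (by rw [← pow_succ, Nat.sub_add_cancel Nat.card_pos, pow_card_eq_one'])

theorem powG_conj : PowG G (Nat.card G) (Nat.card G - 1) (starRingEnd ℂ) :=
  ⟨fun g => pow_card_eq_one', fun ω h => by
    have h1 : ‖ω‖ = 1 := Complex.norm_eq_one_of_pow_eq_one h Nat.card_pos.ne'
    rw [← Complex.inv_eq_conj h1]
    exact (eq_inv_of_mul_eq_one_left (by rw [← pow_succ, Nat.sub_add_cancel Nat.card_pos, h])).symm⟩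

/-- a real character of a normal subgroup of odd index lies under a real character -/
theorem exists_rl_over {G : Type u} [Group G] [Finite G] {N : Subgroup G} [N.Normal] (ho : Odd N.index)
    {θ : IrrCharacter N} (h : Rl θ) : ∃ χ : IrrCharacter G, Rl χ ∧ Over N χ.1 θ := by
  obtain ⟨χ, h1, -⟩ := PowG.exists_uFix (e := 1) (fun H _ _ => Cfsg.Agent.S0205.result) (by
    obtain ⟨m, hm⟩ : ∃ m, Nat.card G = m + 1 := ⟨_, (Nat.sub_add_cancel Nat.card_pos).symm⟩
    rw [hm, Nat.add_sub_cancel, pow_one]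
    cases m with
    | zero => exact Nat.modEq_one
    | succ m => exact ((Nat.modEq_iff_dvd' (by nlinarith)).2 ⟨m, by
        rw [Nat.sub_eq_iff_eq_add (by nlinarith)]; ring⟩).symm) powG_conj (fun g _ => pow_card_sub_one g) ho h
  exact ⟨χ, h1.2.1, h1.1⟩

/-- the principal 2-block of a group of even order contains a nontrivial real character of odd degree -/
theorem exists_rl_principal (hM : IsPModular 2 M) (h : 2 ∣ Nat.card G) :
    ∃ χ ∈ principalBlock M G, χ ≠ trivIrr G ∧ Rl χ ∧ ¬ 2 ∣ charDegree χ.1 := by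
  have := hM.2.1
  have : Fact (Nat.Prime 2) := ⟨Nat.prime_two⟩
  have h1 := dvd_card_of_le_three (A := principalBlock M G) Nat.prime_two (by norm_num)
    (dvd_sum_sq_of_dvd_card hM (isPBlock_principal (M := M) (G := G)).isInt_idem h)
  have h2 := card_fix_modEq (p := 2) (fun χ : IrrCharacter G => χ ∈ principalBlock M G ∧ ¬ 2 ∣ charDegree χ.1)
    (f := galIrr (starRingEnd ℂ)) (e := 1)
    (fun χ hχ => ⟨(galIrr_mem_principal hM _).2 hχ.1, by rw [charDegree_galIrr]; exact hχ.2⟩) galIrr_conj_conj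
  by_contra! hn
  have h3 : Nat.card {χ : IrrCharacter G // (χ ∈ principalBlock M G ∧ ¬ 2 ∣ charDegree χ.1) ∧
      galIrr (starRingEnd ℂ) χ = χ} = 1 := by
    refine Nat.card_eq_one_iff_exists.2 ⟨⟨trivIrr G, ⟨one_mem_principalBlock, ?_⟩, ?_⟩, fun χ => Subtype.ext ?_⟩
    · rw [charDegree_eq_of_apply_one (n := 1) (by simp [trivIrr])]; norm_num
    · exact galIrr_eq_iff.2 fun g => by simp [trivIrr]
    · by_contra hc
      exact χ.2.1.2 (hn _ χ.2.1.1 hc χ.2.2)
  rw [h3] at h2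
  exact absurd ((h2.dvd_iff dvd_rfl).1 h1) (by norm_num)

theorem card_mul_contrib_of_ker [Fintype G] [M.IsMaximal] (hM : IsPModular p M) {D : Subgroup G} [D.Normal]
    {B : Set (IrrCharacter G)} {χ : IrrCharacter G} (h : D ⊔ 𝐂 D = ⊤) (hB : IsPBlock M B)
    (hD : IsDefectGroup p M B D) (hχ : χ ∈ B) (hk : χ ∈ kerSet D) : Nat.card D * contrib p χ.1 χ.1 = 1 := by
  have : Fact p.Prime := ⟨hM.1⟩
  have := Fintype.ofFinite (G ⧸ D)
  have hq := pQuot_of_sup hD.isPGroup h
  obtain ⟨ψ, rfl⟩ := exists_infl hq.surj (χ := χ) (by rwa [QuotientGroup.ker_mk'])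
  have h1 := (hq.isPBlock_dom hM hB).blockDefect_eq_zero_iff hM (χ := ψ) hχ
  have h2 := hq.contrib_comp ψ.1 ψ.1
  rw [QuotientGroup.ker_mk'] at h2
  refine h2.trans ?_
  rw [← ψ.2.classInner_self, classInner_def, contrib_def, sum_filter]
  refine congrArg _ (sum_congr rfl fun g _ => ?_)
  split_ifs with hg
  · rw [H20.apply_eq_zero_of_defect_zero hM (h1.1 (blockDefect_dom_eq_zero hM hq hB hD)) hg, zero_mul]
  · rfl

theorem sum_contrib_shift [Fintype G] [M.IsMaximal] (hM : IsPModular p M) {x : G} (hx : ∃ n, orderOf x = p ^ n)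
    [Fintype (Subgroup.centralizer ({x} : Set G))]
    {A : Set (IrrCharacter G)} (hA : IsInt M (idem A)) (θ η : Subgroup.centralizer ({x} : Set G) → ℂ) :
    ∑ χ with χ ∈ A, contrib p θ (shift χ.1 x) * contrib p (shift χ.1 x) η =
      ∑ ψ with ψ ∈ brSet M x A, contrib p θ ψ.1 * contrib p ψ.1 η := by
  have key : ∀ {ι : Type _} (s : Finset ι) (F : ι → Subgroup.centralizer ({x} : Set G) → ℂ),
      ∑ i ∈ s, contrib p θ (F i) * contrib p (F i) η =
        ((Nat.card (Subgroup.centralizer ({x} : Set G)) : ℂ)⁻¹) ^ 2 * ∑ y with ¬ p ∣ orderOf y,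
          ∑ y' with ¬ p ∣ orderOf y', θ y * conj (η y') * ∑ i ∈ s, F i y' * conj (F i y) := fun s F => by
    simp only [contrib_def, mul_sum, sum_mul]
    rw [sum_comm]
    refine Eq.trans (sum_congr rfl fun _ _ => sum_comm) (sum_comm.trans ?_)
    refine sum_congr rfl fun _ _ => sum_congr rfl fun _ _ => sum_congr rfl fun _ _ => by ring
  rw [key, key]
  refine congrArg _ (sum_congr rfl fun y hy => sum_congr rfl fun y' hy' => congrArg _ ?_)
  exact sum_brSet hM hx hA (mem_filter.1 hy').2 (mem_filter.1 hy).2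

/-- a real block of defect one of the centralizer of an involution gives a real character -/
theorem exists_rl_of_inv (hM : IsPModular 2 M) {t : G} (ht : orderOf t = 2)
    {ζ : IrrCharacter (Subgroup.centralizer ({t} : Set G))} (hr : Rl ζ)
    (hk : ζ ∈ kerSet (⟪t⟫.subgroupOf (Subgroup.centralizer {t})))
    (hd : (Nat.card (Subgroup.centralizer ({t} : Set G))).factorization 2 ≤ (charDegree ζ.1).factorization 2 + 1) :
    ∃ χ : IrrCharacter G, Rl χ ∧ (Nat.card G).factorization 2 ≤ (charDegree χ.1).factorization 2 + 1 := by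
  have := hM.2.1
  have : Fact (Nat.Prime 2) := ⟨Nat.prime_two⟩
  have := Fintype.ofFinite G
  have := Fintype.ofFinite (Subgroup.centralizer ({t} : Set G))
  have hx : ∃ n, orderOf t = 2 ^ n := ⟨1, ht⟩
  have f2 : Nat.factorization 2 2 = 1 := Nat.prime_two.factorization_self
  have t2 : t * t = 1 := by rw [← sq, ← ht, pow_orderOf_eq_one]
  have hle : ⟪t⟫ ≤ Subgroup.centralizer {t} := Subgroup.zpowers_le.2 (self_mem_centralizer t)
  have hc : Nat.card (⟪t⟫.subgroupOf (Subgroup.centralizer {t})) = 2 := by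
    rw [Nat.card_congr (Subgroup.subgroupOfEquivOfLe hle).toEquiv, Nat.card_zpowers, ht]
  have hZ : ⟪t⟫.subgroupOf (Subgroup.centralizer {t}) ≤ Subgroup.center _ := fun z hz =>
    Subgroup.mem_center_iff.2 fun c => Subtype.ext
      (Subgroup.mem_centralizer_iff.1 ((cent_zpowers t).ge c.2) _ hz).symm
  have : (⟪t⟫.subgroupOf (Subgroup.centralizer {t})).Normal := ⟨fun n hn g => by
    rw [Subgroup.mem_center_iff.1 (hZ hn) g, mul_inv_cancel_right]; exact hn⟩
  have hs : ⟪t⟫.subgroupOf (Subgroup.centralizer {t}) ⊔ 𝐂 (⟪t⟫.subgroupOf (Subgroup.centralizer {t})) = ⊤ := by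
    rw [Subgroup.centralizer_eq_top_iff_subset.2 hZ, sup_top_eq]
  have hb := H20.isPBlock_blockOf (M := M) ζ
  have hζ := H20.mem_blockOf_self (M := M) ζ
  have hD := isDefectGroup_of_ker hM (IsPGroup.of_card (n := 1) hc) hs hb hζ hk (by rw [hc, f2]; exact hd)
  have h1 := card_mul_contrib_of_ker hM hs hb hD hζ hk
  have h2 : blockDefect 2 (blockOf M ζ.1) = 1 := by rw [← hD.factorization_card hM hb, hc, f2]
  obtain ⟨B, hi, hB⟩ := first_main_exists_induced_of_le hM (D := ⟪t⟫) (fun g hg => by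
    have h3 := (Subgroup.mem_normalizer_iff.1 hg t).1 (Subgroup.mem_zpowers t)
    rw [Subgroup.mem_centralizer_singleton_iff, ← mul_inv_eq_iff_eq_mul]
    rw [mem_zpowers_iff_mem_range_orderOf, ht] at h3
    simp only [range_add_one, range_zero, insert_empty_eq, image_insert, image_singleton, pow_one, pow_zero,
      mem_insert, mem_singleton, conj_eq_one_iff] at h3
    exact h3.resolve_right fun h => by simp [h] at ht) hb hD
  have hB' := hi.2.1
  have h3 : blockDefect 2 B = 1 := by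
    rw [← hB.factorization_card hM hB', Nat.card_zpowers, ht, f2]
  have h4 : ∀ χ : IrrCharacter G, ∃ n : ℤ, 2 * contrib 2 ζ.1 (shift χ.1 t) = n := fun χ => by
    simpa [h2] using exists_int_defect_contrib Nat.prime_two hζ (isGen_shift t2 χ.2.isGeneralizedCharacter)
  choose c hc' using h4
  have h5 : ∀ χ : IrrCharacter G, 2 * contrib 2 (shift χ.1 t) ζ.1 = c χ := fun χ => by
    rw [← hc', contrib_comm (isGen_shift t2 χ.2.isGeneralizedCharacter) ζ.2.isGeneralizedCharacter]
  have h6 : ∀ A : Set (IrrCharacter G), IsInt M (idem A) → ((∑ χ with χ ∈ A, c χ * c χ : ℤ) : ℂ) =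
      4 * ∑ ψ with ψ ∈ brSet M t A, contrib 2 ζ.1 ψ.1 * contrib 2 ψ.1 ζ.1 := fun A hA => by
    rw [← sum_contrib_shift hM hx hA, mul_sum]
    push_cast
    exact sum_congr rfl fun χ _ => by
      linear_combination (-c χ : ℂ) * hc' χ - 2 * contrib 2 ζ.1 (shift χ.1 t) * h5 χ
  have hm : ζ ∈ brSet M t B := (mem_brSet_iff_induced hM hx hB' hb hζ).2 hi
  have h7 : ∑ χ with χ ∈ B, c χ * c χ = 2 := by
    apply Int.cast_injective (α := ℂ)
    rw [h6 B hB'.isInt_idem, sum_contrib_mul hM (int_brSet t B) hm]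
    rw [hc] at h1
    push_cast at h1 ⊢
    linear_combination 2 * h1
  have h8 : ∀ χ, χ ∉ B → c χ = 0 := fun χ hχ => by
    have h9 := (h6 Bᶜ (by rw [idem_compl]; exact isInt_one.sub hB'.isInt_idem)).trans
      (mul_eq_zero_of_right 4 (sum_eq_zero fun ψ hψ => by
        rw [contrib_eq_zero hM (int_brSet t B) hm (by
          simpa [brSet_compl hM hx hB'.isInt_idem] using hψ), zero_mul]))
    rw [Int.cast_eq_zero, sum_eq_zero_iff_of_nonneg fun _ _ => mul_self_nonneg _] at h9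
    exact mul_self_eq_zero.1 (h9 χ (by simpa using hχ))
  have h9 : ∀ χ, c (galIrr (starRingEnd ℂ) χ) = c χ := fun χ => by
    apply Int.cast_injective (α := ℂ)
    rw [← hc', ← h5, contrib_def, contrib_def]
    refine congrArg _ (congrArg _ (sum_congr rfl fun y _ => ?_))
    rw [shift_apply, shift_apply, galIrr_apply, Complex.conj_conj, galIrr_eq_iff.1 hr, mul_comm]
  have h10 : ∑ χ : IrrCharacter G, (c χ : ℂ) * χ.1 1 = 0 := by
    simp only [← h5, contrib_def, mul_sum, sum_mul]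
    rw [sum_comm]
    refine sum_eq_zero fun y hy => ?_
    have h11 := sum_irr_mul_conj_of_not_isConj (g := t * y) (h := 1) fun h => by
      rw [isConj_one_left, mul_eq_one_iff_inv_eq, inv_eq_of_mul_eq_one_left t2] at h
      exact (mem_filter.1 hy).2 (by rw [← Subgroup.orderOf_coe, ← h, ht])
    refine Eq.trans ?_ (mul_eq_zero_of_right (2 * ((Nat.card (Subgroup.centralizer ({t} : Set G)) : ℂ)⁻¹ *
      conj (ζ.1 y))) h11)
    rw [mul_sum]
    exact sum_congr rfl fun χ _ => by rw [χ.2.conj_apply_one, shift_apply]; ring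
  obtain ⟨χ, hχ, h0⟩ := exists_ne_zero_of_sum_ne_zero (h7.trans_ne two_ne_zero)
  replace h0 : c χ ≠ 0 := fun h => h0 (by rw [h, mul_zero])
  refine ⟨χ, by_contra fun hn => ?_, by
    have := factorization_degree_add 2 (mem_filter.1 hχ).2
    omega⟩
  have hχ' : galIrr (starRingEnd ℂ) χ ∈ B := by_contra fun h => h0 (h9 χ ▸ h8 _ h)
  have hsub : {galIrr (starRingEnd ℂ) χ, χ} ⊆ filter (fun χ => χ ∈ B) univ :=
    insert_subset (mem_filter.2 ⟨mem_univ _, hχ'⟩) (singleton_subset_iff.2 hχ)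
  have h12 := sum_sdiff (f := fun χ => c χ * c χ) hsub
  rw [h7, sum_pair hn, h9] at h12
  have h13 : 0 < c χ * c χ := mul_self_pos.2 h0
  have h14 := sum_nonneg (s := filter (fun χ => χ ∈ B) univ \ {galIrr (starRingEnd ℂ) χ, χ})
    fun ψ _ => mul_self_nonneg (c ψ)
  have h15 := (sum_eq_zero_iff_of_nonneg fun ψ _ => mul_self_nonneg (c ψ)).1 (le_antisymm (by omega) h14)
  rw [← sum_subset (subset_univ {galIrr (starRingEnd ℂ) χ, χ}) fun ψ _ hψ => ?_, sum_pair hn, h9, galIrr_apply,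
    χ.2.conj_apply_one, ← two_mul, mul_eq_zero, mul_eq_zero, Int.cast_eq_zero] at h10
  · exact h10.elim two_ne_zero fun h => h.elim h0 χ.2.apply_one_ne_zero
  · by_cases h : ψ ∈ B
    · rw [mul_self_eq_zero.1 (h15 ψ (mem_sdiff.2 ⟨mem_filter.2 ⟨mem_univ _, h⟩, hψ⟩))]; simp
    · rw [h8 ψ h]; simp

theorem Rl.irrComap (e : K ≃* G) {χ : IrrCharacter G} (h : Rl χ) : Rl (irrComap e χ) :=
  rl_iff.2 fun g => by rw [irrComap_apply, irrComap_apply, map_inv, rl_iff.1 h]

/-- groups of Janko-Ree type have a real character of even degree -/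
theorem exists_rl_of_comp {G : Type u} [Group G] [Finite G] (hM : IsPModular 2 M) {t : G} (ht : orderOf t = 2)
    {L : Subgroup G} (hL : L ≤ Subgroup.centralizer {t}) (hn : Subgroup.centralizer {t} ≤ 𝐍 L) (htL : ⟪t⟫ ⊓ L = ⊥)
    (h16 : ¬ 16 ∣ Nat.card G) {θ : IrrCharacter L} (hr : Rl θ) (h4 : 4 ∣ charDegree θ.1) :
    ∃ χ : IrrCharacter G, Rl χ ∧ 2 ∣ charDegree χ.1 := by
  have hle : ⟪t⟫ ≤ Subgroup.centralizer {t} := Subgroup.zpowers_le.2 (self_mem_centralizer t)
  have hc : Nat.card (⟪t⟫.subgroupOf (Subgroup.centralizer {t})) = 2 := by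
    rw [Nat.card_congr (Subgroup.subgroupOfEquivOfLe hle).toEquiv, Nat.card_zpowers, ht]
  have : (⟪t⟫.subgroupOf (Subgroup.centralizer {t})).Normal := ⟨fun n hn g => by
    have : g * n = n * g := Subtype.ext (Subgroup.mem_centralizer_iff.1 ((cent_zpowers t).ge g.2) _ hn).symm
    rw [this, mul_inv_cancel_right]; exact hn⟩
  have hN := (Subgroup.normal_subgroupOf_iff_le_normalizer hL).2 hn
  let f := QuotientGroup.mk' (⟪t⟫.subgroupOf (Subgroup.centralizer {t}))
  have hf : Function.Surjective f := QuotientGroup.mk'_surjective _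
  have hN' := hN.map f hf
  let e : L ≃* (L.subgroupOf (Subgroup.centralizer {t})).map f :=
    (Subgroup.subgroupOfEquivOfLe hL).symm.trans (MulEquiv.ofBijective (f.subgroupMap _) ⟨by
      rw [injective_iff_map_eq_one]
      intro a ha
      have h1 : a.1 ∈ ⟪t⟫.subgroupOf (Subgroup.centralizer {t}) :=
        (QuotientGroup.eq_one_iff _).1 (congrArg Subtype.val ha)
      exact Subtype.ext (Subtype.ext (Subgroup.mem_bot.1 (htL ▸ ⟨h1, a.2⟩))), f.subgroupMap_surjective _⟩)
  have h1 := Subgroup.card_eq_card_quotient_mul_card_subgroup (⟪t⟫.subgroupOf (Subgroup.centralizer {t}))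
  have h2 := ((L.subgroupOf (Subgroup.centralizer {t})).map f).card_mul_index
  obtain ⟨a, ha⟩ := h4.trans θ.2.charDegree_dvd_card
  obtain ⟨b, hb⟩ := Subgroup.card_subgroup_dvd_card (Subgroup.centralizer ({t} : Set G))
  rw [← Nat.card_congr e.toEquiv, ha] at h2
  rw [hc, ← h2] at h1
  obtain ⟨ψ, h5, h6⟩ := exists_rl_over (N := (L.subgroupOf (Subgroup.centralizer {t})).map f)
    (Nat.not_even_iff_odd.1 fun ⟨c, hc⟩ => h16 ⟨a * c * b, by rw [hb, h1, hc]; ring⟩) (hr.irrComap e.symm)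
  have := Fintype.ofFinite (Subgroup.centralizer ({t} : Set G) ⧸ ⟪t⟫.subgroupOf (Subgroup.centralizer {t}))
  have := Fintype.ofFinite ((L.subgroupOf (Subgroup.centralizer {t})).map f)
  have h7 := H07.degree_dvd_of_under _ ψ.2 (H20.irrComap e.symm θ).2 (over_iff.1 h6)
  rw [charDegree_irrComap] at h7
  obtain ⟨χ, h8, h9⟩ := exists_rl_of_inv hM ht (h5.infl hf) (by
    simpa only [f, QuotientGroup.ker_mk'] using infl_mem_kerSet hf ψ) (by
    rw [charDegree_infl]
    have h8 := (Nat.prime_two.pow_dvd_iff_le_factorization (k := 2) ψ.2.charDegree_pos.ne').1 (h4.trans h7)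
    have h9 := (Nat.prime_two.pow_dvd_iff_le_factorization (k := 4) Nat.card_pos.ne').not.1
      fun h => h16 (h.trans ⟨b, hb⟩)
    omega)
  have h10 := (Nat.prime_two.pow_dvd_iff_le_factorization (k := 3) (n := Nat.card G) Nat.card_pos.ne').1
    (by rw [hb, h1]; exact Dvd.dvd.mul_right (Nat.mul_dvd_mul_right (c := 2) (Dvd.dvd.mul_right ⟨a, rfl⟩ _) : 4 * 2 ∣ _) b)
  exact ⟨χ, h8, (Nat.prime_two.dvd_iff_one_le_factorization χ.2.charDegree_pos.ne').2 (by omega)⟩

section SL
open L L.SLc Matrix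
variable {F : Type*} [Field F] [Fintype F]

theorem exists_cj_inv (g : SL2 F) : ∃ y, g⁻¹ = SLc.cj y g := by
  by_cases h : IsScal (g : M2 F)
  · rcases SL2_scal_iff.1 h with rfl | rfl
    · exact ⟨1, by simp⟩
    · exact ⟨1, by rw [SLc.cj_one]; exact inv_eq_of_mul_eq_one_left (by simp)⟩
  · refine exists_cj_of_isConj ((isConj_GL_iff h fun h' => h ?_).2 ⟨?_, ?_⟩)
    · exact mem_center_iff_isScal.1 (inv_mem_iff.1 (mem_center_iff_isScal.2 h'))
    · change (g : M2 F).trace = (g : M2 F).adjugate.trace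
      rw [trace_fin_two, trace_fin_two, adjugate_fin_two]
      simp [add_comm]
    · rw [coe_tg, coe_tg, det_SL, det_SL]

theorem exists_rl_psl {χ : SL2 F → ℂ} (hχ : IsIrrCharacter (SL2 F) χ) (h : χ (-1) = χ 1)
    (hc : ∀ y g, χ (SLc.cj y g) = χ g) {d : ℕ} (hd : χ 1 = d) :
    ∃ ψ : IrrCharacter PSL(2, F), Rl ψ ∧ charDegree ψ.1 = d := by
  obtain ⟨ψ, hψ, rfl⟩ := exists_descend hχ h
  refine ⟨⟨ψ, hψ⟩, rl_iff.2 fun g => ?_, charDegree_eq_of_apply_one hd⟩
  obtain ⟨g, rfl⟩ := QuotientGroup.mk_surjective g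
  obtain ⟨y, hy⟩ := exists_cj_inv g
  simpa only [← hy, QuotientGroup.mk_inv] using hc y g

theorem exists_rl_psl_q : ∃ ψ : IrrCharacter PSL(2, F), Rl ψ ∧ charDegree ψ.1 = Fintype.card F :=
  exists_rl_psl isIrr_Sts (by rw [Sts_scal isScal_neg_one, Sts_one])
    (res_cj (GLc.isIrr_St 1).isClassFunction) Sts_one

theorem exists_rl_psl_add (h4 : 4 ≤ Fintype.card F) (h5 : Fintype.card F ≠ 5) :
    ∃ ψ : IrrCharacter PSL(2, F), Rl ψ ∧ charDegree ψ.1 = Fintype.card F + 1 := by
  have := isCyclic_mulChar (F := F)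
  obtain ⟨β, hβ⟩ := exists_pow_four_ne (X := MulChar F ℂ) (by
    rw [card_mulChar]; intro h
    have := Nat.le_of_dvd (by decide) h
    have : Fintype.card F - 1 = 3 := by omega
    rw [this] at h; omega)
  refine exists_rl_psl ((isIrr_R_iff _).2 hβ) ?_ (R_cj _) (by rw [R_one]; push_cast; rfl)
  rw [R_scal _ isScal_neg_one, R_one, SLc.coe_neg, sq, MulChar.mul_apply, ← map_mul]
  simp

theorem exists_rl_psl_sub (h4 : 4 ≤ Fintype.card F) :
    ∃ ψ : IrrCharacter PSL(2, F), Rl ψ ∧ charDegree ψ.1 = Fintype.card F - 1 := by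
  obtain ⟨g₀, h₀⟩ := exists_noEig_SL (F := F)
  have := isCyclic_C h₀
  have := isCyclic_dual (C g₀)
  have := finite_dual (A := C g₀)
  obtain ⟨β, hβ⟩ := exists_pow_four_ne (X := C g₀ →* ℂˣ) (by
    rw [card_dual_cyclic, card_C h₀]; intro h
    have := Nat.le_of_dvd (by decide) h
    omega)
  refine exists_rl_psl (isIrr_pi h₀ hβ) ?_ (pi_cj h₀ _) (by rw [pi_one, cast_card_sub_one])
  have hz : (-1 : SL2 F) ∈ C g₀ := Subgroup.center_le_centralizer _ neg_one_mem_center
  rw [pi_scal h₀ _ (z := ⟨-1, hz⟩) isScal_neg_one, pi_one, MonoidHom.pow_apply, ← map_pow,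
    show (⟨-1, hz⟩ : C g₀) ^ 2 = 1 from Subtype.ext (by simp)]
  simp

theorem exists_rl_psl_four (h : Fintype.card F % 8 = 3 ∨ Fintype.card F % 8 = 5) (h5 : 5 ≤ Fintype.card F) :
    ∃ ψ : IrrCharacter PSL(2, F), Rl ψ ∧ 4 ∣ charDegree ψ.1 := by
  rcases h with h | h
  · obtain ⟨ψ, h1, h2⟩ := exists_rl_psl_add (F := F) (by omega) (by omega)
    exact ⟨ψ, h1, by omega⟩
  · obtain ⟨ψ, h1, h2⟩ := exists_rl_psl_sub (F := F) (by omega)
    exact ⟨ψ, h1, by omega⟩

end SL

end H20
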