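import Mathlib
import Cfsg.Agent.H17.Sec
import Cfsg.Agent.S0049

/-! Sections: simple sections of non-solvable groups, lifting a section to a subgroup with the same primes. -/

set_option autoImplicit false
open Cfsg Subgroup
open H17 (Sec)

namespace H20.Sx
universe u
variable {G : Type u} [Group G] [Finite G]

omit [Finite G] in
theorem sec_refl : Sec G G := H17.Sec.of_hom (MonoidHom.id _) Function.injective_id (MonoidHom.id _) Function.surjective_id

/-- induction through normal subgroups and quotients -/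
theorem solv_ind {Pr : ∀ (G : Type u) [Group G], Prop}
    (hsub : ∀ (G : Type u) [Group G] [Finite G] (H : Subgroup G), H.Normal → Pr G → Pr H)
    (hquo : ∀ (G : Type u) [Group G] [Finite G] (N : Subgroup G) [N.Normal], Group.IsSolvable N → Pr G → Pr (G ⧸ N))
    (hs : ∀ (G : Type u) [Group G] [Finite G] [IsSimpleGroup G], ¬ IsMulCommutative G → ¬ Pr G) (n : ℕ) :
    ∀ (G : Type u) [Group G] [Finite G], Nat.card G = n → Pr G → Group.IsSolvable G := by
  induction n using Nat.strong_induction_on with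
  | _ n ih =>
  intro G _ _ hn h
  rcases subsingleton_or_nontrivial G with _ | _
  · infer_instance
  by_cases hsi : IsSimpleGroup G
  · by_contra hc
    exact hs G (fun hm => hc (Group.isSolvable_of_comm hm.1.1)) h
  obtain ⟨N, hN, h1, h2⟩ : ∃ N : Subgroup G, N.Normal ∧ N ≠ ⊥ ∧ N ≠ ⊤ := by
    by_contra hc
    push Not at hc
    exact hsi ⟨fun N hN => or_iff_not_imp_left.2 (hc N hN)⟩
  have h3 := N.card_mul_index
  have h4 : 1 < Nat.card N := (one_lt_card_iff_ne_bot N).2 h1
  have h5 : 1 < N.index := one_lt_index_of_ne_top h2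
  have s1 : Group.IsSolvable N := ih _ (by rw [← hn, ← h3]; exact lt_mul_of_one_lt_right (by omega) h5) N rfl (hsub G N hN h)
  have s2 : Group.IsSolvable (G ⧸ N) :=
    ih _ (by rw [← hn, ← h3]; exact lt_mul_of_one_lt_left (Nat.card_pos) h4) (G ⧸ N) rfl (hquo G N s1 h)
  exact Group.isSolvable_of_ker_le_range N.subtype (QuotientGroup.mk' N) (by simp)

theorem exists_simple_sec (h : ¬ Group.IsSolvable G) :
    ∃ (X : Type u) (_ : Group X) (_ : Finite X), IsSimpleGroup X ∧ ¬ IsMulCommutative X ∧ Sec X G := by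
  by_contra hc
  refine h (solv_ind (Pr := fun Y _ => Sec Y G) (fun Y _ _ H _ h => ?_) (fun Y _ _ N _ _ h => ?_)
    (fun Y _ _ _ h1 h2 => hc ⟨Y, _, inferInstance, inferInstance, h1, h2⟩) _ G rfl sec_refl)
  · exact (sec_refl (G := H)).of_subgroup.trans h
  · exact (sec_refl (G := Y ⧸ N)).of_quotient.trans h

/-- a section is a quotient of a subgroup with the same prime divisors -/
theorem lift_sec {S : Type*} [Group S] (h : Sec S G) :
    ∃ (K : Subgroup G) (φ : K →* S), Function.Surjective φ ∧ ∀ r : ℕ, r.Prime → r ∣ Nat.card K → r ∣ Nat.card S := by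
  obtain ⟨K, ⟨φ, hφ⟩, hmin⟩ := exists_minimal_of_wellFoundedLT (fun K : Subgroup G => ∃ φ : K →* S, Function.Surjective φ) h
  refine ⟨K, φ, hφ, fun r hr hd => ?_⟩
  have h1 : φ.ker ≤ frattini K := by
    rw [frattini, Order.radical]
    refine le_iInf₂ fun M hM => ?_
    by_contra hc
    have h2 : M ⊔ φ.ker = ⊤ := hM.2 _ (left_lt_sup.2 hc)
    have h3 : M.map φ = ⊤ := by
      have := congrArg (Subgroup.map φ) h2
      rwa [Subgroup.map_sup, (Subgroup.map_eq_bot_iff _).2 le_rfl, sup_bot_eq, map_top_of_surjective _ hφ] at this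
    let e := M.equivMapOfInjective K.subtype K.subtype_injective
    have h4 : K ≤ M.map K.subtype := hmin ⟨(φ.comp M.subtype).comp e.symm.toMonoidHom, fun s => by
      obtain ⟨m, hm, rfl⟩ : s ∈ M.map φ := h3 ▸ mem_top s
      exact ⟨e ⟨m, hm⟩, by simp⟩⟩ (map_subtype_le M)
    refine hM.1 (eq_top_iff.2 fun x _ => ?_)
    obtain ⟨y, hy, e⟩ := h4 x.2
    exact Subtype.ext e ▸ hy
  refine (Cfsg.Agent.S0049.result r hr hd).trans ((index_dvd_of_le h1).trans ?_)
  rw [index_ker, MonoidHom.range_eq_top.2 hφ, card_top]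

end H20.Sx
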