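import Cfsg.Agent.H19.Frob
import Cfsg.Agent.H12.CC
import Cfsg.Agent.H19.Invol

/-! Exceptional characters of an abelian subgroup containing the centralisers of its non-identity elements
(namespace `H20.CCX`): `desc`, `desc_one`, `card_nv_le`, `le_card_classes`. -/

set_option autoImplicit false
set_option linter.unusedSectionVars false

open H05 H19 H12.CC Classical
open scoped ComplexConjugate

namespace H20.CCX
open _root_.Cfsg

variable {G : Type*} [Group G] [Fintype G] {A : Subgroup G} (h : AbCC A)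
include h

theorem comm : IsMulCommutative A := ⟨⟨fun x y => Subtype.ext (h.comm x.2 y.2)⟩⟩

theorem cent_eq : Subgroup.centralizer (A : Set G) = A := by
  obtain ⟨x, hx, x1⟩ := h.exists_ne
  refine le_antisymm (fun g hg => ?_) fun g hg y hy => h.comm hy hg
  rw [← h.cent x hx x1]
  exact Subgroup.mem_centralizer_singleton_iff.2 (hg x hx).symm

theorem col {y : A} (hy : y ≠ 1) (y' : A) :
    ∑ χ : IrrCharacter G, (χ : G → ℂ) y * conj ((χ : G → ℂ) y') =
      ∑ n, if A.normalizerMonoidHom n y = y' then 1 else 0 := by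
  have hy1 : (y : G) ≠ 1 := fun e => hy (Subtype.ext e)
  rw [Finset.sum_boole]
  by_cases hc : IsConj (y : G) y'
  · obtain ⟨g, hg⟩ := isConj_iff.1 hc
    have := H21.card_fiber_conj (Subgroup.normalizer (A : Set G)) (y : G) (y' := y') ⟨g, h.ti y.2 hy1 (hg ▸ y'.2), hg⟩
    rw [h.cent y y.2 hy1, inf_eq_right.2 Subgroup.le_normalizer] at this
    rw [sum_irr_mul_conj_of_isConj hc, h.cent y y.2 hy1, ← this]
    congr 2
    ext n
    simp only [Finset.mem_filter, Finset.mem_univ, true_and]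
    exact ⟨fun e => Subtype.ext e, fun e => congrArg Subtype.val e⟩
  · rw [sum_irr_mul_conj_of_not_isConj hc,
      Finset.filter_eq_empty_iff (p := fun n => A.normalizerMonoidHom n y = y') |>.2
      fun n _ e => hc (isConj_iff.2 ⟨(n : G), congrArg Subtype.val e⟩)]
    simp

theorem mem_of_cD_eq {n : Subgroup.normalizer (A : Set G)} {ψ : A →* ℂˣ} (hψ : ψ ≠ 1) (e : cD _ n ψ = ψ) :
    (n : G) ∈ Subgroup.centralizer (A : Set G) := by
  by_contra hn
  have := comm h
  have h1 : Function.Injective fun y : A => A.normalizerMonoidHom n y * y⁻¹ := by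
    intro y z h'
    by_contra hc
    have h2 : A.normalizerMonoidHom n (z⁻¹ * y) = z⁻¹ * y := by
      simp only at h'
      rw [mul_inv_eq_iff_eq_mul] at h'
      rw [map_mul, map_inv, h', mul_assoc, inv_mul_cancel_left]
    refine hn ?_
    rw [cent_eq h]
    exact (h.cent _ (z⁻¹ * y).2 (fun e => hc (inv_mul_eq_one.1 (Subtype.ext e)).symm)).le
      (Subgroup.mem_centralizer_singleton_iff.2 (mul_inv_eq_iff_eq_mul.1 (congrArg Subtype.val h2)))
  refine hψ (MonoidHom.ext fun z => ?_)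
  obtain ⟨y, rfl⟩ := Finite.injective_iff_surjective.1 h1 z
  simp only [map_mul, map_inv, ← cD_apply, e, mul_inv_cancel, MonoidHom.one_apply]

theorem card_filter_cD {ψ' : A →* ℂˣ} (hψ : ψ' ≠ 1) (ψ : A →* ℂˣ) :
    (Finset.univ.filter fun n => cD _ n ψ' = ψ).card =
      if DRel _ ψ ψ' then Nat.card (Subgroup.centralizer (A : Set G)) else 0 := by
  split_ifs with h'
  · obtain ⟨g, rfl⟩ := dRel_iff.1 h'
    have hle := Subgroup.centralizer_le_normalizer (A : Set G)
    rw [Nat.card_eq_fintype_card, ← Finset.card_univ]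
    symm
    refine Finset.card_bij (fun k _ => ⟨k, hle k.2⟩ * g) (fun k _ => ?_)
      (fun k _ k' _ e => Subtype.ext (congrArg Subtype.val (mul_right_cancel e) :)) fun x hh => ?_
    · simp only [Finset.mem_filter, Finset.mem_univ, true_and]
      rw [cD_mul, cD_of_mem (n := ⟨(k : G), hle k.2⟩) k.2]
    · simp only [Finset.mem_filter, Finset.mem_univ, true_and] at hh
      refine ⟨⟨(x * g⁻¹ :), mem_of_cD_eq h hψ ?_⟩, Finset.mem_univ _, Subtype.ext (by simp)⟩
      rw [cD_mul, hh, ← cD_mul, mul_inv_cancel, cD_one]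
  · rw [Finset.filter_eq_empty_iff.2 fun g _ e => h' (dRel_iff.2 ⟨g, e⟩)]; rfl

theorem card_rel {ψ : A →* ℂˣ} (hψ : ψ ≠ 1) : (Finset.univ.filter fun ψ' => DRel _ ψ' ψ).card = frobIdx A := by
  have h1 := Finset.card_eq_sum_card_fiberwise (s := Finset.univ) (t := Finset.univ) (f := fun n => cD _ n ψ)
    (fun _ _ => Finset.mem_univ _)
  simp only [card_filter_cD h hψ] at h1
  rw [← Finset.sum_filter, Finset.sum_const, smul_eq_mul, Finset.card_univ, ← Nat.card_eq_fintype_card,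
    card_normalizer, mul_comm] at h1
  exact (Nat.eq_of_mul_eq_mul_right Nat.card_pos h1).symm

theorem gram {ψ ψ' : A →* ℂˣ} (hψ : ψ ≠ 1) (hψ' : ψ' ≠ 1) :
    ∑ χ, uu A χ ψ * uu A χ ψ' = frobIdx A + if DRel _ ψ ψ' then 1 else 0 := by
  have hP := card_ne_zero_complex (G := A)
  have h3 : ∀ n, ∑ y ∈ Finset.univ.erase 1, (hf ψ' (A.normalizerMonoidHom n y) - 1) *
      conj (hf ψ y - 1) = Nat.card A * (1 + if cD _ n ψ' = ψ then 1 else 0) := fun n => by
    refine (card_mul_inner_sub_one (hf (cD _ n ψ') - 1) ψ).symm.trans ?_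
    rw [classInner_sub_left, classInner_sub_right, classInner_sub_right, ← hf_one, classInner_hf, classInner_hf,
      classInner_hf, classInner_hf, if_pos rfl, if_neg hψ.symm, if_neg (cD_ne_one n hψ')]
    ring
  have h4 : ((∑ χ, uu A χ ψ * uu A χ ψ' : ℤ) : ℂ) = ((frobIdx A + if DRel _ ψ ψ' then 1 else 0 : ℤ) : ℂ) := by
    apply mul_left_cancel₀ (mul_ne_zero hP hP)
    push_cast
    calc _ = ∑ χ : IrrCharacter G, (Nat.card A * (uu A χ ψ : ℂ)) * (Nat.card A * (uu A χ ψ' : ℂ)) := by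
          simp only [Finset.mul_sum]; exact Finset.sum_congr rfl fun _ _ => by ring
      _ = ∑ y ∈ Finset.univ.erase 1, ∑ y' ∈ Finset.univ.erase 1, (hf ψ' y' - 1) * conj (hf ψ y - 1) *
            ∑ χ : IrrCharacter G, (χ : G → ℂ) y * conj ((χ : G → ℂ) y') := by
          rw [Finset.sum_congr rfl fun χ _ => by rw [card_mul_uu, card_mul_uu']]
          simp only [Finset.sum_mul_sum]
          simp only [Finset.mul_sum]
          rw [Finset.sum_comm]
          refine Finset.sum_congr rfl fun _ _ => ?_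
          rw [Finset.sum_comm]
          exact Finset.sum_congr rfl fun _ _ => Finset.sum_congr rfl fun _ _ => by ring
      _ = ∑ y ∈ Finset.univ.erase 1, ∑ n, ((hf ψ' (A.normalizerMonoidHom n y) - 1) * conj (hf ψ y - 1)) := by
          refine Finset.sum_congr rfl fun y hy => ?_
          rw [Finset.sum_erase _ (by simp)]
          simp only [col h (Finset.mem_erase.1 hy).1, Finset.mul_sum]
          rw [Finset.sum_comm]
          refine Finset.sum_congr rfl fun n _ => ?_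
          rw [Finset.sum_eq_single (A.normalizerMonoidHom n y)]
          · simp
          · intro y' _ hy'
            rw [if_neg hy'.symm]; simp
          · simp
      _ = _ := by
          rw [Finset.sum_comm]
          simp only [h3, ← Finset.mul_sum]
          rw [Finset.sum_add_distrib, Finset.sum_boole, card_filter_cD h hψ', Finset.sum_const, Finset.card_univ,
            ← Nat.card_eq_fintype_card, card_normalizer, cent_eq h]
          split_ifs <;> simp <;> ring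
  exact_mod_cast h4

omit h in
theorem sum_uu (ψ : A →* ℂˣ) {g : G} (hg : ∀ y ∈ A, y ≠ 1 → ¬ IsConj g y) :
    ∑ χ : IrrCharacter G, uu A χ ψ * (χ : G → ℂ) g = 0 := by
  apply mul_left_cancel₀ (card_ne_zero_complex (G := A))
  simp only [Finset.mul_sum, ← mul_assoc, card_mul_uu', Finset.sum_mul, mul_zero]
  rw [Finset.sum_comm]
  refine Finset.sum_eq_zero fun y hy => ?_
  have := sum_irr_mul_conj_of_not_isConj (hg y y.2 fun e => (Finset.mem_erase.1 hy).1 (Subtype.ext e))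
  rw [← zero_mul (hf ψ y - 1), ← this, Finset.sum_mul]
  exact Finset.sum_congr rfl fun _ _ => by ring

theorem uu_const {χ : IrrCharacter G} {c : ℂ} (hc : ∀ y ∈ A, y ≠ 1 → (χ : G → ℂ) y = c) {ψ : A →* ℂˣ} (hψ : ψ ≠ 1) :
    (uu A χ ψ : ℂ) = -c := by
  apply mul_left_cancel₀ (card_ne_zero_complex (G := A))
  have := card_mul_inner_sub_one (fun _ : A => c) ψ
  rw [card_mul_uu, Finset.sum_congr rfl fun y hy => by
    rw [hc y y.2 fun e => (Finset.mem_erase.1 hy).1 (Subtype.ext e)], ← this,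
    show (fun _ : A => c) = c • hf (1 : A →* ℂˣ) by ext; simp, classInner_smul_left, classInner_sub_right, ← hf_one,
    classInner_hf, classInner_hf, if_neg hψ.symm, if_pos rfl]
  ring

theorem frobIdx_eq {e : ℕ} (he : Nat.card (Subgroup.normalizer (A : Set G)) = e * Nat.card A) : frobIdx A = e := by
  rw [card_normalizer, cent_eq h, mul_comm] at he
  exact Nat.eq_of_mul_eq_mul_right Nat.card_pos he

theorem desc {e t : ℕ} (he : Nat.card (Subgroup.normalizer (A : Set G)) = e * Nat.card A) (ht : Nat.card A = e * t + 1)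
    (h2 : 2 ≤ t) : ∃ (Y : Finset (IrrCharacter G)) (d δ : ℤ) (a : IrrCharacter G → ℤ), Y.card = t ∧ (δ = 1 ∨ δ = -1) ∧
      (∀ χ, χ ∉ Y → ∀ y ∈ A, y ≠ 1 → (χ : G → ℂ) y = a χ) ∧
      (∀ η ∈ Y, ∀ c : ℂ, ¬ ∀ y ∈ A, y ≠ 1 → (η : G → ℂ) y = c) ∧
      (d - δ) ^ 2 + (t - 1) * d ^ 2 + ∑ χ ∈ Yᶜ, a χ ^ 2 = e + 1 ∧
      ∀ η ∈ Y, ∀ g, (∀ y ∈ A, y ≠ 1 → ¬ IsConj g y) →
        δ * (η : G → ℂ) g = ∑ χ ∈ Yᶜ, a χ * (χ : G → ℂ) g + d * ∑ η' ∈ Y, (η' : G → ℂ) g := by
  have := comm h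
  have hF := frobIdx_eq h he
  have e0 : 0 < e := hF ▸ frobIdx_pos A
  have h1 : (Finset.univ.erase (1 : A →* ℂˣ)).card = e * t := by
    rw [Finset.card_erase_of_mem (Finset.mem_univ _), Finset.card_univ, card_dual, ht]; rfl
  obtain ⟨ψ₁, h3⟩ := Finset.card_pos.1 (h1 ▸ by positivity : 0 < (Finset.univ.erase (1 : A →* ℂˣ)).card)
  have h4 := (Finset.mem_erase.1 h3).1
  obtain ⟨ψ₀, h5, h6⟩ := Finset.exists_mem_notMem_of_card_lt_card
    (h1 ▸ card_rel h h4 ▸ by rw [hF]; nlinarith : (Finset.univ.filter fun ψ => DRel _ ψ ψ₁).card <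
      (Finset.univ.erase (1 : A →* ℂˣ)).card)
  have h0 := (Finset.mem_erase.1 h5).1
  have h7 : ¬ DRel _ ψ₀ ψ₁ := by simpa using h6
  let R : {ψ : A →* ℂˣ // ψ ≠ 1} → {ψ : A →* ℂˣ // ψ ≠ 1} → Prop := fun a b => DRel _ a.1 b.1
  have hR : Equivalence R :=
    ⟨fun _ => (dRel_equivalence _).refl _, fun h => (dRel_equivalence _).symm h,
      fun h h' => (dRel_equivalence _).trans h h'⟩
  obtain ⟨δ, w, exc, hε, -, e2, e3, e4⟩ := exc_of_gram Finset.univ R hR (fun a χ => uu A χ a.1) (frobIdx A)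
    (fun a b => by convert gram h a.2 b.2)
    (fun a => sum_uu a.1 (g := 1) fun y _ y1 hc => y1 (isConj_one_right.1 hc)) (a₀ := ⟨ψ₀, h0⟩) (b₀ := ⟨ψ₁, h4⟩) h7
  set Y := Finset.univ.image exc with hY
  have mY : ∀ η, η ∈ Y ↔ ∃ b, exc b = η := fun η => by simp [hY]
  have uX : ∀ χ, χ ∉ Y → ∀ ψ, ψ ≠ 1 → uu A χ ψ = uu A χ ψ₀ := fun χ hχ ψ hψ =>
    e4 χ (Finset.mem_univ _) (fun b e => hχ ((mY _).2 ⟨b, e.symm⟩)) ⟨ψ, hψ⟩ ⟨ψ₀, h0⟩
  have uY : ∀ η ∈ Y, ∀ b, uu A η b.1 = w + if exc b = η then δ else 0 := fun η hη b => by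
    obtain ⟨b', rfl⟩ := (mY _).1 hη
    simp only [e3 b b', e2 b b']
  have cY : Y.card = t := by
    have h8 := Finset.card_eq_sum_card_fiberwise (s := Finset.univ) (t := Y) (f := exc)
      (fun ψ h => Finset.mem_image_of_mem exc h)
    rw [Finset.sum_congr rfl (g := fun _ => e) fun η hη => by
      obtain ⟨b, rfl⟩ := (mY _).1 hη
      rw [← hF, ← card_rel h b.2]
      refine Finset.card_bij (fun x _ => x.1) (fun x hx => ?_) (fun _ _ _ _ e => Subtype.ext e) fun x hx => ?_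
      · simpa using (e2 _ _).1 (Finset.mem_filter.1 hx).2
      · have hx' := (Finset.mem_filter.1 hx).2
        exact ⟨⟨x, ((dRel_equivalence _).symm hx').ne_one b.2⟩,
          Finset.mem_filter.2 ⟨Finset.mem_univ _, (e2 _ _).2 hx'⟩, rfl⟩,
      Finset.sum_const, smul_eq_mul, Finset.card_univ, Fintype.card_subtype, Finset.filter_ne', h1, mul_comm] at h8
    exact (Nat.eq_of_mul_eq_mul_right e0 h8).symm
  refine ⟨Y, -w, δ, fun χ => -uu A χ ψ₀, cY, hε, fun χ hχ y hy y1 => ?_, fun η hη c hc => ?_, ?_, fun η hη g hg => ?_⟩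
  · have y1' : (⟨y, hy⟩ : A) ≠ 1 := fun e => y1 (congrArg Subtype.val e)
    refine (apply_eq_sum_uu _ χ y1').trans ?_
    rw [Finset.sum_congr rfl fun ψ hψ => by rw [uX χ hχ ψ (Finset.mem_erase.1 hψ).1], ← Finset.mul_sum,
      sum_dual_erase y1']
    simp
  · obtain ⟨η', hη', hne⟩ := Finset.exists_mem_ne (by omega : 1 < Y.card) η
    obtain ⟨b, rfl⟩ := (mY _).1 hη
    obtain ⟨b', rfl⟩ := (mY _).1 hη'
    have e5 := uY _ hη b
    have e6 := uY _ hη b'
    rw [if_pos rfl] at e5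
    rw [if_neg hne] at e6
    have e7 : uu A (exc b) b.1 = uu A (exc b) b'.1 := by
      exact_mod_cast (uu_const h hc b.2).trans (uu_const h hc b'.2).symm
    omega
  · have h1 := gram h h0 h0
    rw [if_pos ((dRel_equivalence _).refl _), ← Finset.sum_add_sum_compl Y,
      Finset.sum_congr (s₁ := Y) rfl (g := fun η => w ^ 2 + if exc ⟨ψ₀, h0⟩ = η then δ ^ 2 + 2 * w * δ else 0)
        fun χ hχ => by rw [uY _ hχ ⟨ψ₀, h0⟩]; split_ifs <;> ring,
      Finset.sum_add_distrib, Finset.sum_ite_eq, if_pos ((mY _).2 ⟨_, rfl⟩), Finset.sum_const, nsmul_eq_mul, cY,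
      hF] at h1
    simp only [neg_sq, sq (uu A _ ψ₀)]
    linarith
  · obtain ⟨b, rfl⟩ := (mY _).1 hη
    have h1 := sum_uu b.1 hg
    rw [← Finset.sum_add_sum_compl Y, Finset.sum_congr (s₁ := Yᶜ) rfl
        (g := fun χ => -(((-uu A χ ψ₀ : ℤ) : ℂ) * (χ : G → ℂ) g)) fun χ hχ => by
        rw [uX χ (Finset.mem_compl.1 hχ) _ b.2]; push_cast; ring,
      Finset.sum_congr (s₁ := Y) rfl
        (g := fun η => w * (η : G → ℂ) g + if exc b = η then δ * (η : G → ℂ) g else 0) fun χ hχ => by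
        rw [uY _ hχ b]; push_cast; split_ifs <;> ring,
      Finset.sum_add_distrib, Finset.sum_ite_eq, if_pos hη, Finset.sum_neg_distrib, ← Finset.mul_sum] at h1
    push_cast at h1 ⊢
    linear_combination h1

omit h in
theorem sum_norm (g : G) :
    ∑ χ : IrrCharacter G, ‖(χ : G → ℂ) g‖ ^ 2 = Nat.card (Subgroup.centralizer ({g} : Set G)) := by
  have := H05.sum_irr_mul_conj_of_isConj (IsConj.refl g)
  simp only [Complex.mul_conj, Complex.normSq_eq_norm_sq] at this
  exact_mod_cast this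

theorem ncard_conj {e : ℕ} (he : Nat.card (Subgroup.normalizer (A : Set G)) = e * Nat.card A) {x : G} (hx : x ∈ A)
    (x1 : x ≠ 1) : {y | y ∈ A ∧ IsConj x y}.ncard = e :=
  Nat.eq_of_mul_eq_mul_right Nat.card_pos ((h.card_normalizer hx x1).symm.trans he)

theorem desc_one {e : ℕ} (he : Nat.card (Subgroup.normalizer (A : Set G)) = e * Nat.card A)
    (ht : Nat.card A = e + 1) : ∃ a : IrrCharacter G → ℤ,
      (∀ χ : IrrCharacter G, ∀ y ∈ A, y ≠ 1 → (χ : G → ℂ) y = a χ) ∧ ∑ χ, a χ ^ 2 = e + 1 := by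
  have := comm h
  obtain ⟨x, hx, x1⟩ := h.exists_ne
  have h1 : {y | y ∈ A ∧ IsConj x y} = (A : Set G) \ {1} :=
    Set.eq_of_subset_of_ncard_le (fun y hy => ⟨hy.1, fun e => x1 (isConj_one_left.1 (e ▸ hy.2))⟩)
      (by rw [ncard_sharp, ncard_conj h he hx x1, ht]; rfl)
  have h2 : ∀ χ : IrrCharacter G, ∀ y ∈ A, y ≠ 1 → (χ : G → ℂ) y = (χ : G → ℂ) x := fun χ y hy y1 => by
    obtain ⟨g, rfl⟩ := isConj_iff.1 (show y ∈ {y | y ∈ A ∧ IsConj x y} from h1 ▸ ⟨hy, y1⟩).2
    exact χ.2.isCharacter.isClassFunction x g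
  obtain ⟨ψ, hψ⟩ : ∃ ψ : A →* ℂˣ, ψ ≠ 1 := by
    have : 1 < Fintype.card (A →* ℂˣ) := by
      rw [card_dual]; exact (Subgroup.one_lt_card_iff_ne_bot A).2 h.ne
    exact Fintype.exists_ne_of_one_lt_card this 1
  have h3 : ∀ χ : IrrCharacter G, (χ : G → ℂ) x = (-uu A χ ψ : ℤ) := fun χ => by
    push_cast; rw [uu_const h (h2 χ) hψ, neg_neg]
  refine ⟨fun χ => -uu A χ ψ, fun χ y hy y1 => (h2 χ y hy y1).trans (h3 χ), ?_⟩
  have := sum_norm x
  simp only [h3, Complex.norm_intCast, sq_abs] at this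
  rw [h.cent x hx x1, ht] at this
  exact_mod_cast this

/-- the characters not vanishing on the non-identity elements of `A` -/
noncomputable def nv (A : Subgroup G) : Finset (IrrCharacter G) :=
  Finset.univ.filter fun χ => ¬ ∀ y ∈ A, y ≠ 1 → (χ : G → ℂ) y = 0

omit h in
theorem not_mem_nv {χ : IrrCharacter G} : χ ∉ nv A ↔ ∀ y ∈ A, y ≠ 1 → (χ : G → ℂ) y = 0 := by simp [nv]

omit h in
theorem card_le_sum {ι : Type*} {S T : Finset ι} {a : ι → ℤ} (hS : S ⊆ T) (ha : ∀ i ∈ S, a i ≠ 0) :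
    (S.card : ℤ) ≤ ∑ i ∈ T, a i ^ 2 := by
  refine le_trans ?_ (Finset.sum_le_sum_of_subset_of_nonneg hS fun _ _ _ => sq_nonneg _)
  rw [Finset.card_eq_sum_ones, Nat.cast_sum]
  exact Finset.sum_le_sum fun χ h => by have := pow_pos (abs_pos.2 (ha χ h)) 2; rw [sq_abs] at this; omega

theorem card_nv_le {e t : ℕ} (he : Nat.card (Subgroup.normalizer (A : Set G)) = e * Nat.card A)
    (ht : Nat.card A = e * t + 1) (h1 : 1 ≤ t) : (nv A).card ≤ t + e := by
  rcases h1.eq_or_lt with rfl | h2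
  · obtain ⟨a, h3, h4⟩ := desc_one h he (by rw [ht, mul_one])
    have := card_le_sum (S := nv A) (a := a) (Finset.subset_univ _) fun χ hχ h0 => by
      refine not_mem_nv.2 (fun y hy y1 => ?_) hχ
      rw [h3 χ y hy y1, h0, Int.cast_zero]
    omega
  · obtain ⟨Y, d, δ, a, cY, hδ, h3, -, h4, -⟩ := desc h he ht h2
    have h5 := card_le_sum (S := nv A \ Y) (T := Yᶜ) (a := a)
      (fun χ hχ => Finset.mem_compl.2 (Finset.mem_sdiff.1 hχ).2) fun χ hχ h0 => by
      refine not_mem_nv.2 (fun y hy y1 => ?_) (Finset.mem_sdiff.1 hχ).1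
      rw [h3 χ (Finset.mem_sdiff.1 hχ).2 y hy y1, h0, Int.cast_zero]
    have h6 := Finset.le_card_sdiff Y (nv A)
    have h7 : 1 ≤ (d - δ) ^ 2 + ((t : ℤ) - 1) * d ^ 2 := by
      have : (2 : ℤ) ≤ t := by exact_mod_cast h2
      by_cases hd : d = 0
      · rcases hδ with rfl | rfl <;> simp [hd]
      · have := pow_pos (abs_pos.2 hd) 2
        rw [sq_abs] at this
        nlinarith [sq_nonneg (d - δ)]
    omega

/-- the classes meeting `A` in non-identity elements -/
noncomputable def cls (A : Subgroup G) : Finset (ConjClasses G) :=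
  (Finset.univ.filter fun y => y ∈ A ∧ y ≠ 1).image ConjClasses.mk

theorem le_card_cls {e t : ℕ} (he : Nat.card (Subgroup.normalizer (A : Set G)) = e * Nat.card A)
    (ht : Nat.card A = e * t + 1) : t ≤ (cls A).card := by
  have e0 : 0 < e := frobIdx_eq h he ▸ frobIdx_pos A
  have h1 : (Finset.univ.filter fun y => y ∈ A ∧ y ≠ 1).card = e * t := by
    have := ncard_sharp A
    rw [ht, Nat.add_sub_cancel] at this
    rw [← this, Set.ncard_eq_toFinset_card']
    congr 1
    ext y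
    simp
  have := Finset.card_le_mul_card_image (f := ConjClasses.mk) (Finset.univ.filter fun y => y ∈ A ∧ y ≠ 1) e fun c hc => by
    obtain ⟨x, hx, rfl⟩ := Finset.mem_image.1 hc
    obtain ⟨hx, x1⟩ := (Finset.mem_filter.1 hx).2
    rw [← ncard_conj h he hx x1, Set.ncard_eq_toFinset_card']
    refine Finset.card_le_card fun y hy => ?_
    simp only [Finset.mem_filter, Finset.mem_univ, true_and, ConjClasses.mk_eq_mk_iff_isConj] at hy
    simpa using ⟨hy.1.1, isConj_iff.1 hy.2.symm⟩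
  rw [h1] at this
  exact Nat.le_of_mul_le_mul_left this e0

omit h in
theorem dvd_of_vanish {χ : IrrCharacter G} (hχ : χ ∉ nv A) : Nat.card A ∣ charDegree (χ : G → ℂ) := by
  exact_mod_cast H19.card_dvd_of_vanish χ.2.isCharacter.isGeneralizedCharacter A (m := charDegree (χ : G → ℂ))
    (by simp [χ.2.isCharacter.charDegree_eq]) (not_mem_nv.1 hχ)

end H20.CCX
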