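import Cfsg.Agent.H20.SzA

/-! The irreducible characters of a group of Suzuki type (namespace `H20.CCX`): `full`, `ident`, `SzD`, `Tab`,
`SzD.exists_tab`. -/

set_option autoImplicit false
set_option linter.unusedSectionVars false

open H05 H19 H12.CC Classical
open scoped ComplexConjugate

namespace H20.CCX
open _root_.Cfsg

variable {G : Type*} [Group G] [Fintype G]

/-- `χ` is constant on the non-identity elements of `A` -/
def Cst (A : Subgroup G) (χ : IrrCharacter G) (c : ℂ) : Prop := ∀ y ∈ A, y ≠ 1 → (χ : G → ℂ) y = c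

/-- `g` is not conjugate to a non-identity element of `A` -/
def Off (A : Subgroup G) (g : G) : Prop := ∀ y ∈ A, y ≠ 1 → ¬ IsConj g y

theorem off_one (A : Subgroup G) : Off A 1 := fun _ _ y1 hc => y1 (isConj_one_right.1 hc)

theorem off_of_card {A : Subgroup G} (h : AbCC A) {g : G} (hg : Nat.card (Subgroup.centralizer ({g} : Set G)) ≠ Nat.card A) :
    Off A g := fun y hy y1 hc => hg (by rw [card_centralizer_eq_of_isConj hc, h.cent y hy y1])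

theorem Cst.mem_nv {A : Subgroup G} (h : AbCC A) {χ : IrrCharacter G} {c : ℂ} (hc : Cst A χ c) (c0 : c ≠ 0) : χ ∈ nv A := by
  obtain ⟨y, hy, y1⟩ := h.exists_ne
  by_contra hn
  exact c0 ((hc y hy y1).symm.trans (not_mem_nv.1 hn y hy y1))

theorem Cst.eq {A : Subgroup G} (h : AbCC A) {χ : IrrCharacter G} {c c' : ℂ} (hc : Cst A χ c) (hc' : Cst A χ c') : c = c' := by
  obtain ⟨y, hy, y1⟩ := h.exists_ne
  exact (hc y hy y1).symm.trans (hc' y hy y1)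

theorem cst_one (A : Subgroup G) : Cst A (H21.irrOne G) 1 := fun _ _ _ => rfl

theorem deg_one : charDegree (H21.irrOne G : G → ℂ) = 1 := charDegree_eq_of_apply_one (by simp)

theorem app_one (χ : IrrCharacter G) : (χ : G → ℂ) 1 = charDegree (χ : G → ℂ) := χ.2.isCharacter.charDegree_eq.symm

theorem sq_eq_one_iff_of_pos_or {x : ℤ} (h : x ^ 2 = 1) : x = 1 ∨ x = -1 := mul_self_eq_one_iff.1 (by rw [← sq, h])

theorem full {A : Subgroup G} (h : AbCC A) {e t : ℕ} (he : Nat.card (Subgroup.normalizer (A : Set G)) = e * Nat.card A)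
    (ht : Nat.card A = e * t + 1) (h3 : 3 ≤ t)
    (H : ∀ Y : Finset (IrrCharacter G), Y.card = t → (∀ η ∈ Y, ∀ c, ¬ Cst A η c) → e ≤ (nv A \ Y).card) :
    ∃ (Y : Finset (IrrCharacter G)) (δ : ℤ) (a : IrrCharacter G → ℤ), Y.card = t ∧ (δ = 1 ∨ δ = -1) ∧ Y ⊆ nv A ∧
      (nv A \ Y).card = e ∧ (∀ η ∈ Y, ∀ c, ¬ Cst A η c) ∧
      (∀ χ ∈ nv A \ Y, (a χ = 1 ∨ a χ = -1) ∧ Cst A χ (a χ)) ∧
      ∀ η ∈ Y, ∀ g, Off A g → δ * (η : G → ℂ) g = ∑ χ ∈ nv A \ Y, a χ * (χ : G → ℂ) g := by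
  obtain ⟨Y, d, δ, a, cY, hδ, h4, h5, h6, h7⟩ := desc h he ht (by omega)
  have hs : nv A \ Y ⊆ Yᶜ := fun χ hχ => Finset.mem_compl.2 (Finset.mem_sdiff.1 hχ).2
  have h0 : ∀ χ ∈ Yᶜ, χ ∉ nv A \ Y → a χ = 0 := fun χ h1 h2 => by
    have h1' := Finset.mem_compl.1 h1
    have h2' : χ ∉ nv A := fun h => h2 (Finset.mem_sdiff.2 ⟨h, h1'⟩)
    exact_mod_cast Cst.eq h (h4 χ h1') (not_mem_nv.1 h2')
  have h1 : ∀ χ ∈ nv A \ Y, 1 ≤ a χ ^ 2 := fun χ hχ => by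
    have : a χ ≠ 0 := fun h0 => not_mem_nv.2 (fun y hy y1 => by
      rw [h4 χ (Finset.mem_sdiff.1 hχ).2 y hy y1, h0, Int.cast_zero]) (Finset.mem_sdiff.1 hχ).1
    have := pow_pos (abs_pos.2 this) 2
    rw [sq_abs] at this
    omega
  rw [← Finset.sum_subset hs fun χ h1 h2 => by rw [h0 χ h1 h2]; rfl] at h6
  have h8 := H Y cY h5
  have h9 : ∑ χ ∈ nv A \ Y, (a χ ^ 2 - 1) = ∑ χ ∈ nv A \ Y, a χ ^ 2 - (nv A \ Y).card := by
    rw [Finset.sum_sub_distrib]; simp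
  have h10 : 0 ≤ ∑ χ ∈ nv A \ Y, (a χ ^ 2 - 1) := Finset.sum_nonneg fun χ hχ => sub_nonneg.2 (h1 χ hχ)
  have h3' : (3 : ℤ) ≤ t := by exact_mod_cast h3
  have h8' : (e : ℤ) ≤ (nv A \ Y).card := by exact_mod_cast h8
  obtain rfl : d = 0 := by
    by_contra hd
    have := pow_pos (abs_pos.2 hd) 2
    rw [sq_abs] at this
    nlinarith [sq_nonneg (d - δ)]
  have hδ2 : (0 - δ) ^ 2 = 1 := by rcases hδ with rfl | rfl <;> norm_num
  have h11 : ∑ χ ∈ nv A \ Y, (a χ ^ 2 - 1) = 0 := by nlinarith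
  refine ⟨Y, δ, a, cY, hδ, fun η hη => by_contra fun hn => h5 η hη 0 (not_mem_nv.1 hn), ?_, h5, fun χ hχ => ⟨?_,
    h4 χ (Finset.mem_sdiff.1 hχ).2⟩, fun η hη g hg => ?_⟩
  · have : ((nv A \ Y).card : ℤ) = e := by nlinarith
    exact_mod_cast this
  · exact sq_eq_one_iff_of_pos_or (sub_eq_zero.1
      ((Finset.sum_eq_zero_iff_of_nonneg fun χ hχ => sub_nonneg.2 (h1 χ hχ)).1 h11 χ hχ))
  · rw [h7 η hη g hg, ← Finset.sum_subset hs fun χ h1 h2 => by rw [h0 χ h1 h2]; simp]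
    simp

theorem ident {A : Subgroup G} (h : AbCC A) {t : ℕ} (he : Nat.card (Subgroup.normalizer (A : Set G)) = 4 * Nat.card A)
    (ht : Nat.card A = 4 * t + 1) (h3 : 3 ≤ t) {St W₁ W₂ : IrrCharacter G} {P : Finset (IrrCharacter G)}
    (hSt : Cst A St (-1)) (hnv : nv A = {H21.irrOne G, St, W₁, W₂} ∪ P) (cP : P.card = t)
    (hdj : Disjoint {H21.irrOne G, St, W₁, W₂} P) (n1 : H21.irrOne G ∉ ({St, W₁, W₂} : Finset _))
    (n2 : St ∉ ({W₁, W₂} : Finset _)) (n3 : W₁ ≠ W₂)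
    (hd : ∀ η ∈ P, charDegree (η : G → ℂ) ≠ charDegree (W₁ : G → ℂ) ∧ charDegree (η : G → ℂ) ≠ charDegree (W₂ : G → ℂ)) :
    ∃ δ a₁ a₂ : ℤ, (δ = 1 ∨ δ = -1) ∧ (a₁ = 1 ∨ a₁ = -1) ∧ (a₂ = 1 ∨ a₂ = -1) ∧ Cst A W₁ a₁ ∧ Cst A W₂ a₂ ∧
      ∀ η ∈ P, ∀ g, Off A g →
        δ * (η : G → ℂ) g = 1 - (St : G → ℂ) g + a₁ * (W₁ : G → ℂ) g + a₂ * (W₂ : G → ℂ) g := by
  have cK : ({H21.irrOne G, St, W₁, W₂} : Finset _).card = 4 := by
    rw [Finset.card_insert_of_notMem n1, Finset.card_insert_of_notMem n2, Finset.card_pair n3]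
  have cN : (nv A).card = 4 + t := by rw [hnv, Finset.card_union_of_disjoint hdj, cK, cP]
  obtain ⟨Y, δ, a, cY, hδ, h4, h5, h6, h7, h8⟩ := full h he ht h3 fun Y cY _ => by
    have := Finset.le_card_sdiff Y (nv A)
    omega
  have h9 : ∀ η ∈ Y, ∀ η' ∈ Y, charDegree (η : G → ℂ) = charDegree (η' : G → ℂ) := fun η hη η' hη' => by
    have := (h8 η hη 1 (off_one A)).trans (h8 η' hη' 1 (off_one A)).symm
    rw [app_one, app_one] at this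
    rcases hδ with rfl | rfl <;> simpa using this
  have h10 : ∀ η ∈ Y, η ∈ P ∨ η = W₁ ∨ η = W₂ := fun η hη => by
    have := hnv ▸ h4 hη
    simp only [Finset.mem_union, Finset.mem_insert, Finset.mem_singleton] at this
    rcases this with (rfl | rfl | h') | h'
    · exact absurd (cst_one A) (h6 _ hη 1)
    · exact absurd hSt (h6 _ hη _)
    · exact Or.inr h'
    · exact Or.inl h'
  obtain ⟨η₀, h11, h12⟩ : ∃ η ∈ Y, η ∈ P := by
    by_contra! hc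
    have := Finset.card_le_card (show Y ⊆ {W₁, W₂} from fun η hη => by simpa using (h10 η hη).resolve_left (hc η hη))
    rw [Finset.card_pair n3] at this
    omega
  obtain rfl : Y = P := Finset.eq_of_subset_of_card_le (fun η hη => by
    rcases h10 η hη with h' | rfl | rfl
    · exact h'
    · exact absurd (h9 _ h11 _ hη) (hd _ h12).1
    · exact absurd (h9 _ h11 _ hη) (hd _ h12).2) (by omega)
  rw [hnv, Finset.union_sdiff_right, hdj.sdiff_eq_left] at h7 h8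
  have a1 : (a (H21.irrOne G) : ℂ) = 1 := Cst.eq h (h7 _ (by simp)).2 (cst_one A)
  have a2 : (a St : ℂ) = -1 := Cst.eq h (h7 _ (by simp)).2 hSt
  refine ⟨δ, a W₁, a W₂, hδ, (h7 _ (by simp)).1, (h7 _ (by simp)).1, (h7 _ (by simp)).2, (h7 _ (by simp)).2,
    fun η hη g hg => ?_⟩
  rw [h8 η hη g hg, Finset.sum_insert n1, Finset.sum_insert n2, Finset.sum_pair n3, a1, a2, H21.irrOne_apply]
  ring

/-- the local data of a Suzuki group with `q = 8 (j + 1) ^ 2` -/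
structure SzD (j : ℕ) (A₀ A₁ A₂ : Subgroup G) (St : IrrCharacter G) : Prop where
  card : Nat.card G = (8 * j ^ 2 + 16 * j + 8) ^ 2 * ((8 * j ^ 2 + 16 * j + 8) ^ 2 + 1) * (8 * j ^ 2 + 16 * j + 7)
  c0 : AbCC A₀
  c1 : AbCC A₁
  c2 : AbCC A₂
  n0 : Nat.card A₀ = 8 * j ^ 2 + 16 * j + 7
  n1 : Nat.card A₁ = 8 * j ^ 2 + 20 * j + 13
  n2 : Nat.card A₂ = 8 * j ^ 2 + 12 * j + 5
  N0 : Nat.card (Subgroup.normalizer (A₀ : Set G)) = 2 * Nat.card A₀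
  N1 : Nat.card (Subgroup.normalizer (A₁ : Set G)) = 4 * Nat.card A₁
  N2 : Nat.card (Subgroup.normalizer (A₂ : Set G)) = 4 * Nat.card A₂
  deg : charDegree (St : G → ℂ) = (8 * j ^ 2 + 16 * j + 8) ^ 2
  s0 : Cst A₀ St 1
  s1 : Cst A₁ St (-1)
  s2 : Cst A₂ St (-1)
  cls : 8 * j ^ 2 + 16 * j + 11 ≤ Nat.card (ConjClasses G)

/-- the irreducible characters of a Suzuki group -/
structure Tab (j : ℕ) (A₀ A₁ A₂ : Subgroup G) (St W₁ W₂ : IrrCharacter G) (X P₁ P₂ : Finset (IrrCharacter G)) : Prop where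
  sum : ∀ f : IrrCharacter G → ℂ, ∑ χ, f χ =
    f (H21.irrOne G) + f St + ∑ χ ∈ X, f χ + ∑ χ ∈ P₁, f χ + ∑ χ ∈ P₂, f χ + f W₁ + f W₂
  cover : ∀ χ, χ = H21.irrOne G ∨ χ = St ∨ χ ∈ X ∨ χ ∈ P₁ ∨ χ ∈ P₂ ∨ χ = W₁ ∨ χ = W₂
  cX : X.card = 4 * j ^ 2 + 8 * j + 3
  c1 : P₁.card = 2 * j ^ 2 + 5 * j + 3
  c2 : P₂.card = 2 * j ^ 2 + 3 * j + 1
  dX : ∀ χ ∈ X, charDegree (χ : G → ℂ) = (8 * j ^ 2 + 16 * j + 8) ^ 2 + 1
  d1 : ∀ χ ∈ P₁, charDegree (χ : G → ℂ) = (8 * j ^ 2 + 16 * j + 7) * (8 * j ^ 2 + 12 * j + 5)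
  d2 : ∀ χ ∈ P₂, charDegree (χ : G → ℂ) = (8 * j ^ 2 + 16 * j + 7) * (8 * j ^ 2 + 20 * j + 13)
  dW₁ : charDegree (W₁ : G → ℂ) = (8 * j ^ 2 + 16 * j + 7) * (2 * j + 2)
  dW₂ : charDegree (W₂ : G → ℂ) = (8 * j ^ 2 + 16 * j + 7) * (2 * j + 2)
  vX : ∀ χ ∈ X, ∀ g, Off A₀ g → (χ : G → ℂ) g = 1 + (St : G → ℂ) g
  v1 : ∀ χ ∈ P₁, ∀ g, Off A₁ g → (χ : G → ℂ) g = -1 + (St : G → ℂ) g - (W₁ : G → ℂ) g - (W₂ : G → ℂ) g
  v2 : ∀ χ ∈ P₂, ∀ χ' ∈ P₂, ∀ g, Off A₂ g → (χ : G → ℂ) g = (χ' : G → ℂ) g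
  z10 : ∀ χ ∈ P₁, Cst A₀ χ 0
  z12 : ∀ χ ∈ P₁, Cst A₂ χ 0
  z20 : ∀ χ ∈ P₂, Cst A₀ χ 0
  z21 : ∀ χ ∈ P₂, Cst A₁ χ 0
  w10 : Cst A₀ W₁ 0
  w20 : Cst A₀ W₂ 0
  w11 : Cst A₁ W₁ 1
  w21 : Cst A₁ W₂ 1

namespace SzD
variable {j : ℕ} {A₀ A₁ A₂ : Subgroup G} {St : IrrCharacter G} (D : SzD j A₀ A₁ A₂ St)
include D

theorem off01 {g : G} (hg : g ∈ A₁) (g1 : g ≠ 1) : Off A₀ g :=
  off_of_card D.c0 (by rw [D.c1.cent g hg g1, D.n0, D.n1]; omega)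
theorem off02 {g : G} (hg : g ∈ A₂) (g1 : g ≠ 1) : Off A₀ g :=
  off_of_card D.c0 (by rw [D.c2.cent g hg g1, D.n0, D.n2]; omega)
theorem off10 {g : G} (hg : g ∈ A₀) (g1 : g ≠ 1) : Off A₁ g :=
  off_of_card D.c1 (by rw [D.c0.cent g hg g1, D.n0, D.n1]; omega)
theorem off12 {g : G} (hg : g ∈ A₂) (g1 : g ≠ 1) : Off A₁ g :=
  off_of_card D.c1 (by rw [D.c2.cent g hg g1, D.n1, D.n2]; omega)

theorem St_ne : St ≠ H21.irrOne G := fun e => by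
  have := D.deg
  rw [e, deg_one] at this
  rcases Nat.pow_eq_one.1 this.symm with h | h <;> omega

theorem exists_X : ∃ X : Finset (IrrCharacter G), X.card = 4 * j ^ 2 + 8 * j + 3 ∧ H21.irrOne G ∉ X ∧ St ∉ X ∧
    (∀ χ, χ ∉ X → χ ≠ H21.irrOne G → χ ≠ St → χ ∉ nv A₀) ∧
    (∀ χ ∈ X, charDegree (χ : G → ℂ) = (8 * j ^ 2 + 16 * j + 8) ^ 2 + 1) ∧
    ∀ χ ∈ X, ∀ g, Off A₀ g → (χ : G → ℂ) g = 1 + (St : G → ℂ) g := by
  have key : ∀ Y : Finset (IrrCharacter G), (∀ η ∈ Y, ∀ c, ¬ Cst A₀ η c) → {H21.irrOne G, St} ⊆ nv A₀ \ Y :=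
    fun Y hY => Finset.insert_subset (Finset.mem_sdiff.2 ⟨(cst_one A₀).mem_nv D.c0 one_ne_zero, fun h => hY _ h _ (cst_one A₀)⟩)
      (Finset.singleton_subset_iff.2 (Finset.mem_sdiff.2 ⟨D.s0.mem_nv D.c0 one_ne_zero, fun h => hY _ h _ D.s0⟩))
  obtain ⟨X, δ, a, cX, hδ, -, h5, h6, h7, h8⟩ := full D.c0 (t := 4 * j ^ 2 + 8 * j + 3) D.N0 (by rw [D.n0]; ring) (by omega)
    fun Y _ hY => Finset.card_pair D.St_ne.symm ▸ Finset.card_le_card (key Y hY)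
  have e : nv A₀ \ X = {H21.irrOne G, St} :=
    (Finset.eq_of_subset_of_card_le (key X h6) (by rw [h5, Finset.card_pair D.St_ne.symm])).symm
  rw [e] at h7 h8
  have a1 : (a (H21.irrOne G) : ℂ) = 1 := Cst.eq D.c0 (h7 _ (by simp)).2 (cst_one A₀)
  have a2 : (a St : ℂ) = 1 := Cst.eq D.c0 (h7 _ (by simp)).2 D.s0
  simp only [Finset.sum_pair D.St_ne.symm, a1, a2, one_mul, H21.irrOne_apply] at h8
  obtain ⟨η, hη⟩ := Finset.card_pos.1 (by omega : 0 < X.card)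
  obtain rfl : δ = 1 := hδ.resolve_right fun e => by
    have := h8 η hη 1 (off_one _)
    rw [app_one, app_one, e] at this
    have h : (-1 : ℤ) * charDegree (η : G → ℂ) = 1 + charDegree (St : G → ℂ) := by exact_mod_cast this
    omega
  simp only [Int.cast_one, one_mul] at h8
  refine ⟨X, cX, fun h => h6 _ h _ (cst_one A₀), fun h => h6 _ h _ D.s0, fun χ h1 h2 h3 h4 => ?_, fun χ hχ => ?_, h8⟩
  · have := e ▸ Finset.mem_sdiff.2 ⟨h4, h1⟩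
    simp only [Finset.mem_insert, Finset.mem_singleton] at this
    exact this.elim h2 h3
  · have := h8 χ hχ 1 (off_one _)
    rw [app_one, app_one, D.deg, add_comm] at this
    exact_mod_cast this

theorem cop01 : (8 * j ^ 2 + 16 * j + 7).Coprime (8 * j ^ 2 + 20 * j + 13) := by
  have h := D.c0.coprime
  have h1 := A₀.card_mul_index
  rw [D.card, D.n0, mul_comm] at h1
  rw [D.n0, Nat.eq_of_mul_eq_mul_right (by omega) h1] at h
  exact h.coprime_dvd_right ⟨(8 * j ^ 2 + 16 * j + 8) ^ 2 * (8 * j ^ 2 + 12 * j + 5), by ring⟩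

theorem cop02 : (8 * j ^ 2 + 16 * j + 7).Coprime (8 * j ^ 2 + 12 * j + 5) := by
  have h := D.c0.coprime
  have h1 := A₀.card_mul_index
  rw [D.card, D.n0, mul_comm] at h1
  rw [D.n0, Nat.eq_of_mul_eq_mul_right (by omega) h1] at h
  exact h.coprime_dvd_right ⟨(8 * j ^ 2 + 16 * j + 8) ^ 2 * (8 * j ^ 2 + 20 * j + 13), by ring⟩

theorem cop12 : (8 * j ^ 2 + 20 * j + 13).Coprime (8 * j ^ 2 + 12 * j + 5) := by
  have h := D.c1.coprime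
  have h1 := A₁.card_mul_index
  rw [D.card, D.n1, show (8 * j ^ 2 + 16 * j + 8) ^ 2 * ((8 * j ^ 2 + 16 * j + 8) ^ 2 + 1) * (8 * j ^ 2 + 16 * j + 7) =
    (8 * j ^ 2 + 20 * j + 13) * ((8 * j ^ 2 + 12 * j + 5) * ((8 * j ^ 2 + 16 * j + 8) ^ 2 * (8 * j ^ 2 + 16 * j + 7))) by ring] at h1
  rw [D.n1, Nat.eq_of_mul_eq_mul_left (by omega) h1] at h
  exact h.coprime_dvd_right (dvd_mul_right _ _)

end SzD

theorem sum_sq_of {ι : Type*} {P : Finset ι} {f : ι → ℕ} {c : ℕ} (h : ∀ i ∈ P, c ∣ f i ∧ 0 < f i) :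
    ∃ S, ∑ i ∈ P, f i ^ 2 = c ^ 2 * S ∧ P.card ≤ S ∧ (S ≤ P.card → ∀ i ∈ P, f i = c) := by
  choose! u hu using fun i hi => (h i hi).1
  have h1 : ∀ i ∈ P, 1 ≤ u i ^ 2 := fun i hi =>
    Nat.one_le_iff_ne_zero.2 (pow_ne_zero _ fun e => by have := (h i hi).2; rw [hu i hi, e] at this; simp at this)
  refine ⟨∑ i ∈ P, u i ^ 2, by rw [Finset.mul_sum]; exact Finset.sum_congr rfl fun i hi => by rw [hu i hi]; ring,
    by rw [Finset.card_eq_sum_ones]; exact Finset.sum_le_sum h1, fun h2 i hi => ?_⟩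
  rw [Finset.card_eq_sum_ones] at h2
  have := (Finset.sum_eq_sum_iff_of_le h1).1 (le_antisymm (Finset.sum_le_sum h1) h2) i hi
  rw [hu i hi, pow_eq_one_iff_of_ne_zero' this.symm, mul_one]
where
  pow_eq_one_iff_of_ne_zero' {x : ℕ} (h : x ^ 2 = 1) : x = 1 := by nlinarith

theorem ar_S {j S₁ S₂ S₃ : ℕ} (h1 : 2 * j ^ 2 + 5 * j + 3 ≤ S₁) (h2 : 2 * j ^ 2 + 3 * j + 1 ≤ S₂)
    (h : (8 * j ^ 2 + 12 * j + 5) ^ 2 * S₁ + (8 * j ^ 2 + 20 * j + 13) ^ 2 * S₂ + S₃ =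
      (8 * j ^ 2 + 12 * j + 5) ^ 2 * (2 * j ^ 2 + 5 * j + 3) + (8 * j ^ 2 + 20 * j + 13) ^ 2 * (2 * j ^ 2 + 3 * j + 1) +
        (8 * j ^ 2 + 16 * j + 8)) :
    S₁ = 2 * j ^ 2 + 5 * j + 3 ∧ S₂ = 2 * j ^ 2 + 3 * j + 1 ∧ S₃ = 8 * j ^ 2 + 16 * j + 8 := by
  obtain ⟨a, rfl⟩ := Nat.exists_eq_add_of_le h1
  obtain ⟨b, rfl⟩ := Nat.exists_eq_add_of_le h2
  have h3 : (8 * j ^ 2 + 12 * j + 5) ^ 2 * a + (8 * j ^ 2 + 20 * j + 13) ^ 2 * b + S₃ = 8 * j ^ 2 + 16 * j + 8 := by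
    rw [mul_add _ _ a, mul_add _ _ b] at h; omega
  have h4 : 8 * j ^ 2 + 16 * j + 8 < (8 * j ^ 2 + 12 * j + 5) ^ 2 := by nlinarith
  have h5 : 8 * j ^ 2 + 16 * j + 8 < (8 * j ^ 2 + 20 * j + 13) ^ 2 := by nlinarith
  obtain rfl : a = 0 := by
    by_contra ha
    have := Nat.le_mul_of_pos_right ((8 * j ^ 2 + 12 * j + 5) ^ 2) (Nat.pos_of_ne_zero ha)
    omega
  obtain rfl : b = 0 := by
    by_contra ha
    have := Nat.le_mul_of_pos_right ((8 * j ^ 2 + 20 * j + 13) ^ 2) (Nat.pos_of_ne_zero ha)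
    omega
  omega

theorem ar_W {j u v : ℕ} {δ a b : ℤ} (hδ : δ = 1 ∨ δ = -1) (ha : a = 1 ∨ a = -1) (hb : b = 1 ∨ b = -1)
    (h1 : u ^ 2 + v ^ 2 = 8 * j ^ 2 + 16 * j + 8)
    (h2 : δ * (8 * j ^ 2 + 12 * j + 5) = -(8 * j ^ 2 + 16 * j + 9) + a * u + b * v) :
    δ = -1 ∧ a = 1 ∧ b = 1 ∧ u = 2 * j + 2 ∧ v = 2 * j + 2 := by
  have h3 : (a * u) ^ 2 + (b * v) ^ 2 = 8 * j ^ 2 + 16 * j + 8 := by
    have : ((u : ℤ) ^ 2 + v ^ 2) = 8 * j ^ 2 + 16 * j + 8 := by exact_mod_cast h1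
    rcases ha with rfl | rfl <;> rcases hb with rfl | rfl <;> linarith
  generalize hx : a * u = x at h2 h3
  generalize hy : b * v = y at h2 h3
  have j0 : (0 : ℤ) ≤ j := by positivity
  rcases hδ with rfl | rfl
  · exfalso
    have : x + y = 16 * j ^ 2 + 28 * j + 14 := by linarith
    nlinarith [sq_nonneg (x - y), sq_nonneg (j : ℤ), mul_nonneg j0 (sq_nonneg (j : ℤ)), sq_nonneg ((j : ℤ) ^ 2)]
  · have h4 : y = 4 * j + 4 - x := by linarith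
    have h5 : (x - (2 * j + 2)) ^ 2 = 0 := by rw [h4] at h3; linarith
    have h6 : x = 2 * j + 2 := by linarith [pow_eq_zero_iff two_ne_zero |>.1 h5]
    rcases ha with rfl | rfl <;> rcases hb with rfl | rfl <;> omega

theorem ar_big (j : ℕ) : ¬ ((8 * j ^ 2 + 20 * j + 13) * (8 * j ^ 2 + 12 * j + 5)) ^ 2 ≤
    (8 * j ^ 2 + 12 * j + 5) ^ 2 * (2 * j ^ 2 + 5 * j + 3) + (8 * j ^ 2 + 20 * j + 13) ^ 2 * (2 * j ^ 2 + 3 * j + 1) +
      (8 * j ^ 2 + 16 * j + 8) := fun h => by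
  ring_nf at h
  omega

theorem ar_lt {j u v : ℕ} (h : u ^ 2 + v ^ 2 = 8 * j ^ 2 + 16 * j + 8) : u < 8 * j ^ 2 + 12 * j + 5 := by
  by_contra hc
  have := Nat.pow_le_pow_left (not_lt.1 hc) 2
  nlinarith

set_option maxHeartbeats 1000000 in
theorem SzD.exists_tab {j : ℕ} {A₀ A₁ A₂ : Subgroup G} {St : IrrCharacter G} (D : SzD j A₀ A₁ A₂ St) :
    ∃ W₁ W₂ X P₁ P₂, Tab j A₀ A₁ A₂ St W₁ W₂ X P₁ P₂ := by
  obtain ⟨X, cX, x1, x2, x3, dX, vX⟩ := D.exists_X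
  have hne := D.St_ne
  set K : Finset (IrrCharacter G) := insert (H21.irrOne G) (insert St X) with hK
  have k1 : H21.irrOne G ∉ insert St X := by simp [x1, hne.symm]
  have sK : ∀ {β : Type} [AddCommMonoid β] (f : IrrCharacter G → β),
      ∑ χ ∈ K, f χ = f (H21.irrOne G) + f St + ∑ χ ∈ X, f χ := fun f => by
    rw [Finset.sum_insert k1, Finset.sum_insert x2, add_assoc]
  have mK : ∀ χ, χ ∈ Kᶜ ↔ χ ≠ H21.irrOne G ∧ χ ≠ St ∧ χ ∉ X := fun χ => by simp [hK]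
  have r0 : ∀ χ ∈ Kᶜ, χ ∉ nv A₀ := fun χ h => x3 χ ((mK χ).1 h).2.2 ((mK χ).1 h).1 ((mK χ).1 h).2.1
  have cR : 4 * j ^ 2 + 8 * j + 6 ≤ Kᶜ.card := by
    have := D.cls
    rw [Finset.card_compl, Finset.card_insert_of_notMem k1, Finset.card_insert_of_notMem x2, cX,
      ← Nat.card_eq_fintype_card, card_irr_eq_card_conjClasses]
    omega
  have sq : ∑ χ ∈ Kᶜ, charDegree (χ : G → ℂ) ^ 2 = (8 * j ^ 2 + 16 * j + 7) ^ 2 *
      ((8 * j ^ 2 + 12 * j + 5) ^ 2 * (2 * j ^ 2 + 5 * j + 3) + (8 * j ^ 2 + 20 * j + 13) ^ 2 * (2 * j ^ 2 + 3 * j + 1) +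
        (8 * j ^ 2 + 16 * j + 8)) := by
    have := sum_charDegree_sq (G := G)
    rw [← Finset.sum_add_sum_compl K, sK, deg_one, D.deg, D.card,
      Finset.sum_congr rfl fun χ hχ => by rw [dX χ hχ], Finset.sum_const, cX, smul_eq_mul] at this
    refine Nat.add_left_cancel (this.trans ?_)
    ring
  have d0 : ∀ χ ∈ Kᶜ, (8 * j ^ 2 + 16 * j + 7) ∣ charDegree (χ : G → ℂ) := fun χ h => D.n0 ▸ dvd_of_vanish (r0 χ h)
  have pos : ∀ χ : IrrCharacter G, 0 < charDegree (χ : G → ℂ) := fun χ => χ.2.charDegree_pos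
  set P₁ := Kᶜ.filter fun χ => χ ∉ nv A₂ with hP₁
  set P₂ := Kᶜ.filter fun χ => χ ∉ nv A₁ with hP₂
  set W := Kᶜ.filter fun χ => χ ∈ nv A₁ ∧ χ ∈ nv A₂ with hW
  have nb : ∀ χ ∈ Kᶜ, χ ∈ nv A₁ ∨ χ ∈ nv A₂ := fun χ h => by
    by_contra! hc
    have h1 := Nat.le_of_dvd (pos χ) ((D.cop01.mul_right D.cop02).mul_dvd_of_dvd_of_dvd (d0 χ h)
      (D.cop12.mul_dvd_of_dvd_of_dvd (D.n1 ▸ dvd_of_vanish hc.1) (D.n2 ▸ dvd_of_vanish hc.2)))
    have h2 := Finset.single_le_sum (f := fun χ : IrrCharacter G => charDegree (χ : G → ℂ) ^ 2)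
      (fun _ _ => Nat.zero_le _) h
    rw [sq] at h2
    have h3 := (Nat.pow_le_pow_left h1 2).trans h2
    rw [mul_pow] at h3
    exact ar_big j (Nat.le_of_mul_le_mul_left h3 (by positivity))
  have sR : ∀ {β : Type} [AddCommMonoid β] (f : IrrCharacter G → β),
      ∑ χ ∈ Kᶜ, f χ = ∑ χ ∈ P₁, f χ + ∑ χ ∈ P₂, f χ + ∑ χ ∈ W, f χ := fun f => by
    simp only [hP₁, hP₂, hW, Finset.sum_filter, ← Finset.sum_add_distrib]
    refine Finset.sum_congr rfl fun χ h => ?_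
    by_cases h1 : χ ∈ nv A₁ <;> by_cases h2 : χ ∈ nv A₂ <;> simp [h1, h2]
    exact absurd (nb χ h) (by simp [h1, h2])
  have cS : Kᶜ.card = P₁.card + P₂.card + W.card := by simpa using sR fun _ => (1 : ℕ)
  have bd : ∀ {A : Subgroup G} {t : ℕ}, AbCC A → Cst A St (-1) → (nv A).card ≤ t + 4 →
      (Kᶜ.filter fun χ => χ ∈ nv A).card ≤ t + 2 := fun {A t} hA hs hc => by
    have := Finset.card_le_card (show insert (H21.irrOne G) (insert St (Kᶜ.filter fun χ => χ ∈ nv A)) ⊆ nv A from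
      Finset.insert_subset ((cst_one A).mem_nv hA one_ne_zero)
        (Finset.insert_subset (hs.mem_nv hA (by simp)) fun χ h => (Finset.mem_filter.1 h).2))
    rw [Finset.card_insert_of_notMem (by simp [hne.symm, mK]), Finset.card_insert_of_notMem (by simp [mK])] at this
    omega
  have b1 := bd D.c1 D.s1 (card_nv_le D.c1 (t := 2 * j ^ 2 + 5 * j + 3) D.N1 (by rw [D.n1]; ring) (by omega))
  have b2 := bd D.c2 D.s2 (card_nv_le D.c2 (t := 2 * j ^ 2 + 3 * j + 1) D.N2 (by rw [D.n2]; ring) (by omega))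
  have e1 := Finset.card_filter_add_card_filter_not (s := Kᶜ) fun χ => χ ∈ nv A₁
  have e2 := Finset.card_filter_add_card_filter_not (s := Kᶜ) fun χ => χ ∈ nv A₂
  rw [← hP₂] at e1
  rw [← hP₁] at e2
  obtain ⟨S₁, f1, g1, i1⟩ := sum_sq_of (P := P₁) (f := fun χ : IrrCharacter G => charDegree (χ : G → ℂ))
    (c := (8 * j ^ 2 + 16 * j + 7) * (8 * j ^ 2 + 12 * j + 5)) fun χ h =>
    ⟨D.cop02.mul_dvd_of_dvd_of_dvd (d0 χ (Finset.mem_filter.1 h).1) (D.n2 ▸ dvd_of_vanish (Finset.mem_filter.1 h).2), pos χ⟩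
  obtain ⟨S₂, f2, g2, i2⟩ := sum_sq_of (P := P₂) (f := fun χ : IrrCharacter G => charDegree (χ : G → ℂ))
    (c := (8 * j ^ 2 + 16 * j + 7) * (8 * j ^ 2 + 20 * j + 13)) fun χ h =>
    ⟨D.cop01.mul_dvd_of_dvd_of_dvd (d0 χ (Finset.mem_filter.1 h).1) (D.n1 ▸ dvd_of_vanish (Finset.mem_filter.1 h).2), pos χ⟩
  obtain ⟨S₃, f3, -, -⟩ := sum_sq_of (P := W) (f := fun χ : IrrCharacter G => charDegree (χ : G → ℂ))
    (c := 8 * j ^ 2 + 16 * j + 7) fun χ h => ⟨d0 χ (Finset.mem_filter.1 h).1, pos χ⟩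
  rw [sR, f1, f2, f3, mul_pow, mul_pow, mul_assoc, mul_assoc, ← mul_add, ← mul_add] at sq
  obtain ⟨rfl, rfl, rfl⟩ := ar_S (by omega) (by omega) (Nat.eq_of_mul_eq_mul_left (by positivity) sq)
  have c1 : P₁.card = 2 * j ^ 2 + 5 * j + 3 := by omega
  have c2 : P₂.card = 2 * j ^ 2 + 3 * j + 1 := by omega
  have d1 := i1 c1.ge
  have d2 := i2 c2.ge
  obtain ⟨W₁, W₂, hw, eW⟩ := Finset.card_eq_two.1 (by omega : W.card = 2)
  have w1 : W₁ ∈ W := by simp [eW]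
  have w2 : W₂ ∈ W := by simp [eW]
  obtain ⟨u, hu⟩ := d0 _ (Finset.mem_filter.1 w1).1
  obtain ⟨v, hv⟩ := d0 _ (Finset.mem_filter.1 w2).1
  rw [eW, Finset.sum_pair hw, hu, hv, mul_pow, mul_pow, ← mul_add] at f3
  have f4 := Nat.eq_of_mul_eq_mul_left (by positivity) f3
  have hu' := ar_lt f4
  have hv' := ar_lt (add_comm (u ^ 2) _ ▸ f4)
  have m1 := (mK _).1 (Finset.mem_filter.1 w1).1
  have m2 := (mK _).1 (Finset.mem_filter.1 w2).1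
  have n1 : H21.irrOne G ∉ ({St, W₁, W₂} : Finset _) := by simp [hne.symm, m1.1.symm, m2.1.symm]
  have n2 : St ∉ ({W₁, W₂} : Finset _) := by simp [m1.2.1.symm, m2.2.1.symm]
  have mW : ∀ χ, χ ∈ W ↔ χ = W₁ ∨ χ = W₂ := fun χ => by simp [eW]
  have idn : ∀ {A B : Subgroup G}, AbCC A → Cst A St (-1) → (∀ y ∈ A, y ≠ 1 → Off A₀ y) →
      (∀ χ ∈ Kᶜ, χ ∈ nv A ∨ χ ∈ nv B) → (∀ χ, χ ∈ Kᶜ ∧ χ ∈ nv A ∧ χ ∈ nv B ↔ χ = W₁ ∨ χ = W₂) →
      nv A = {H21.irrOne G, St, W₁, W₂} ∪ Kᶜ.filter (fun χ => χ ∉ nv B) ∧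
        Disjoint {H21.irrOne G, St, W₁, W₂} (Kᶜ.filter fun χ => χ ∉ nv B) := fun {A B} hA hs ho hb hw => by
    refine ⟨Finset.ext fun χ => ?_, Finset.disjoint_left.2 fun χ h1 h2 => ?_⟩
    · simp only [Finset.mem_union, Finset.mem_insert, Finset.mem_singleton, Finset.mem_filter, ← hw]
      refine ⟨fun h => ?_, ?_⟩
      · have : χ ∉ X := fun hx => not_mem_nv.2 (fun y hy y1 => by rw [vX χ hx y (ho y hy y1), hs y hy y1]; simp) h
        by_cases h1 : χ = H21.irrOne G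
        · exact .inl (.inl h1)
        by_cases h2 : χ = St
        · exact .inl (.inr (.inl h2))
        by_cases h3 : χ ∈ nv B
        · exact .inl (.inr (.inr ⟨(mK χ).2 ⟨h1, h2, this⟩, h, h3⟩))
        · exact .inr ⟨(mK χ).2 ⟨h1, h2, this⟩, h3⟩
      · rintro ((rfl | rfl | h) | h)
        exacts [(cst_one A).mem_nv hA one_ne_zero, hs.mem_nv hA (by simp), h.2.1, (hb χ h.1).resolve_right h.2]
    · simp only [Finset.mem_insert, Finset.mem_singleton, Finset.mem_filter, ← hw] at h1 h2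
      rcases h1 with h | h | h
      exacts [((mK χ).1 h2.1).1 h, ((mK χ).1 h2.1).2.1 h, h2.2 h.2.2]
  obtain ⟨y1, y2⟩ := idn D.c1 D.s1 (fun y => D.off01) nb fun χ => by rw [← mW, hW, Finset.mem_filter]
  obtain ⟨δ, a₁, a₂, hδ, ha₁, ha₂, s1, s2, rel⟩ := ident D.c1 D.N1 (by rw [D.n1]; ring) (by omega) D.s1 y1 c1 y2 n1 n2 hw
    fun η hη => by
      rw [d1 η hη, hu, hv]
      exact ⟨fun e => hu'.ne' (Nat.eq_of_mul_eq_mul_left (by positivity) e),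
        fun e => hv'.ne' (Nat.eq_of_mul_eq_mul_left (by positivity) e)⟩
  obtain ⟨η, hη⟩ := Finset.card_pos.1 (by omega : 0 < P₁.card)
  obtain ⟨rfl, rfl, rfl, rfl, rfl⟩ := ar_W hδ ha₁ ha₂ f4 (by
    have := rel η hη 1 (off_one _)
    rw [app_one, app_one, app_one, app_one, d1 η hη, hu, hv, D.deg] at this
    have h : δ * ((8 * j ^ 2 + 16 * j + 7) * (8 * j ^ 2 + 12 * j + 5) : ℕ) = 1 - ((8 * j ^ 2 + 16 * j + 8) ^ 2 : ℕ) +
      a₁ * ((8 * j ^ 2 + 16 * j + 7) * u : ℕ) + a₂ * ((8 * j ^ 2 + 16 * j + 7) * v : ℕ) := by exact_mod_cast this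
    push_cast at h
    apply mul_left_cancel₀ (show (8 * j ^ 2 + 16 * j + 7 : ℤ) ≠ 0 by positivity)
    linear_combination h)
  refine ⟨W₁, W₂, X, P₁, P₂, fun f => ?_, fun χ => ?_, cX, c1, c2, dX, d1, d2, hu, hv, vX, fun χ hχ g hg => ?_, ?_,
    fun χ h => not_mem_nv.1 (r0 χ (Finset.mem_filter.1 h).1), fun χ h => not_mem_nv.1 (Finset.mem_filter.1 h).2,
    fun χ h => not_mem_nv.1 (r0 χ (Finset.mem_filter.1 h).1), fun χ h => not_mem_nv.1 (Finset.mem_filter.1 h).2,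
    not_mem_nv.1 (r0 _ (Finset.mem_filter.1 w1).1), not_mem_nv.1 (r0 _ (Finset.mem_filter.1 w2).1),
    by simpa using s1, by simpa using s2⟩
  · rw [← Finset.sum_add_sum_compl K, sK, sR, eW, Finset.sum_pair hw]
    ring
  · by_cases h : χ ∈ Kᶜ
    · by_cases h1 : χ ∈ nv A₁
      · by_cases h2 : χ ∈ nv A₂
        · exact .inr (.inr (.inr (.inr (.inr ((mW χ).1 (Finset.mem_filter.2 ⟨h, h1, h2⟩))))))
        · exact .inr (.inr (.inr (.inl (Finset.mem_filter.2 ⟨h, h2⟩))))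
      · exact .inr (.inr (.inr (.inr (.inl (Finset.mem_filter.2 ⟨h, h1⟩)))))
    · rcases Finset.mem_insert.1 (not_not.1 (mt Finset.mem_compl.2 h)) with h | h
      · exact .inl h
      · exact .inr ((Finset.mem_insert.1 h).imp_right .inl)
  · have := rel χ hχ g hg
    push_cast at this
    linear_combination -this
  · rcases Nat.eq_zero_or_pos j with rfl | j0
    · intro χ h χ' h' g _
      rw [Finset.card_le_one.1 c2.le χ h χ' h']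
    · obtain ⟨z1, z2⟩ := idn D.c2 D.s2 (fun y => D.off02) (fun χ h => (nb χ h).symm) fun χ => by
        rw [← mW, hW, Finset.mem_filter, and_comm (a := χ ∈ nv A₁)]
      obtain ⟨δ, a₁, a₂, hδ, -, -, -, -, rel⟩ := ident D.c2 D.N2 (by rw [D.n2]; ring) (by omega) D.s2 z1 c2 z2 n1 n2 hw
        fun η hη => by
          rw [d2 η hη, hu, hv]
          exact ⟨fun e => by have := Nat.eq_of_mul_eq_mul_left (by positivity) e; omega,
            fun e => by have := Nat.eq_of_mul_eq_mul_left (by positivity) e; omega⟩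
      intro χ h χ' h' g hg
      have := (rel χ h g hg).trans (rel χ' h' g hg).symm
      rcases hδ with rfl | rfl <;> simpa using this

end H20.CCX
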