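import Cfsg.Agent.H20.SzB
import Cfsg.Agent.H12.Sz9
import Cfsg.Agent.H05.RepEquiv
import Cfsg.Prelude.Def_DegreeGraph

/-! The Suzuki groups satisfy `H20.CCX.SzD` (`H20.CCX.exists_szD`); their character degrees (`mem_degrees`). -/

set_option autoImplicit false
set_option linter.unusedSectionVars false

open H05 H12.CC H12.Sz Classical
open scoped ComplexConjugate

namespace H20.CCX
open _root_.Cfsg hiding Sz

theorem card_of_mem_cls {Γ : Type*} [Group Γ] [Fintype Γ] {A : Subgroup Γ} (h : AbCC A) {g : Γ}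
    (hg : ConjClasses.mk g ∈ cls A) : Nat.card (Subgroup.centralizer ({g} : Set Γ)) = Nat.card A := by
  obtain ⟨y, hy, e⟩ := Finset.mem_image.1 hg
  obtain ⟨h1, h2⟩ := (Finset.mem_filter.1 hy).2
  rw [← card_centralizer_eq_of_isConj (ConjClasses.mk_eq_mk_iff_isConj.1 e), h.cent y h1 h2]

theorem cls_disj {Γ : Type*} [Group Γ] [Fintype Γ] {A B : Subgroup Γ} (h : AbCC A) (h' : AbCC B)
    (hne : Nat.card A ≠ Nat.card B) : Disjoint (cls A) (cls B) := Finset.disjoint_left.2 fun c h1 h2 => by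
  obtain ⟨g, rfl⟩ := ConjClasses.exists_rep c
  exact hne ((card_of_mem_cls h h1).symm.trans (card_of_mem_cls h' h2))

variable {F : Type*} [Field F] [Fintype F] {m : ℕ} [hS : SzF F m]

noncomputable instance instFintypeG : Fintype (G F m) := Fintype.ofFinite _

instance : Nontrivial (Ov F m) := ⟨⟨inf, pt 0 0, inf_ne_pt 0 0⟩⟩

variable (F m) in
/-- the Steinberg character -/
noncomputable def st : IrrCharacter (G F m) :=
  ⟨fun g => (Nat.card (MulAction.fixedBy (Ov F m) g) : ℂ) - 1, (isIrr_perm_sub_one_iff _).2 two_trans⟩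

theorem st_apply (g : G F m) : (st F m : G F m → ℂ) g = ((MulAction.fixedBy (Ov F m) g).ncard : ℂ) - 1 := rfl

theorem st_fpf {g : G F m} (h : FPF g) : (st F m : G F m → ℂ) g = -1 := by
  rw [st_apply, Set.eq_empty_of_forall_notMem (s := MulAction.fixedBy _ g) h]; simp

theorem st_U {g : G F m} (h : g ∈ U F m) (g1 : g ≠ 1) : (st F m : G F m → ℂ) g = 0 := by
  rw [st_apply, show MulAction.fixedBy (Ov F m) g = {inf} from
    Set.eq_singleton_iff_unique_mem.2 ⟨mem_B.1 (U_le_B h), fun p hp => fix_U h g1 hp⟩]; simp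

theorem st_H : Cst (H F m) (st F m) 1 := by
  intro y hy y1
  obtain ⟨k, rfl⟩ := mem_H.1 hy
  rw [st_apply, show MulAction.fixedBy (Ov F m) (hh k : G F m) = {inf, pt 0 0} from
    Set.ext fun p => ⟨fun hp => fix_hh (fun e => y1 (hh_eq_one.2 e)) hp, by
      rintro (rfl | rfl)
      exacts [(mem_H'.1 hy).1, (mem_H'.1 hy).2]⟩, Set.ncard_pair (inf_ne_pt 0 0)]
  norm_num

theorem st_deg : charDegree (st F m : G F m → ℂ) = Fintype.card F ^ 2 := charDegree_eq_of_apply_one (by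
  rw [st_apply, MulAction.fixedBy_one_eq_univ, Set.ncard_univ, card_ov]; simp)

theorem card_cent_invol : Nat.card (Subgroup.centralizer {(uu 0 1 : G F m)}) = Fintype.card F ^ 2 := by
  rw [centralizer_Z (uu_mem_Z 1) (by simp [uu_eq_one]), card_U]

theorem exists_szD : ∃ (j : ℕ) (A₁ A₂ : Subgroup (G F m)), 2 ^ m = 2 * j + 2 ∧ Fintype.card F = 8 * j ^ 2 + 16 * j + 8 ∧
    IsT A₁ ∧ IsT A₂ ∧ supp ⊤ A₁ ∪ supp ⊤ A₂ = {g | FPF g} ∧ SzD j (H F m) A₁ A₂ (st F m) := by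
  obtain ⟨j, hj⟩ : ∃ j, 2 ^ m = 2 * j + 2 := by
    obtain ⟨n, rfl⟩ := Nat.exists_eq_add_of_le' hS.hm
    exact ⟨2 ^ n - 1, by have := Nat.one_le_two_pow (n := n); omega⟩
  have hq : Fintype.card F = 8 * j ^ 2 + 16 * j + 8 := by
    rw [hS.hF, pow_succ, mul_comm 2 m, pow_mul, hj]; ring
  obtain ⟨A₁, A₂, t1, t2, c1, c2, -, hs⟩ := exists_tori (F := F)
  rw [pow_succ, hj, hq] at c1 c2
  have n0 : Nat.card (H F m) = 8 * j ^ 2 + 16 * j + 7 := by rw [card_H, hq]; rfl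
  have n1 : Nat.card A₁ = 8 * j ^ 2 + 20 * j + 13 := by omega
  have n2 : Nat.card A₂ = 8 * j ^ 2 + 12 * j + 5 := by omega
  have N0 : Nat.card (Subgroup.normalizer (H F m : Set (G F m))) = 2 * Nat.card (H F m) := by
    rw [card_normalizer_H, card_H]
  have cG : Nat.card (G F m) =
      (8 * j ^ 2 + 16 * j + 8) ^ 2 * ((8 * j ^ 2 + 16 * j + 8) ^ 2 + 1) * (8 * j ^ 2 + 16 * j + 7) := by
    rw [card_G, hq]; rfl
  refine ⟨j, A₁, A₂, hj, hq, t1, t2, hs, cG, abCC_H, t1.abCC, t2.abCC, n0, n1, n2, N0, t1.card_normalizer,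
    t2.card_normalizer, by rw [st_deg, hq], st_H, fun y hy y1 => st_fpf (t1.fpf hy y1),
    fun y hy y1 => st_fpf (t2.fpf hy y1), ?_⟩
  have := Fintype.ofFinite (ConjClasses (G F m))
  have l0 := le_card_cls abCC_H (t := 4 * j ^ 2 + 8 * j + 3) N0 (by rw [n0]; ring)
  have l1 := le_card_cls t1.abCC (t := 2 * j ^ 2 + 5 * j + 3) t1.card_normalizer (by rw [n1]; ring)
  have l2 := le_card_cls t2.abCC (t := 2 * j ^ 2 + 3 * j + 1) t2.card_normalizer (by rw [n2]; ring)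
  have k0 : Nat.card (Subgroup.centralizer {(1 : G F m)}) = Nat.card (G F m) := by
    rw [show Subgroup.centralizer {(1 : G F m)} = ⊤ from eq_top_iff.2 fun g _ =>
      Subgroup.mem_centralizer_singleton_iff.2 (by simp), Subgroup.card_top]
  have k1 := card_cent_invol (F := F)
  have k2 := card_cent_four (F := F) (a := 1) (b := 0) one_ne_zero
  have k3 := card_cent_four (F := F) (a := 1) (b := 0 + 1 * th 1) one_ne_zero
  have k4 := not_conj_inv (F := F) (a := 1) (b := 0) one_ne_zero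
  rw [uu_inv] at k4
  rw [hq] at k1 k2 k3
  have i1 : 2 * (8 * j ^ 2 + 16 * j + 8) < (8 * j ^ 2 + 16 * j + 8) ^ 2 := by nlinarith
  have i2 : (8 * j ^ 2 + 16 * j + 8) ^ 2 < Nat.card (G F m) := by
    rw [cG, mul_assoc]
    exact lt_mul_of_one_lt_right (by positivity) (by nlinarith [Nat.zero_le ((8 * j ^ 2 + 16 * j + 8) ^ 2)])
  have nm : ∀ g : G F m, 2 * (8 * j ^ 2 + 16 * j + 8) ≤ Nat.card (Subgroup.centralizer {g}) →
      ConjClasses.mk g ∉ cls (H F m) ∪ (cls A₁ ∪ cls A₂) := fun g hg h => by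
    rcases Finset.mem_union.1 h with h | h
    · have := card_of_mem_cls abCC_H h; omega
    rcases Finset.mem_union.1 h with h | h
    · have := card_of_mem_cls t1.abCC h; nlinarith
    · have := card_of_mem_cls t2.abCC h; omega
  have ne : ∀ g g' : G F m, Nat.card (Subgroup.centralizer {g}) ≠ Nat.card (Subgroup.centralizer {g'}) →
      ConjClasses.mk g ≠ ConjClasses.mk g' := fun g g' h e =>
    h (card_centralizer_eq_of_isConj (ConjClasses.mk_eq_mk_iff_isConj.1 e))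
  have := Finset.card_le_univ (insert (ConjClasses.mk (1 : G F m)) (insert (ConjClasses.mk (uu 0 1))
    (insert (ConjClasses.mk (uu 1 0)) (insert (ConjClasses.mk (uu 1 (0 + 1 * th 1))) (cls (H F m) ∪ (cls A₁ ∪ cls A₂))))))
  rw [Finset.card_insert_of_notMem, Finset.card_insert_of_notMem, Finset.card_insert_of_notMem,
    Finset.card_insert_of_notMem (nm _ k3.ge), Finset.card_union_of_disjoint (Finset.disjoint_union_right.2
      ⟨cls_disj abCC_H t1.abCC (by omega), cls_disj abCC_H t2.abCC (by omega)⟩),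
    Finset.card_union_of_disjoint (cls_disj t1.abCC t2.abCC (by omega)), ← Nat.card_eq_fintype_card] at this
  · omega
  · simp only [Finset.mem_insert, not_or]
    exact ⟨fun e => k4 (ConjClasses.mk_eq_mk_iff_isConj.1 e), nm _ k2.ge⟩
  · simp only [Finset.mem_insert, not_or]
    exact ⟨ne _ _ (by omega), ne _ _ (by omega), nm _ (by omega)⟩
  · simp only [Finset.mem_insert, not_or]
    exact ⟨ne _ _ (by omega), ne _ _ (by omega), ne _ _ (by omega), nm _ (by omega)⟩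

theorem mem_degrees {d : ℕ} : d ∈ charDegrees (G F m) ↔ d = 1 ∨ d = Fintype.card F ^ 2 ∨ d = Fintype.card F ^ 2 + 1 ∨
    d = (Fintype.card F - 1) * (Fintype.card F - 2 ^ (m + 1) + 1) ∨
    d = (Fintype.card F - 1) * (Fintype.card F + 2 ^ (m + 1) + 1) ∨ d = (Fintype.card F - 1) * 2 ^ m := by
  obtain ⟨j, A₁, A₂, hj, hq, -, -, -, D⟩ := exists_szD (F := F)
  obtain ⟨W₁, W₂, X, P₁, P₂, T⟩ := D.exists_tab
  rw [pow_succ 2 m, hj, hq, show 8 * j ^ 2 + 16 * j + 8 - 1 = 8 * j ^ 2 + 16 * j + 7 from rfl,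
    show 8 * j ^ 2 + 16 * j + 8 - (2 * j + 2) * 2 + 1 = 8 * j ^ 2 + 12 * j + 5 by omega,
    show 8 * j ^ 2 + 16 * j + 8 + (2 * j + 2) * 2 + 1 = 8 * j ^ 2 + 20 * j + 13 by omega]
  constructor
  · rintro ⟨χ, rfl⟩
    rcases T.cover χ with rfl | rfl | h | h | h | rfl | rfl
    exacts [.inl deg_one, .inr (.inl D.deg), .inr (.inr (.inl (T.dX _ h))), .inr (.inr (.inr (.inl (T.d1 _ h)))),
      .inr (.inr (.inr (.inr (.inl (T.d2 _ h))))), .inr (.inr (.inr (.inr (.inr T.dW₁)))),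
      .inr (.inr (.inr (.inr (.inr T.dW₂))))]
  · obtain ⟨a, ha⟩ := Finset.card_pos.1 (T.cX ▸ by omega : 0 < X.card)
    obtain ⟨b, hb⟩ := Finset.card_pos.1 (T.c1 ▸ by omega : 0 < P₁.card)
    obtain ⟨c, hc⟩ := Finset.card_pos.1 (T.c2 ▸ by omega : 0 < P₂.card)
    rintro (rfl | rfl | rfl | rfl | rfl | rfl)
    exacts [⟨_, deg_one⟩, ⟨_, D.deg⟩, ⟨_, T.dX _ ha⟩, ⟨_, T.d1 _ hb⟩, ⟨_, T.d2 _ hc⟩, ⟨_, T.dW₁⟩]

end H20.CCX
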