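import Cfsg.Agent.H20.SzB

/-! Character values of a group of Suzuki type at 2-elements (namespace `H20.CCX`): `Tw`, `Tw.val_σ`, `Tw.val_ρ`. -/

set_option autoImplicit false
set_option linter.unusedSectionVars false

open H05 H19 H12.CC Classical
open scoped ComplexConjugate

namespace H20.CCX
open _root_.Cfsg

variable {G : Type*} [Group G] [Fintype G]

theorem sum_sub (χ : IrrCharacter G) (Q : Subgroup G) : ∃ n : ℕ, ∑ y : Q, (χ : G → ℂ) y = Nat.card Q * n := by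
  obtain ⟨n, hn⟩ := (χ.2.isCharacter.restrict Q).exists_classInner_eq_nat isCharacter_one
  refine ⟨n, ?_⟩
  rw [← hn, card_mul_classInner]
  simp

theorem sum_pow (χ : IrrCharacter G) (g : G) :
    ∃ n : ℕ, ∑ i ∈ Finset.range (orderOf g), (χ : G → ℂ) (g ^ i) = orderOf g * n := by
  obtain ⟨n, hn⟩ := sum_sub χ (Subgroup.zpowers g)
  refine ⟨n, ?_⟩
  rw [← Nat.card_zpowers, ← hn, Nat.card_zpowers, ← Fin.sum_univ_eq_sum_range (fun i => (χ : G → ℂ) (g ^ i)),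
    ← (finEquivZPowers (isOfFinOrder_of_finite g)).sum_comp]
  rfl

/-- the complex conjugate character -/
def cc (χ : IrrCharacter G) : IrrCharacter G := ⟨fun g => conj ((χ : G → ℂ) g), χ.2.conj⟩

theorem deg_cc (χ : IrrCharacter G) : charDegree (cc χ : G → ℂ) = charDegree (χ : G → ℂ) :=
  charDegree_eq_of_apply_one (by change conj ((χ : G → ℂ) 1) = _; rw [app_one]; simp)

theorem app_conj (χ : IrrCharacter G) {a b : G} (h : IsConj a b) : (χ : G → ℂ) a = (χ : G → ℂ) b :=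
  isClassFunction_iff.1 χ.2.isClassFunction a b h

theorem real_of_conj (χ : IrrCharacter G) {a : G} (h : IsConj a a⁻¹) : conj ((χ : G → ℂ) a) = (χ : G → ℂ) a := by
  rw [← χ.2.apply_inv, ← app_conj χ h]

theorem sq_of_real {z : ℂ} (h : conj z = z) : z * z = (‖z‖ ^ 2 : ℝ) := by
  rw [← Complex.normSq_eq_norm_sq, ← Complex.mul_conj, h]

namespace Tab
variable {j : ℕ} {A₀ A₁ A₂ : Subgroup G} {St W₁ W₂ : IrrCharacter G} {X P₁ P₂ : Finset (IrrCharacter G)}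
  (D : SzD j A₀ A₁ A₂ St) (T : Tab j A₀ A₁ A₂ St W₁ W₂ X P₁ P₂)
include T

theorem norm (g : G) : 1 + ‖(St : G → ℂ) g‖ ^ 2 + ∑ χ ∈ X, ‖(χ : G → ℂ) g‖ ^ 2 + ∑ χ ∈ P₁, ‖(χ : G → ℂ) g‖ ^ 2 +
    ∑ χ ∈ P₂, ‖(χ : G → ℂ) g‖ ^ 2 + ‖(W₁ : G → ℂ) g‖ ^ 2 + ‖(W₂ : G → ℂ) g‖ ^ 2 =
      Nat.card (Subgroup.centralizer ({g} : Set G)) := by
  have := T.sum fun χ => ((‖(χ : G → ℂ) g‖ ^ 2 : ℝ) : ℂ)
  rw [← sum_norm]
  simp only [H21.irrOne_apply, norm_one, one_pow] at this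
  exact_mod_cast this.symm

include D

theorem mem1 {χ : IrrCharacter G} (h : charDegree (χ : G → ℂ) = (8 * j ^ 2 + 16 * j + 7) * (8 * j ^ 2 + 12 * j + 5)) :
    χ ∈ P₁ := by
  rcases T.cover χ with rfl | rfl | h' | h' | h' | rfl | rfl
  any_goals assumption
  all_goals first | rw [deg_one] at h | rw [D.deg] at h | rw [T.dW₁] at h | rw [T.dW₂] at h | rw [T.dX _ h'] at h | rw [T.d2 _ h'] at h
  all_goals ring_nf at h; omega

theorem mem2 {χ : IrrCharacter G} (h : charDegree (χ : G → ℂ) = (8 * j ^ 2 + 16 * j + 7) * (8 * j ^ 2 + 20 * j + 13)) :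
    χ ∈ P₂ := by
  rcases T.cover χ with rfl | rfl | h' | h' | h' | rfl | rfl
  any_goals assumption
  all_goals first | rw [deg_one] at h | rw [D.deg] at h | rw [T.dW₁] at h | rw [T.dW₂] at h | rw [T.dX _ h'] at h | rw [T.d1 _ h'] at h
  all_goals ring_nf at h; omega

theorem memW {χ : IrrCharacter G} (h : charDegree (χ : G → ℂ) = (8 * j ^ 2 + 16 * j + 7) * (2 * j + 2)) :
    χ = W₁ ∨ χ = W₂ := by
  rcases T.cover χ with rfl | rfl | h' | h' | h' | h'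
  any_goals assumption
  all_goals first | rw [deg_one] at h | rw [D.deg] at h | rw [T.dX _ h'] at h | rw [T.d1 _ h'] at h | rw [T.d2 _ h'] at h
  all_goals ring_nf at h; omega

end Tab

/-- the 2-elements -/
structure Tw (j : ℕ) (St : IrrCharacter G) (σ ρ : G) (Z : Subgroup G) : Prop where
  sq : ρ ^ 2 = σ
  four : ρ ^ 4 = 1
  ne : σ ≠ 1
  cσ : Nat.card (Subgroup.centralizer ({σ} : Set G)) = (8 * j ^ 2 + 16 * j + 8) ^ 2
  cρ : Nat.card (Subgroup.centralizer ({ρ} : Set G)) = 2 * (8 * j ^ 2 + 16 * j + 8)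
  nc : ¬ IsConj ρ ρ⁻¹
  sσ : (St : G → ℂ) σ = 0
  sρ : (St : G → ℂ) ρ = 0
  cZ : Nat.card Z = 8 * j ^ 2 + 16 * j + 8
  hZ : ∀ z ∈ Z, z ≠ 1 → IsConj σ z

theorem ar_σ {j : ℕ} {a b : ℤ} (h : (2 * j ^ 2 + 5 * j + 3) * (-1 - (-(2 * j + 2) + a * (8 * j ^ 2 + 16 * j + 8)) -
    (-(2 * j + 2) + b * (8 * j ^ 2 + 16 * j + 8))) ^ 2 + (-(2 * j + 2) + a * (8 * j ^ 2 + 16 * j + 8)) ^ 2 +
    (-(2 * j + 2) + b * (8 * j ^ 2 + 16 * j + 8)) ^ 2 < (8 * j ^ 2 + 16 * j + 8) ^ 2) : a = 0 ∧ b = 0 := by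
  have j0 : (0 : ℤ) ≤ j := by positivity
  have key : ∀ a : ℤ, (-(2 * j + 2) + a * (8 * j ^ 2 + 16 * j + 8)) ^ 2 < (8 * j ^ 2 + 16 * j + 8) ^ 2 → a = 0 ∨ a = 1 := by
    intro a ha
    obtain ⟨h1, h2⟩ := abs_lt.1 (abs_lt_of_sq_lt_sq ha (by positivity))
    have : a < 2 := by by_contra hc; nlinarith [sq_nonneg (j : ℤ)]
    have : -1 < a := by by_contra hc; nlinarith [sq_nonneg (j : ℤ)]
    omega
  have p := mul_nonneg (by positivity : (0 : ℤ) ≤ 2 * j ^ 2 + 5 * j + 3) (sq_nonneg (-1 - (-(2 * j + 2) +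
    a * (8 * j ^ 2 + 16 * j + 8)) - (-(2 * j + 2) + b * (8 * j ^ 2 + 16 * j + 8) : ℤ)))
  have p2 : (0 : ℤ) ≤ j ^ 2 := by positivity
  have p3 : (0 : ℤ) ≤ j ^ 3 := by positivity
  have p4 : (0 : ℤ) ≤ j ^ 4 := by positivity
  have p5 : (0 : ℤ) ≤ j ^ 5 := by positivity
  have p6 : (0 : ℤ) ≤ j ^ 6 := by positivity
  have ka := key a (by linarith [sq_nonneg (-(2 * j + 2) + b * (8 * j ^ 2 + 16 * j + 8) : ℤ)])
  have kb := key b (by linarith [sq_nonneg (-(2 * j + 2) + a * (8 * j ^ 2 + 16 * j + 8) : ℤ)])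
  rcases ka with rfl | rfl <;> rcases kb with rfl | rfl
  · exact ⟨rfl, rfl⟩
  all_goals exfalso; ring_nf at h; linarith

namespace Tw
variable {j : ℕ} {A₀ A₁ A₂ : Subgroup G} {St W₁ W₂ : IrrCharacter G} {X P₁ P₂ : Finset (IrrCharacter G)} {σ ρ : G}
  {Z : Subgroup G} (E : Tw j St σ ρ Z) (D : SzD j A₀ A₁ A₂ St) (T : Tab j A₀ A₁ A₂ St W₁ W₂ X P₁ P₂)
include E

theorem ord_σ : orderOf σ = 2 := orderOf_eq_prime (by rw [← E.sq, ← pow_mul]; exact E.four) E.ne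

theorem ord_ρ : orderOf ρ = 4 := orderOf_eq_prime_pow (p := 2) (n := 1) (E.sq ▸ E.ne) E.four

theorem cong (χ : IrrCharacter G) {s : ℕ} (h : charDegree (χ : G → ℂ) = (8 * j ^ 2 + 16 * j + 7) * s) :
    ∃ a : ℤ, (χ : G → ℂ) σ = (-s + a * (8 * j ^ 2 + 16 * j + 8) : ℤ) := by
  obtain ⟨n, hn⟩ := sum_pow χ σ
  obtain ⟨k, hk⟩ := sum_sub χ Z
  rw [E.ord_σ, Finset.sum_range_succ, Finset.sum_range_one, pow_zero, pow_one, app_one, h] at hn
  rw [← Finset.add_sum_erase _ _ (Finset.mem_univ 1), Finset.sum_congr rfl fun (y : Z) hy =>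
    (app_conj χ (E.hZ y y.2 fun e => (Finset.mem_erase.1 hy).1 (Subtype.ext e))).symm, Finset.sum_const,
    Finset.card_erase_of_mem (Finset.mem_univ _), Finset.card_univ, ← Nat.card_eq_fintype_card, E.cZ,
    Subgroup.coe_one, app_one, h, nsmul_eq_mul, show 8 * j ^ 2 + 16 * j + 8 - 1 = 8 * j ^ 2 + 16 * j + 7 from rfl] at hk
  refine ⟨s + (2 * n - (8 * j ^ 2 + 16 * j + 7) * s) - k, ?_⟩
  push_cast at hn hk ⊢
  linear_combination (8 * j ^ 2 + 16 * j + 8 : ℂ) * hn - hk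

include D

theorem off_σ : Off A₀ σ ∧ Off A₁ σ ∧ Off A₂ σ :=
  ⟨off_of_card D.c0 (by rw [E.cσ, D.n0]; ring_nf; omega), off_of_card D.c1 (by rw [E.cσ, D.n1]; ring_nf; omega),
    off_of_card D.c2 (by rw [E.cσ, D.n2]; ring_nf; omega)⟩

theorem off_ρ : Off A₀ ρ ∧ Off A₁ ρ ∧ Off A₂ ρ :=
  ⟨off_of_card D.c0 (by rw [E.cρ, D.n0]; omega), off_of_card D.c1 (by rw [E.cρ, D.n1]; omega),
    off_of_card D.c2 (by rw [E.cρ, D.n2]; omega)⟩

include T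

theorem val_σ : (W₁ : G → ℂ) σ = -(2 * j + 2) ∧ (W₂ : G → ℂ) σ = -(2 * j + 2) := by
  obtain ⟨a, ha⟩ := E.cong W₁ T.dW₁
  obtain ⟨b, hb⟩ := E.cong W₂ T.dW₂
  have h := T.norm σ
  rw [Finset.sum_congr (s₁ := P₁) rfl fun χ hχ => by
      rw [T.v1 χ hχ σ (E.off_σ D).2.1, E.sσ, ha, hb, add_zero, ← Int.cast_one, ← Int.cast_neg, ← Int.cast_sub, ← Int.cast_sub],
    ha, hb, E.cσ, Finset.sum_const, T.c1, nsmul_eq_mul] at h
  simp only [Complex.norm_intCast, sq_abs] at h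
  have p1 : 0 ≤ ∑ χ ∈ X, ‖(χ : G → ℂ) σ‖ ^ 2 := by positivity
  have p2 : 0 ≤ ∑ χ ∈ P₂, ‖(χ : G → ℂ) σ‖ ^ 2 := by positivity
  obtain ⟨rfl, rfl⟩ := ar_σ (j := j) (a := a) (b := b) (by
    rw [← Int.cast_lt (R := ℝ)]
    push_cast at h ⊢
    linarith [sq_nonneg ‖(St : G → ℂ) σ‖])
  rw [ha, hb]
  constructor <;> simp

theorem val_ρ : (∀ g, (W₂ : G → ℂ) g = conj ((W₁ : G → ℂ) g)) ∧ ((W₁ : G → ℂ) ρ).re = 0 ∧
    ‖(W₁ : G → ℂ) ρ‖ = 2 * j + 2 ∧ ∑ χ ∈ P₂, ‖(χ : G → ℂ) ρ‖ ^ 2 = 2 * j ^ 2 + 3 * j + 1 := by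
  obtain ⟨o0, o1, o2⟩ := E.off_ρ D
  obtain ⟨η, hη⟩ := Finset.card_pos.1 (T.c1 ▸ by omega : 0 < P₁.card)
  have r1 : conj ((W₁ : G → ℂ) ρ + (W₂ : G → ℂ) ρ) = (W₁ : G → ℂ) ρ + (W₂ : G → ℂ) ρ := by
    have h1 := T.v1 _ (T.mem1 D ((deg_cc η).trans (T.d1 η hη))) ρ o1
    change conj ((η : G → ℂ) ρ) = _ at h1
    rw [T.v1 η hη ρ o1, E.sρ] at h1
    simp only [map_sub, map_add, map_neg, map_one, map_zero] at h1 ⊢
    linear_combination -h1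
  have r2 : ∀ χ ∈ P₂, conj ((χ : G → ℂ) ρ) = (χ : G → ℂ) ρ := fun χ hχ =>
    T.v2 _ (T.mem2 D ((deg_cc χ).trans (T.d2 χ hχ))) χ hχ ρ o2
  have h1 := T.norm ρ
  have h2 := sum_irr_mul_conj_of_not_isConj E.nc
  have r3 : conj (-1 - ((W₁ : G → ℂ) ρ + (W₂ : G → ℂ) ρ)) = -1 - ((W₁ : G → ℂ) ρ + (W₂ : G → ℂ) ρ) := by
    rw [map_sub, r1]; simp
  simp only [fun χ : IrrCharacter G => χ.2.apply_inv ρ, Complex.conj_conj] at h2
  rw [T.sum, E.sρ, Finset.sum_congr (s₁ := X) rfl fun χ hχ => by rw [T.vX χ hχ ρ o0, E.sρ],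
    Finset.sum_congr (s₁ := P₁) rfl fun χ hχ => by rw [T.v1 χ hχ ρ o1, E.sρ, add_zero, sub_sub, sq_of_real r3],
    Finset.sum_congr (s₁ := P₂) rfl fun χ hχ => sq_of_real (r2 χ hχ), Finset.sum_const, Finset.sum_const, T.cX, T.c1,
    ← Complex.ofReal_sum] at h2
  rw [E.sρ, Finset.sum_congr (s₁ := X) rfl fun χ hχ => by rw [T.vX χ hχ ρ o0, E.sρ],
    Finset.sum_congr (s₁ := P₁) rfl fun χ hχ => by rw [T.v1 χ hχ ρ o1, E.sρ, add_zero, sub_sub],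
    Finset.sum_const, Finset.sum_const, T.cX, T.c1, E.cρ] at h1
  have p2 : 0 ≤ ∑ χ ∈ P₂, ‖(χ : G → ℂ) ρ‖ ^ 2 := by positivity
  generalize ∑ χ ∈ P₂, ‖(χ : G → ℂ) ρ‖ ^ 2 = z at *
  have h3 := congrArg Complex.re h2
  simp only [H21.irrOne_apply, nsmul_eq_mul, add_zero, mul_one, norm_zero, norm_one, Complex.add_re, Complex.ofReal_re,
    Complex.one_re, Complex.mul_re, Complex.natCast_re, Complex.natCast_im, Complex.zero_re, zero_mul, sub_zero,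
    ← Complex.normSq_eq_norm_sq, Complex.normSq_apply] at h1 h3
  have r4 := Complex.conj_eq_iff_im.1 r1
  rw [Complex.add_im] at r4
  have j0 : (0 : ℝ) ≤ j := by positivity
  have hW : cc W₁ = W₂ := (T.memW D ((deg_cc W₁).trans T.dW₁)).resolve_left fun e => by
    have h4 := Complex.conj_eq_iff_im.1 (congrFun (congrArg Subtype.val e) ρ)
    rw [h4, zero_add] at r4
    rw [h4, r4] at h1 h3
    push_cast at h1 h3
    nlinarith [sq_nonneg (j : ℝ)]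
  have hW' : ∀ g, (W₂ : G → ℂ) g = conj ((W₁ : G → ℂ) g) := fun g => by rw [← hW]; rfl
  obtain ⟨n, hn⟩ := sum_pow W₁ ρ
  rw [E.ord_ρ, Finset.sum_range_succ, Finset.sum_range_succ, Finset.sum_range_succ, Finset.sum_range_one, pow_zero,
    pow_one, app_one, T.dW₁, E.sq, (E.val_σ D T).1,
    show ρ ^ 3 = ρ⁻¹ from eq_inv_of_mul_eq_one_left (by rw [← pow_succ, E.four]), W₁.2.apply_inv] at hn
  have h5 := congrArg Complex.re hn
  simp only [hW', Complex.sub_re, Complex.sub_im, Complex.add_re, Complex.add_im, Complex.conj_re, Complex.conj_im,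
    Complex.neg_re, Complex.neg_im, Complex.one_re, Complex.one_im] at h1 h3
  have h6 : ((W₁ : G → ℂ) ρ).re = (2 * (n - (j + 1) * (4 * j ^ 2 + 8 * j + 3)) : ℤ) := by
    rw [← Complex.ofReal_natCast, ← Complex.ofReal_natCast, ← Complex.ofReal_natCast, ← Complex.ofReal_natCast] at h5
    simp only [Complex.add_re, Complex.conj_re, Complex.neg_re, Complex.mul_re, Complex.ofReal_re, Complex.ofReal_im,
      Complex.re_ofNat, Complex.im_ofNat] at h5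
    push_cast at h5 ⊢
    linarith
  generalize (n - (j + 1) * (4 * j ^ 2 + 8 * j + 3) : ℤ) = k at h6
  rw [h6] at h1 h3
  push_cast at h1 h3
  obtain rfl : k = 0 := by
    by_contra hk
    have h7 : (9 : ℝ) ≤ (-1 - 4 * k) ^ 2 := by
      have : (9 : ℤ) ≤ (-1 - 4 * k) ^ 2 := by rcases lt_or_gt_of_ne hk with h | h <;> nlinarith
      exact_mod_cast this
    have := mul_le_mul_of_nonneg_left h7 (by positivity : (0 : ℝ) ≤ 2 * j ^ 2 + 5 * j + 3)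
    nlinarith [sq_nonneg (j : ℝ), sq_nonneg (k : ℝ)]
  simp only [Int.cast_zero, mul_zero] at h1 h3 h6
  refine ⟨hW', h6, ?_, by linarith⟩
  rw [← sq_eq_sq₀ (norm_nonneg _) (by positivity), ← Complex.normSq_eq_norm_sq, Complex.normSq_apply, h6]
  linarith

end Tw

end H20.CCX
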