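import Cfsg.Agent.H20.SzD

/-! Class multiplication coefficients of a group of Suzuki type (namespace `H20.CCX`): `Tw.SS_ne`. -/

set_option autoImplicit false
set_option linter.unusedSectionVars false

open H05 H19 H12.CC Classical
open scoped ComplexConjugate

namespace H20.CCX
open _root_.Cfsg

variable {G : Type*} [Group G] [Fintype G]

/-- a term of the class multiplication formula -/
noncomputable def tm (x g : G) (χ : IrrCharacter G) : ℂ :=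
  (χ : G → ℂ) x * (χ : G → ℂ) x * conj ((χ : G → ℂ) g) / (χ : G → ℂ) 1

theorem norm_tm (x g : G) (χ : IrrCharacter G) :
    ‖tm x g χ‖ = ‖(χ : G → ℂ) x‖ ^ 2 * ‖(χ : G → ℂ) g‖ / charDegree (χ : G → ℂ) := by
  simp [tm, app_one, sq]

theorem tm_one (x g : G) : tm x g (H21.irrOne G) = 1 := by simp [tm]

theorem bnd1 {x g : G} {χ : IrrCharacter G} {d : ℕ} {b c : ℝ} (hd : charDegree (χ : G → ℂ) = d)
    (hb : ‖(χ : G → ℂ) g‖ ≤ b) (hc : ‖(χ : G → ℂ) x‖ ^ 2 ≤ c) : ‖tm x g χ‖ ≤ c * b / d := by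
  rw [norm_tm, hd]
  gcongr
  exact (sq_nonneg _).trans hc

theorem bnd {x g : G} {P : Finset (IrrCharacter G)} {d : ℕ} {b c : ℝ} (hd : ∀ χ ∈ P, charDegree (χ : G → ℂ) = d)
    (b0 : 0 ≤ b) (hb : ∀ χ ∈ P, ‖(χ : G → ℂ) g‖ ≤ b) (hc : ∑ χ ∈ P, ‖(χ : G → ℂ) x‖ ^ 2 ≤ c) :
    ‖∑ χ ∈ P, tm x g χ‖ ≤ c * b / d := by
  refine (norm_sum_le _ _).trans ((Finset.sum_le_sum fun χ h => bnd1 (hd χ h) (hb χ h) le_rfl).trans ?_)
  rw [← Finset.sum_div, ← Finset.sum_mul]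
  gcongr

theorem zl {x g : G} {χ : IrrCharacter G} (h : (χ : G → ℂ) x = 0) : tm x g χ = 0 := by simp [tm, h]

theorem zr {x g : G} {χ : IrrCharacter G} (h : (χ : G → ℂ) g = 0) : tm x g χ = 0 := by simp [tm, h]

theorem ne_of_bnd {a b c d e f : ℂ} {r₁ r₂ r₃ r₄ r₅ : ℝ} (h1 : ‖a‖ ≤ r₁) (h2 : ‖b‖ ≤ r₂) (h3 : ‖c‖ ≤ r₃) (h4 : ‖d‖ ≤ r₄)
    (h5 : ‖e + f‖ ≤ r₅) (h : r₁ + r₂ + r₃ + r₄ + r₅ < 1) : 1 + a + b + c + d + e + f ≠ 0 := fun h0 => by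
  have h6 : (1 : ℂ) = -(a + b + c + d + (e + f)) := by linear_combination h0
  have := congrArg norm h6
  rw [norm_one, norm_neg] at this
  linarith [norm_add_le (a + b + c + d) (e + f), norm_add_le (a + b + c) d, norm_add_le (a + b) c, norm_add_le a b]

theorem norm_le_of_card (χ : IrrCharacter G) {g : G} {b : ℕ} (h : Nat.card (Subgroup.centralizer ({g} : Set G)) ≤ b ^ 2) :
    ‖(χ : G → ℂ) g‖ ≤ b := by
  refine abs_le_of_sq_le_sq' ?_ (by positivity) |>.2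
  refine (Finset.single_le_sum (f := fun χ : IrrCharacter G => ‖(χ : G → ℂ) g‖ ^ 2) (fun _ _ => sq_nonneg _)
    (Finset.mem_univ χ)).trans ?_
  rw [sum_norm]
  exact_mod_cast h

section ineq
variable {j : ℝ} (h : 0 ≤ j)
include h

theorem iq0 : 1 * 1 / (8 * j ^ 2 + 16 * j + 8) ^ 2 + (8 * j ^ 2 + 16 * j + 5) * (8 * j ^ 2 + 16 * j + 8) /
    ((8 * j ^ 2 + 16 * j + 8) ^ 2 + 1) + 0 + 0 + 0 < 1 := by
  rw [add_zero, add_zero, add_zero, div_add_div _ _ (by positivity) (by positivity), div_lt_one (by positivity)]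
  linarith [pow_nonneg h 2, pow_nonneg h 3, pow_nonneg h 4, pow_nonneg h 5, pow_nonneg h 6, pow_nonneg h 7, pow_nonneg h 8]

theorem iq2 : 1 * 1 / (8 * j ^ 2 + 16 * j + 8) ^ 2 + 0 + 0 + (8 * j ^ 2 + 12 * j + 1) * (8 * j ^ 2 + 16 * j + 8) /
    ((8 * j ^ 2 + 16 * j + 7) * (8 * j ^ 2 + 20 * j + 13)) +
    (1 * (2 * j + 2) / ((8 * j ^ 2 + 16 * j + 7) * (2 * j + 2)) + 1 * (2 * j + 2) / ((8 * j ^ 2 + 16 * j + 7) * (2 * j + 2))) < 1 := by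
  have : (8 * j ^ 2 + 12 * j + 1) * (8 * j ^ 2 + 16 * j + 8) / ((8 * j ^ 2 + 16 * j + 7) * (8 * j ^ 2 + 20 * j + 13)) +
      (1 * (2 * j + 2) / ((8 * j ^ 2 + 16 * j + 7) * (2 * j + 2)) + 1 * (2 * j + 2) / ((8 * j ^ 2 + 16 * j + 7) * (2 * j + 2))) =
      ((8 * j ^ 2 + 12 * j + 1) * (8 * j ^ 2 + 16 * j + 8) + 2 * (8 * j ^ 2 + 20 * j + 13)) /
        ((8 * j ^ 2 + 16 * j + 7) * (8 * j ^ 2 + 20 * j + 13)) := by
    field_simp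
    ring
  rw [add_zero, add_zero, add_assoc, this, div_add_div _ _ (by positivity) (by positivity), div_lt_one (by positivity)]
  linarith [pow_nonneg h 2, pow_nonneg h 3, pow_nonneg h 4, pow_nonneg h 5, pow_nonneg h 6, pow_nonneg h 7, pow_nonneg h 8]

theorem iq1 : 1 * 1 / (8 * j ^ 2 + 16 * j + 8) ^ 2 + 0 + (8 * j ^ 2 + 20 * j + 9) * (4 * j + 3) /
    ((8 * j ^ 2 + 16 * j + 7) * (8 * j ^ 2 + 12 * j + 5)) + 0 + 2 / ((8 * j ^ 2 + 16 * j + 7) * (2 * j + 2)) < 1 := by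
  have h1 : 1 * 1 / (8 * j ^ 2 + 16 * j + 8) ^ 2 ≤ 1 / 64 := by
    rw [div_le_div_iff₀ (by positivity) (by positivity)]
    linarith [pow_nonneg h 2, pow_nonneg h 3, pow_nonneg h 4]
  have h2 : (8 * j ^ 2 + 20 * j + 9) * (4 * j + 3) / ((8 * j ^ 2 + 16 * j + 7) * (8 * j ^ 2 + 12 * j + 5)) ≤ 27 / 35 := by
    rw [div_le_div_iff₀ (by positivity) (by positivity)]
    linarith [pow_nonneg h 2, pow_nonneg h 3, pow_nonneg h 4]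
  have h3 : 2 / ((8 * j ^ 2 + 16 * j + 7) * (2 * j + 2)) ≤ 1 / 7 := by
    rw [div_le_div_iff₀ (by positivity) (by positivity)]
    linarith [pow_nonneg h 2, pow_nonneg h 3, pow_nonneg h 4]
  linarith

theorem iq3 : 0 + (4 * j ^ 2 + 8 * j + 3) * 1 / ((8 * j ^ 2 + 16 * j + 8) ^ 2 + 1) + (2 * j ^ 2 + 5 * j + 3) * (4 * j + 3) /
    ((8 * j ^ 2 + 16 * j + 7) * (8 * j ^ 2 + 12 * j + 5)) + (2 * j ^ 2 + 3 * j + 1) * (8 * j ^ 2 + 16 * j + 8) /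
    ((8 * j ^ 2 + 16 * j + 7) * (8 * j ^ 2 + 20 * j + 13)) +
    (2 * j + 2) ^ 2 * 2 / ((8 * j ^ 2 + 16 * j + 7) * (2 * j + 2)) < 1 := by
  have : 0 + (4 * j ^ 2 + 8 * j + 3) * 1 / ((8 * j ^ 2 + 20 * j + 13) * (8 * j ^ 2 + 12 * j + 5)) +
      (2 * j ^ 2 + 5 * j + 3) * (4 * j + 3) / ((8 * j ^ 2 + 16 * j + 7) * (8 * j ^ 2 + 12 * j + 5)) +
      (2 * j ^ 2 + 3 * j + 1) * (8 * j ^ 2 + 16 * j + 8) / ((8 * j ^ 2 + 16 * j + 7) * (8 * j ^ 2 + 20 * j + 13)) +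
      (2 * j + 2) ^ 2 * 2 / ((8 * j ^ 2 + 16 * j + 7) * (2 * j + 2)) =
      ((4 * j ^ 2 + 8 * j + 3) * (8 * j ^ 2 + 16 * j + 7) + (2 * j ^ 2 + 5 * j + 3) * (4 * j + 3) * (8 * j ^ 2 + 20 * j + 13) +
        (2 * j ^ 2 + 3 * j + 1) * (8 * j ^ 2 + 16 * j + 8) * (8 * j ^ 2 + 12 * j + 5) +
        (4 * j + 4) * (8 * j ^ 2 + 20 * j + 13) * (8 * j ^ 2 + 12 * j + 5)) /
        ((8 * j ^ 2 + 16 * j + 7) * (8 * j ^ 2 + 20 * j + 13) * (8 * j ^ 2 + 12 * j + 5)) := by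
    field_simp
    ring
  rw [show (8 * j ^ 2 + 16 * j + 8) ^ 2 + 1 = (8 * j ^ 2 + 20 * j + 13) * (8 * j ^ 2 + 12 * j + 5) by ring, this,
    div_lt_one (by positivity)]
  linarith [pow_nonneg h 2, pow_nonneg h 3, pow_nonneg h 4, pow_nonneg h 5, pow_nonneg h 6]

theorem iq4 : 0 + (4 * j ^ 2 + 8 * j + 3) * (8 * j ^ 2 + 16 * j + 8) / ((8 * j ^ 2 + 16 * j + 8) ^ 2 + 1) + 0 + 0 + 0 < 1 := by
  rw [add_zero, add_zero, add_zero, zero_add, div_lt_one (by positivity)]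
  linarith [pow_nonneg h 2, pow_nonneg h 3, pow_nonneg h 4]

end ineq

/-- bounds for the character values at `g` -/
structure Gd (j : ℕ) (St W₁ W₂ : IrrCharacter G) (P₁ : Finset (IrrCharacter G)) (g : G) : Prop where
  q : ∀ χ : IrrCharacter G, ‖(χ : G → ℂ) g‖ ≤ 8 * j ^ 2 + 16 * j + 8
  st : ‖(St : G → ℂ) g‖ ≤ 1
  w1 : ‖(W₁ : G → ℂ) g‖ ≤ 2 * j + 2
  w2 : ‖(W₂ : G → ℂ) g‖ ≤ 2 * j + 2
  p1 : ∀ χ ∈ P₁, ‖(χ : G → ℂ) g‖ ≤ 4 * j + 3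

/-- further bounds -/
def Alt (W₁ W₂ : IrrCharacter G) (X P₁ P₂ : Finset (IrrCharacter G)) (g : G) : Prop :=
  ‖(W₁ : G → ℂ) g + (W₂ : G → ℂ) g‖ ≤ 2 ∧ ((∀ χ ∈ X, ‖(χ : G → ℂ) g‖ ≤ 1) ∨
    ((∀ χ ∈ P₁, (χ : G → ℂ) g = 0) ∧ (∀ χ ∈ P₂, (χ : G → ℂ) g = 0) ∧ (W₁ : G → ℂ) g = 0 ∧ (W₂ : G → ℂ) g = 0))

namespace Tw
variable {j : ℕ} {A₀ A₁ A₂ : Subgroup G} {St W₁ W₂ : IrrCharacter G} {X P₁ P₂ : Finset (IrrCharacter G)} {σ ρ : G}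
  {Z : Subgroup G} (E : Tw j St σ ρ Z) (D : SzD j A₀ A₁ A₂ St) (T : Tab j A₀ A₁ A₂ St W₁ W₂ X P₁ P₂)
  (R₂ : ∀ y ∈ A₂, IsConj y y⁻¹)
include E D T

theorem w_ρ : (W₁ : G → ℂ) ρ + (W₂ : G → ℂ) ρ = 0 := by
  obtain ⟨h1, h2, -⟩ := E.val_ρ D T
  rw [h1, Complex.add_conj, h2]; simp

theorem p1_ρ {χ : IrrCharacter G} (h : χ ∈ P₁) : (χ : G → ℂ) ρ = -1 := by
  rw [T.v1 χ h ρ (E.off_ρ D).2.1, E.sρ, sub_sub, E.w_ρ D T]; simp

theorem x_ρ {χ : IrrCharacter G} (h : χ ∈ X) : (χ : G → ℂ) ρ = 1 := by rw [T.vX χ h ρ (E.off_ρ D).1, E.sρ, add_zero]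

theorem p1_σ {χ : IrrCharacter G} (h : χ ∈ P₁) : (χ : G → ℂ) σ = (4 * j + 3 : ℝ) := by
  rw [T.v1 χ h σ (E.off_σ D).2.1, E.sσ, (E.val_σ D T).1, (E.val_σ D T).2]; push_cast; ring

omit E in
theorem x_1 {χ : IrrCharacter G} (h : χ ∈ X) : Cst A₁ χ 0 := fun y hy y1 => by
  rw [T.vX χ h y (D.off01 hy y1), D.s1 y hy y1]; simp

omit E in
theorem x_2 {χ : IrrCharacter G} (h : χ ∈ X) : Cst A₂ χ 0 := fun y hy y1 => by
  rw [T.vX χ h y (D.off02 hy y1), D.s2 y hy y1]; simp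

omit E in
theorem sum_1 {y : G} (hy : y ∈ A₁) (y1 : y ≠ 1) : ∑ χ ∈ P₁, ‖(χ : G → ℂ) y‖ ^ 2 = 8 * j ^ 2 + 20 * j + 9 := by
  have := T.norm y
  rw [D.s1 y hy y1, T.w11 y hy y1, T.w21 y hy y1, D.c1.cent y hy y1, D.n1,
    Finset.sum_eq_zero (s := X) fun χ h => by simp [x_1 D T h y hy y1],
    Finset.sum_eq_zero (s := P₂) fun χ h => by simp [T.z21 χ h y hy y1]] at this
  simp only [norm_neg, norm_one] at this
  push_cast at this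
  linarith

include R₂ in
theorem w_2 {y : G} (hy : y ∈ A₂) (y1 : y ≠ 1) : (W₁ : G → ℂ) y = -1 ∧ (W₂ : G → ℂ) y = -1 := by
  obtain ⟨η, hη⟩ := Finset.card_pos.1 (T.c1 ▸ by omega : 0 < P₁.card)
  have h1 := T.v1 η hη y (D.off12 hy y1)
  have h2 := (E.val_ρ D T).1 y
  rw [real_of_conj W₁ (R₂ y hy)] at h2
  rw [T.z12 η hη y hy y1, D.s2 y hy y1, h2] at h1
  rw [h2]
  constructor <;> linear_combination h1 / 2

theorem gd_σ : Gd j St W₁ W₂ P₁ σ := by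
  have h : ‖(-(2 * j + 2) : ℂ)‖ = 2 * j + 2 := by
    rw [norm_neg, show (2 * j + 2 : ℂ) = (2 * j + 2 : ℕ) by simp, Complex.norm_natCast]; simp
  refine ⟨fun χ => by exact_mod_cast norm_le_of_card χ E.cσ.le, by simp [E.sσ], by rw [(E.val_σ D T).1, h],
    by rw [(E.val_σ D T).2, h], fun χ hχ => ?_⟩
  rw [E.p1_σ D T hχ, Complex.norm_real, Real.norm_of_nonneg (by positivity)]

theorem gd_ρ {g : G} (hg : g = ρ ∨ g = ρ⁻¹) : Gd j St W₁ W₂ P₁ g ∧ Alt W₁ W₂ X P₁ P₂ g := by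
  have k : ∀ χ : IrrCharacter G, ‖(χ : G → ℂ) g‖ = ‖(χ : G → ℂ) ρ‖ := fun χ => by
    rcases hg with rfl | rfl
    · rfl
    · rw [χ.2.apply_inv, Complex.norm_conj]
  have j0 : (0 : ℝ) ≤ j := by positivity
  obtain ⟨h1, -, h2, -⟩ := E.val_ρ D T
  refine ⟨⟨fun χ => ?_, by simp [k, E.sρ], by rw [k, h2], by rw [k, h1, Complex.norm_conj, h2], fun χ hχ => ?_⟩, ?_,
    .inl fun χ hχ => by simp [k, E.x_ρ D T hχ]⟩
  · rw [k]
    exact_mod_cast norm_le_of_card χ (b := 8 * j ^ 2 + 16 * j + 8) (by rw [E.cρ]; nlinarith)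
  · rw [k, E.p1_ρ D T hχ, norm_neg, norm_one]; linarith
  · rcases hg with rfl | rfl
    · simp [E.w_ρ D T]
    · rw [W₁.2.apply_inv, W₂.2.apply_inv, ← map_add, E.w_ρ D T]; simp

include R₂ in
theorem gd_A {g : G} (g1 : g ≠ 1) (hg : g ∈ A₀ ∨ g ∈ A₁ ∨ g ∈ A₂) : Gd j St W₁ W₂ P₁ g ∧ Alt W₁ W₂ X P₁ P₂ g := by
  have j0 : (0 : ℝ) ≤ j := by positivity
  have hq : ∀ χ : IrrCharacter G, ‖(χ : G → ℂ) g‖ ≤ 8 * j ^ 2 + 16 * j + 8 := fun χ => by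
    refine mod_cast norm_le_of_card χ (b := 8 * j ^ 2 + 16 * j + 8) ?_
    rcases hg with hg | hg | hg
    · rw [D.c0.cent g hg g1, D.n0]; nlinarith
    · rw [D.c1.cent g hg g1, D.n1]; nlinarith
    · rw [D.c2.cent g hg g1, D.n2]; nlinarith
  rcases hg with hg | hg | hg
  · have h1 := T.w10 g hg g1
    have h2 := T.w20 g hg g1
    exact ⟨⟨hq, by simp [D.s0 g hg g1], by rw [h1, norm_zero]; positivity, by rw [h2, norm_zero]; positivity,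
      fun χ h => by rw [T.z10 χ h g hg g1, norm_zero]; positivity⟩, by simp [h1, h2],
      .inr ⟨fun χ h => T.z10 χ h g hg g1, fun χ h => T.z20 χ h g hg g1, h1, h2⟩⟩
  · have h1 := T.w11 g hg g1
    have h2 := T.w21 g hg g1
    refine ⟨⟨hq, by simp [D.s1 g hg g1], by rw [h1, norm_one]; linarith, by rw [h2, norm_one]; linarith,
      fun χ h => (abs_le_of_sq_le_sq' ?_ (by positivity)).2⟩, by rw [h1, h2]; norm_num,
      .inl fun χ h => by simp [x_1 D T h g hg g1]⟩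
    refine (Finset.single_le_sum (f := fun χ : IrrCharacter G => ‖(χ : G → ℂ) g‖ ^ 2) (fun _ _ => sq_nonneg _) h).trans ?_
    rw [sum_1 D T hg g1]
    nlinarith
  · obtain ⟨h1, h2⟩ := E.w_2 D T R₂ hg g1
    exact ⟨⟨hq, by simp [D.s2 g hg g1], by rw [h1, norm_neg, norm_one]; linarith, by rw [h2, norm_neg, norm_one]; linarith,
      fun χ h => by rw [T.z12 χ h g hg g1, norm_zero]; positivity⟩, by rw [h1, h2]; norm_num,
      .inl fun χ h => by simp [x_2 D T h g hg g1]⟩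

omit E in
theorem ne_0 {x g : G} (hx : x ∈ A₀) (x1 : x ≠ 1) (h : Gd j St W₁ W₂ P₁ g) : ∑ χ, tm x g χ ≠ 0 := by
  have hn := T.norm x
  rw [D.s0 x hx x1, T.w10 x hx x1, T.w20 x hx x1, D.c0.cent x hx x1, D.n0,
    Finset.sum_eq_zero (s := P₁) fun χ h => by simp [T.z10 χ h x hx x1],
    Finset.sum_eq_zero (s := P₂) fun χ h => by simp [T.z20 χ h x hx x1]] at hn
  simp only [norm_zero, norm_one] at hn
  push_cast at hn
  rw [T.sum, tm_one, Finset.sum_eq_zero (s := P₁) fun χ h => zl (T.z10 χ h x hx x1),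
    Finset.sum_eq_zero (s := P₂) fun χ h => zl (T.z20 χ h x hx x1), zl (T.w10 x hx x1), zl (T.w20 x hx x1)]
  refine ne_of_bnd (bnd1 D.deg h.st (c := 1) (by simp [D.s0 x hx x1]))
    (bnd T.dX (by positivity) (fun χ _ => h.q χ) (c := 8 * j ^ 2 + 16 * j + 5) (by linarith)) norm_zero.le norm_zero.le
    (r₅ := 0) (by simp) ?_
  push_cast
  exact iq0 (by positivity)

include R₂ in
theorem ne_2 {x g : G} (hx : x ∈ A₂) (x1 : x ≠ 1) (h : Gd j St W₁ W₂ P₁ g) : ∑ χ, tm x g χ ≠ 0 := by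
  obtain ⟨h1, h2⟩ := E.w_2 D T R₂ hx x1
  have hn := T.norm x
  rw [D.s2 x hx x1, h1, h2, D.c2.cent x hx x1, D.n2,
    Finset.sum_eq_zero (s := X) fun χ h => by simp [x_2 D T h x hx x1],
    Finset.sum_eq_zero (s := P₁) fun χ h => by simp [T.z12 χ h x hx x1]] at hn
  simp only [norm_neg, norm_one] at hn
  push_cast at hn
  rw [T.sum, tm_one, Finset.sum_eq_zero (s := X) fun χ h => zl (x_2 D T h x hx x1),
    Finset.sum_eq_zero (s := P₁) fun χ h => zl (T.z12 χ h x hx x1)]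
  refine ne_of_bnd (bnd1 D.deg h.st (c := 1) (by simp [D.s2 x hx x1])) norm_zero.le norm_zero.le
    (bnd T.d2 (by positivity) (fun χ _ => h.q χ) (c := 8 * j ^ 2 + 12 * j + 1) (by linarith))
    ((norm_add_le _ _).trans (add_le_add (bnd1 T.dW₁ h.w1 (c := 1) (by simp [h1])) (bnd1 T.dW₂ h.w2 (c := 1) (by simp [h2])))) ?_
  push_cast
  exact iq2 (by positivity)

omit E in
theorem ne_1 {x g : G} (hx : x ∈ A₁) (x1 : x ≠ 1) (h : Gd j St W₁ W₂ P₁ g) (h' : Alt W₁ W₂ X P₁ P₂ g) :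
    ∑ χ, tm x g χ ≠ 0 := by
  rw [T.sum, tm_one, Finset.sum_eq_zero (s := X) fun χ h => zl (x_1 D T h x hx x1),
    Finset.sum_eq_zero (s := P₂) fun χ h => zl (T.z21 χ h x hx x1)]
  refine ne_of_bnd (bnd1 D.deg h.st (c := 1) (by simp [D.s1 x hx x1])) norm_zero.le
    (bnd T.d1 (by positivity) h.p1 (sum_1 D T hx x1).le) norm_zero.le
    (r₅ := 2 / ((8 * j ^ 2 + 16 * j + 7) * (2 * j + 2) : ℕ)) ?_ ?_
  · rw [tm, tm, T.w11 x hx x1, T.w21 x hx x1, app_one, app_one, T.dW₁, T.dW₂, ← add_div, one_mul, one_mul, one_mul,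
      ← map_add, norm_div, Complex.norm_conj, Complex.norm_natCast]
    gcongr
    exact h'.1
  · push_cast
    exact iq1 (by positivity)

theorem ne_1σ {x : G} (hx : x ∈ A₁) (x1 : x ≠ 1) (hr : IsConj x x⁻¹) : ∑ χ, tm x σ χ ≠ 0 := by
  rw [T.sum, tm_one, Finset.sum_eq_zero (s := X) fun χ h => zl (x_1 D T h x hx x1),
    Finset.sum_eq_zero (s := P₂) fun χ h => zl (T.z21 χ h x hx x1), zr E.sσ,
    Finset.sum_congr (s₁ := P₁) rfl (g := fun χ => ((‖(χ : G → ℂ) x‖ ^ 2 * (4 * j + 3) /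
      ((8 * j ^ 2 + 16 * j + 7) * (8 * j ^ 2 + 12 * j + 5) : ℕ) : ℝ) : ℂ)) fun χ hχ => by
      rw [tm, sq_of_real (real_of_conj χ hr), E.p1_σ D T hχ, Complex.conj_ofReal, app_one, T.d1 χ hχ]; push_cast; rfl,
    ← Complex.ofReal_sum, tm, tm, T.w11 x hx x1, T.w21 x hx x1, app_one, app_one, T.dW₁, T.dW₂, (E.val_σ D T).1,
    (E.val_σ D T).2]
  have p : 0 ≤ ∑ χ ∈ P₁, ‖(χ : G → ℂ) x‖ ^ 2 * (4 * j + 3) /
      ((8 * j ^ 2 + 16 * j + 7) * (8 * j ^ 2 + 12 * j + 5) : ℕ) := by positivity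
  generalize ∑ χ ∈ P₁, ‖(χ : G → ℂ) x‖ ^ 2 * (4 * j + 3) /
      ((8 * j ^ 2 + 16 * j + 7) * (8 * j ^ 2 + 12 * j + 5) : ℕ) = z at p
  have e : (1 * 1 * conj (-(2 * j + 2) : ℂ) / ((8 * j ^ 2 + 16 * j + 7) * (2 * j + 2) : ℕ)) =
      ((-1 / (8 * j ^ 2 + 16 * j + 7) : ℝ) : ℂ) := by
    have h1 : (2 * j + 2 : ℂ) ≠ 0 := by exact_mod_cast (by omega : 2 * j + 2 ≠ 0)
    have h2 : (8 * j ^ 2 + 16 * j + 7 : ℂ) ≠ 0 := by exact_mod_cast (by omega : 8 * j ^ 2 + 16 * j + 7 ≠ 0)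
    simp only [map_neg, map_add, map_mul, map_natCast, map_ofNat]
    push_cast
    field_simp
  rw [e]
  have h3 : (1 / (8 * j ^ 2 + 16 * j + 7) : ℝ) ≤ 1 / 7 := by
    gcongr; exact le_add_of_nonneg_left (by positivity)
  intro h0
  have h4 : (1 + 0 + 0 + z + 0 + -1 / (8 * j ^ 2 + 16 * j + 7) + -1 / (8 * j ^ 2 + 16 * j + 7) : ℝ) = 0 := by exact_mod_cast h0
  rw [neg_div] at h4
  linarith

theorem ne_ρ {g : G} (h : Gd j St W₁ W₂ P₁ g) (h' : Alt W₁ W₂ X P₁ P₂ g) : ∑ χ, tm ρ g χ ≠ 0 := by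
  obtain ⟨h1, h2, h3, h4⟩ := E.val_ρ D T
  have sX : ∑ χ ∈ X, ‖(χ : G → ℂ) ρ‖ ^ 2 ≤ 4 * j ^ 2 + 8 * j + 3 := by
    rw [Finset.sum_congr rfl fun χ hχ => by rw [E.x_ρ D T hχ], Finset.sum_const, T.cX]; simp
  have s1 : ∑ χ ∈ P₁, ‖(χ : G → ℂ) ρ‖ ^ 2 ≤ 2 * j ^ 2 + 5 * j + 3 := by
    rw [Finset.sum_congr rfl fun χ hχ => by rw [E.p1_ρ D T hχ], Finset.sum_const, T.c1]; simp
  rw [T.sum, tm_one, zl E.sρ]
  rcases h'.2 with hX | ⟨z1, z2, z3, z4⟩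
  · refine ne_of_bnd norm_zero.le (bnd T.dX zero_le_one hX sX) (bnd T.d1 (by positivity) h.p1 s1)
      (bnd T.d2 (by positivity) (fun χ _ => h.q χ) h4.le)
      (r₅ := (2 * j + 2) ^ 2 * 2 / ((8 * j ^ 2 + 16 * j + 7) * (2 * j + 2) : ℕ)) ?_ ?_
    · rw [tm, tm, eq_neg_of_add_eq_zero_right (E.w_ρ D T), neg_mul_neg, app_one, app_one, T.dW₁, T.dW₂, ← add_div,
        ← mul_add, ← map_add, norm_div, norm_mul, norm_mul, Complex.norm_conj, Complex.norm_natCast, h3, ← pow_two]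
      gcongr
      exact h'.1
    · push_cast
      exact iq3 (by positivity)
  · rw [Finset.sum_eq_zero (s := P₁) fun χ h => zr (z1 χ h), Finset.sum_eq_zero (s := P₂) fun χ h => zr (z2 χ h), zr z3,
      zr z4]
    refine ne_of_bnd norm_zero.le (bnd T.dX (by positivity) (fun χ _ => h.q χ) sX) norm_zero.le norm_zero.le
      (r₅ := 0) (by simp) ?_
    push_cast
    exact iq4 (by positivity)

include R₂ in
theorem SS_ne (R₁ : ∀ y ∈ A₁, IsConj y y⁻¹) {x g : G} (hx : x = ρ ∨ x ≠ 1 ∧ (x ∈ A₀ ∨ x ∈ A₁ ∨ x ∈ A₂))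
    (hg : g = σ ∨ (g = ρ ∨ g = ρ⁻¹) ∨ g ≠ 1 ∧ (g ∈ A₀ ∨ g ∈ A₁ ∨ g ∈ A₂)) : (x = ρ ∧ g = σ) ∨ ∑ χ, tm x g χ ≠ 0 := by
  rcases hg with rfl | hg
  · rcases hx with rfl | ⟨x1, hx | hx | hx⟩
    exacts [.inl ⟨rfl, rfl⟩, .inr (ne_0 D T hx x1 (E.gd_σ D T)), .inr (E.ne_1σ D T hx x1 (R₁ x hx)),
      .inr (E.ne_2 D T R₂ hx x1 (E.gd_σ D T))]
  · obtain ⟨h1, h2⟩ := hg.elim (E.gd_ρ D T) fun h => E.gd_A D T R₂ h.1 h.2
    rcases hx with rfl | ⟨x1, hx | hx | hx⟩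
    exacts [.inr (E.ne_ρ D T h1 h2), .inr (ne_0 D T hx x1 h1), .inr (ne_1 D T hx x1 h1 h2), .inr (E.ne_2 D T R₂ hx x1 h1)]

end Tw

end H20.CCX
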